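import Mathlib
import Cfsg.Agent.Lib.helper8.BGTen2

/-!
Bender–Glauberman Theorem 10.2(b): `M_σ` is a Hall `σ(M)`-subgroup of `M` and of `G`
(on top of helper8's `BGTen1`/`BGTen2`, with the uniqueness theorem and the fusion lemma as
hypotheses `BGUniqHyp`, `BGFusHyp`).
-/

set_option autoImplicit false
open Cfsg

namespace Cfsg.Agent.Lib.helper25.BGS

open Cfsg.Agent.Lib.helper8

/-- If `N` is a normal `π`-subgroup of `X`, the derived subgroup of `X ⧸ N` is nilpotent and `p ∈ π`
does not divide the index of the derived subgroup of `X`, then `O_π(X)` contains a Sylow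
`p`-subgroup of `X`. -/
theorem not_dvd_index_piCore {X : Type*} [Group X] [Finite X] (π : Set ℕ) (N : Subgroup X)
    [N.Normal] (hNπ : ∀ q : ℕ, q.Prime → q ∣ Nat.card N → q ∈ π)
    (hnil : Group.IsNilpotent ↥(commutator (X ⧸ N))) {p : ℕ} [Fact p.Prime] (hp : p ∈ π)
    (hidx : ¬ p ∣ (commutator X).index) : ¬ p ∣ (piCore π X).index := by
  have hpp : p.Prime := Fact.out
  set C : Subgroup (X ⧸ N) := commutator (X ⧸ N) with hC
  have hCn : C.Normal := by rw [hC]; infer_instance
  obtain ⟨S⟩ : Nonempty (Sylow p C) := inferInstance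
  have htfae : Group.IsNilpotent C ↔ ∀ (p : ℕ) (_hp : Fact p.Prime) (P : Sylow p C),
      (↑P : Subgroup C).Normal := (Group.isNilpotent_of_finite_tfae (G := C)).out 0 3
  have hSn : (S : Subgroup C).Normal := htfae.mp hnil p inferInstance S
  have hSc : (S : Subgroup C).Characteristic := Sylow.characteristic_of_normal S hSn
  set T : Subgroup (X ⧸ N) := (S : Subgroup C).map C.subtype with hT
  have hTn : T.Normal := ConjAct.normal_of_characteristic_of_normal
  have hTp : IsPGroup p T := S.isPGroup'.map _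
  have hTC : T ≤ C := Subgroup.map_subtype_le _
  -- index of `T`
  have hTsub : T.subgroupOf C = (S : Subgroup C) := by
    ext x
    simp [hT, Subgroup.mem_subgroupOf]
  have hTidx : ¬ p ∣ T.index := by
    rw [← Subgroup.relIndex_mul_index hTC]
    intro hd
    rcases (Nat.Prime.dvd_mul hpp).mp hd with h | h
    · unfold Subgroup.relIndex at h
      rw [hTsub] at h
      exact S.not_dvd_index h
    · have hmapc : (commutator X).map (QuotientGroup.mk' N) = commutator (X ⧸ N) := by
        rw [commutator_def, commutator_def, Subgroup.map_commutator,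
          Subgroup.map_top_of_surjective _ (QuotientGroup.mk'_surjective _)]
      have h2 : C.index ∣ (commutator X).index := by
        rw [hC, ← hmapc]
        exact Subgroup.index_map_dvd (commutator X) (QuotientGroup.mk'_surjective N)
      exact hidx (h.trans h2)
  -- the preimage of `T`
  set L : Subgroup X := T.comap (QuotientGroup.mk' N) with hL
  have hLn : L.Normal := Subgroup.normal_comap _
  have hLidx : L.index = T.index :=
    Subgroup.index_comap_of_surjective T (QuotientGroup.mk'_surjective N)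
  have hcard : Nat.card L = Nat.card T * Nat.card N := by
    have h2 : L.index * Nat.card L = Nat.card X := Subgroup.index_mul_card L
    have h3 : T.index * Nat.card T = Nat.card (X ⧸ N) := Subgroup.index_mul_card T
    have h4 : Nat.card X = Nat.card (X ⧸ N) * Nat.card N :=
      Subgroup.card_eq_card_quotient_mul_card_subgroup N
    have h5 : T.index ≠ 0 := Subgroup.index_ne_zero_of_finite
    have h6 : T.index * Nat.card L = T.index * (Nat.card T * Nat.card N) := by
      rw [← hLidx, h2, h4, ← h3, hLidx, mul_assoc]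
    exact Nat.eq_of_mul_eq_mul_left (Nat.pos_of_ne_zero h5) h6
  have hLπ : ∀ q : ℕ, q.Prime → q ∣ Nat.card L → q ∈ π := by
    intro q hq hdvd
    rw [hcard] at hdvd
    rcases (Nat.Prime.dvd_mul hq).mp hdvd with h | h
    · obtain ⟨n, hn⟩ := IsPGroup.iff_card.mp hTp
      rw [hn] at h
      have := (Nat.prime_dvd_prime_iff_eq hq hpp).mp (hq.dvd_of_dvd_pow h)
      exact this ▸ hp
    · exact hNπ q hq h
  have hLle : L ≤ piCore π X := le_sSup ⟨hLn, hLπ⟩
  intro hd
  apply hTidx
  rw [← hLidx]
  exact hd.trans (Subgroup.index_dvd_of_le hLle)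

variable {G : Type*} [Group G]

/-- B-G Theorem 10.2(b): for `p ∈ σ(M)`, `O_σ(M)` contains a Sylow `p`-subgroup of `M`. -/
theorem sigma_core_not_dvd_index [Finite G] (hG : IsMinSimpleOddOrder G) (hU : BGUniqHyp G)
    (hF : BGFusHyp G) (M : Subgroup G) (hM : IsCoatom M) {p : ℕ} (hp : p ∈ sigma M) :
    ¬ p ∣ (piCore (sigma M) ↥M).index := by
  have : Fact p.Prime := ⟨hp.1⟩
  obtain ⟨-, -, hnil⟩ := bg_alpha_core_main hG hU hF M hM
  have hres := bg_sigma_residual hG hF M hM hp
  have hidx : ¬ p ∣ (commutator ↥M).index :=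
    bg_not_dvd_index_of_comm hres (commutator ↥M) le_rfl
  have hNπ : ∀ q : ℕ, q.Prime → q ∣ Nat.card (piCore (alpha M) ↥M) → q ∈ sigma M := by
    intro q hq hd
    exact bg_alpha_sub_sigma hG hU M hM
      (Cfsg.Agent.Lib.helper65.piCore_isPiGrp (G := M) (alpha M) q hq hd)
  exact not_dvd_index_piCore (sigma M) (piCore (alpha M) ↥M) hNπ hnil hp hidx

/-- B-G Theorem 10.2(b), in the form of statement S1350. -/
theorem sigma_core_statement [Finite G] (hG : IsMinSimpleOddOrder G) (hU : BGUniqHyp G)
    (hF : BGFusHyp G) (M : Subgroup G) (hM : IsCoatom M) :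
    IsPiHallOf (sigma M) (sigmaCore M) M ∧ IsPiHall (sigma M) (sigmaCore M) ∧
      ∀ N : Subgroup G, M ≤ Subgroup.normalizer (N : Set G) → IsPiHallOf (sigma M) N M →
        N = sigmaCore M := by
  have hHall : ∀ p : ℕ, p ∈ sigma M → ¬ p ∣ (piCore (sigma M) ↥M).index :=
    fun p hp => sigma_core_not_dvd_index hG hU hF M hM hp
  have hNπ := Cfsg.Agent.Lib.helper65.piCore_isPiGrp (G := M) (sigma M)
  have hle : sigmaCore M ≤ M := Subgroup.map_subtype_le _
  have hcardσ : Nat.card (sigmaCore M) = Nat.card (piCore (sigma M) ↥M) := by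
    unfold sigmaCore
    exact Subgroup.card_map_of_injective M.subtype_injective
  have hπ : ∀ p : ℕ, p.Prime → p ∣ Nat.card (sigmaCore M) → p ∈ sigma M := by
    intro p hp hd
    rw [hcardσ] at hd
    exact hNπ p hp hd
  have hrel : (sigmaCore M).relIndex M = (piCore (sigma M) ↥M).index := by
    unfold sigmaCore Subgroup.relIndex
    have : (Subgroup.map M.subtype (piCore (sigma M) ↥M)).subgroupOf M = piCore (sigma M) ↥M := by
      ext x
      simp [Subgroup.mem_subgroupOf]
    rw [this]
  have hrel' : ∀ p : ℕ, p.Prime → p ∈ sigma M → ¬ p ∣ (sigmaCore M).relIndex M := by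
    intro p _ hp
    rw [hrel]
    exact hHall p hp
  refine ⟨⟨hle, hπ, hrel'⟩, ⟨hπ, ?_⟩, ?_⟩
  · intro p hpp hp hd
    rw [← Subgroup.relIndex_mul_index hle] at hd
    rcases (Nat.Prime.dvd_mul hpp).mp hd with h | h
    · exact hrel' p hpp hp h
    · exact bg_sigma_not_dvd_index M hp h
  · rintro N hMN ⟨hNM, hNσ, hNrel⟩
    -- `N ≤ M_σ`
    have hNn : (N.subgroupOf M).Normal := (Subgroup.normal_subgroupOf_iff_le_normalizer hNM).mpr hMN
    have hNcard : Nat.card (N.subgroupOf M) = Nat.card N :=
      Nat.card_congr (Subgroup.subgroupOfEquivOfLe hNM).toEquiv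
    have hNle : N.subgroupOf M ≤ piCore (sigma M) ↥M :=
      le_sSup ⟨hNn, fun q hq hd => hNσ q hq (hNcard ▸ hd)⟩
    have hNs : N ≤ sigmaCore M := by
      intro x hx
      exact ⟨⟨x, hNM hx⟩, hNle (Subgroup.mem_subgroupOf.mpr hx), rfl⟩
    apply le_antisymm hNs
    rw [← Subgroup.relIndex_eq_one]
    by_contra hne
    obtain ⟨q, hq, hqd⟩ := Nat.exists_prime_and_dvd hne
    have h1 : q ∈ sigma M := hπ q hq (hqd.trans (Subgroup.relIndex_dvd_card _ _))
    have h2 : q ∣ N.relIndex M := by
      rw [← Subgroup.relIndex_mul_relIndex N (sigmaCore M) M hNs hle]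
      exact hqd.mul_right _
    exact hNrel q hq h1 h2

end Cfsg.Agent.Lib.helper25.BGS
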