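import Mathlib
import Cfsg.Agent.S1414
import Cfsg.Agent.S1350
import Cfsg.Agent.S1403
import Cfsg.Agent.Lib.helper13.BG11a
import Cfsg.Agent.Lib.helper8.BGTwelve
import Cfsg.Agent.Lib.helper71.BGTenB
import Cfsg.Agent.Lib.helper76.SylowBasic
import Cfsg.Agent.Lib.helper56.HallFactor

/-!
Bender–Glauberman, towards Theorem 12.? (S1425): the Frattini factorisation
`H = O_β(H) · N_H(S)` for a Sylow `q`-subgroup `S` of rank at most two, `q ∈ σ(H)`, and the
resulting conjugation of `σ(M)`-subgroups of `H` into `M` (pieces L2, L3 of helper3's plan).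
-/

set_option autoImplicit false

namespace Cfsg.Agent.Lib.helper25.BGT

open Cfsg Cfsg.Agent.Lib.helper8 Cfsg.Agent.Lib.helper13

/-- Abstract Frattini factorisation: `N = B D` normal in `X`, `B` a normal `q'`-subgroup of `X`,
`D` nilpotent, `S` a Sylow `q`-subgroup of `N`; then `X = B · N_X(S)`. -/
theorem frattini_factor {X : Type*} [Group X] [Finite X] (q : ℕ) [Fact q.Prime]
    (B N D S : Subgroup X) [B.Normal] [N.Normal] (hDN : D ≤ N) (hD : Group.IsNilpotent D)
    (hND : N ≤ B ⊔ D) (hSN : S ≤ N) (hSq : IsPGroup q S) (hSyl : ¬ q ∣ S.relIndex N)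
    (hBq : ¬ q ∣ Nat.card B) :
    ∀ x : X, ∃ b ∈ B, ∃ n ∈ Subgroup.normalizer (S : Set X), x = b * n := by
  classical
  have hqp : q.Prime := Fact.out
  obtain ⟨P⟩ : Nonempty (Sylow q D) := inferInstance
  have hq3 := (Group.isNilpotent_of_finite_tfae (G := D)).out 0 3
  have hPn : (P : Subgroup D).Normal := (hq3.mp hD) q inferInstance P
  have hPxq : IsPGroup q ((P : Subgroup D).map D.subtype) := P.isPGroup'.map _
  have hPxN : (P : Subgroup D).map D.subtype ≤ N := (Subgroup.map_subtype_le _).trans hDN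
  -- `D` normalizes the image of `P`
  have hDnorm : ∀ d ∈ D,
      d ∈ Subgroup.normalizer (((P : Subgroup D).map D.subtype : Subgroup X) : Set X) := by
    intro d hd
    have h1 : (⟨d, hd⟩ : D) ∈ Subgroup.normalizer ((P : Subgroup D) : Set D) := by
      rw [Subgroup.normalizer_eq_top]; trivial
    exact coe_mem_normalizer_map_subtype (P : Subgroup D) ⟨d, hd⟩ h1
  -- `S` as a Sylow subgroup of `N`
  have hS' : IsPGroup q (S.subgroupOf N) :=
    hSq.comap_of_injective N.subtype N.subtype_injective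
  obtain ⟨SS, hSS⟩ : ∃ SS : Sylow q N, (SS : Subgroup N) = S.subgroupOf N :=
    ⟨hS'.toSylow hSyl, rfl⟩
  have hPx' : IsPGroup q (((P : Subgroup D).map D.subtype).subgroupOf N) :=
    hPxq.comap_of_injective N.subtype N.subtype_injective
  obtain ⟨Q, hQ⟩ := hPx'.exists_le_sylow
  obtain ⟨y, hy⟩ := MulAction.exists_smul_eq N Q SS
  -- conjugation by `y` sends the image of `P` into `S`
  have hyS : ∀ z ∈ (P : Subgroup D).map D.subtype, (y : X) * z * (y : X)⁻¹ ∈ S := by
    intro z hz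
    have hzN : z ∈ N := hPxN hz
    have h1 : (⟨z, hzN⟩ : N) ∈ (Q : Subgroup N) := hQ (Subgroup.mem_subgroupOf.mpr hz)
    have h2 : y * ⟨z, hzN⟩ * y⁻¹ ∈ ((y • Q : Sylow q N) : Subgroup N) := by
      rw [bg_mem_smul_sylow]
      have : y⁻¹ * (y * ⟨z, hzN⟩ * y⁻¹) * y = ⟨z, hzN⟩ := by group
      rw [this]; exact h1
    rw [hy, hSS] at h2
    exact Subgroup.mem_subgroupOf.mp h2
  -- orders
  have hcard : Nat.card S ∣ Nat.card ((P : Subgroup D).map D.subtype) := by
    rw [Subgroup.card_map_of_injective D.subtype_injective]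
    obtain ⟨k, hk⟩ := IsPGroup.iff_card.mp hSq
    rw [hk]
    have h1 : q ^ k ∣ Nat.card D := by
      have h2 : Nat.card (B ⊔ D : Subgroup X) ∣ Nat.card B * Nat.card D := by
        have h3 := Subgroup.relIndex_mul_relIndex (⊥ : Subgroup X) B (B ⊔ D) bot_le le_sup_left
        rw [Subgroup.relIndex_bot_left, Subgroup.relIndex_bot_left,
          Subgroup.relIndex_sup_left] at h3
        rw [← h3]
        exact Nat.mul_dvd_mul_left _ (Subgroup.relIndex_dvd_card B D)
      have h4 : q ^ k ∣ Nat.card B * Nat.card D := by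
        rw [← hk]
        exact ((Subgroup.card_dvd_of_le hSN).trans (Subgroup.card_dvd_of_le hND)).trans h2
      have hcop : Nat.Coprime (q ^ k) (Nat.card B) :=
        Nat.Coprime.pow_left k ((Nat.Prime.coprime_iff_not_dvd hqp).mpr hBq)
      exact hcop.dvd_of_dvd_mul_left h4
    rw [P.card_eq_multiplicity]
    exact pow_dvd_pow q
      ((Nat.Prime.pow_dvd_iff_le_factorization hqp Nat.card_pos.ne').mp h1)
  have hconj : ((P : Subgroup D).map D.subtype).map (MulAut.conj (y : X)).toMonoidHom = S := by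
    apply Subgroup.eq_of_le_of_card_ge
    · rintro _ ⟨z, hz, rfl⟩
      exact hyS z hz
    · rw [Subgroup.card_map_of_injective (MulAut.conj (y : X)).injective]
      exact Nat.le_of_dvd Nat.card_pos hcard
  -- the conjugate of `D` normalizes `S`
  have hDS : ∀ d ∈ D, (y : X) * d * (y : X)⁻¹ ∈ Subgroup.normalizer (S : Set X) := by
    intro d hd
    rw [← hconj, normalizer_map_conj]
    exact ⟨d, hDnorm d hd, rfl⟩
  -- `N ⊆ B · N(S)`
  have hNfac : ∀ n ∈ N, ∃ b ∈ B, ∃ d ∈ Subgroup.normalizer (S : Set X), n = b * d := by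
    intro n hn
    have h1 : (y : X)⁻¹ * n * (y : X) ∈ B ⊔ D := by
      apply hND
      exact N.mul_mem (N.mul_mem (N.inv_mem y.2) hn) y.2
    rw [← SetLike.mem_coe, Subgroup.normal_mul, Set.mem_mul] at h1
    obtain ⟨b, hb, d, hd, hbd⟩ := h1
    refine ⟨(y : X) * b * (y : X)⁻¹, ‹B.Normal›.conj_mem b hb y, (y : X) * d * (y : X)⁻¹,
      hDS d hd, ?_⟩
    have : (y : X) * b * (y : X)⁻¹ * ((y : X) * d * (y : X)⁻¹) = (y : X) * (b * d) * (y : X)⁻¹ := by
      group
    rw [this, hbd]; group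
  -- Frattini
  have hfr := Sylow.normalizer_sup_eq_top SS
  have hmap : (SS : Subgroup N).map N.subtype = S := by
    rw [hSS, Subgroup.subgroupOf_map_subtype, inf_of_le_left hSN]
  intro x
  have hx : x ∈ Subgroup.normalizer (S : Set X) ⊔ N := by
    rw [← hmap, hfr]; trivial
  rw [← SetLike.mem_coe, Subgroup.mul_normal, Set.mem_mul] at hx
  obtain ⟨m, hm, n, hn, hmn⟩ := hx
  obtain ⟨b, hb, d, hd, hbd⟩ := hNfac n hn
  refine ⟨m * b * m⁻¹, ‹B.Normal›.conj_mem b hb m, m * d,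
    (Subgroup.normalizer (S : Set X)).mul_mem hm hd, ?_⟩
  rw [← hmn, hbd]; group

/-- `piCore` is monotone in the set of primes. -/
theorem piCore_mono_set {X : Type*} [Group X] {π π' : Set ℕ} (h : π ⊆ π') :
    piCore π X ≤ piCore π' X :=
  sSup_le_sSup (fun _ hK => ⟨hK.1, fun p hp hd => h (hK.2 p hp hd)⟩)

/-- `H` normalizes `O_π(H)` (as a subgroup of `G`). -/
theorem le_normalizer_piCoreOf {G : Type*} [Group G] [Finite G] (π : Set ℕ) (H : Subgroup G) :
    H ≤ Subgroup.normalizer (piCoreOf π H : Set G) := by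
  intro m hm
  apply mem_normalizer_of_forall_conj_mem
  rintro _ ⟨y, hy, rfl⟩
  have hn : (piCore π H).Normal := inferInstance
  exact ⟨⟨m, hm⟩ * y * ⟨m, hm⟩⁻¹, hn.conj_mem y hy ⟨m, hm⟩, by simp⟩

/-- **L2.**  Frattini factorisation `H = O_β(H) · N_H(S)`. -/
theorem bg_beta_frattini {G : Type*} [Group G] [Finite G] (hG : Cfsg.IsMinSimpleOddOrder G)
    (H : Subgroup G) (hH : IsCoatom H) (q : ℕ) [Fact q.Prime] (hq : q ∈ Cfsg.sigma H)
    (hr : Cfsg.PRankLE q 2 H) (S : Subgroup G) (hSH : S ≤ H) (hSq : IsPGroup q S)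
    (hSyl : ¬ q ∣ S.relIndex H) :
    ∀ h ∈ H, ∃ b ∈ Cfsg.piCoreOf (Cfsg.beta H) H,
      ∃ n ∈ H ⊓ Subgroup.normalizer (S : Set G), h = b * n := by
  have hU := bgx_uniq hG
  have hF := bgx_fus hG
  obtain ⟨hB1, -, -, ⟨D, hD1, hDnil⟩, -⟩ := Cfsg.Agent.S1414.result hG H hH
  have hSσ : S ≤ sigmaCore H := bg_pgroup_le_sigmaCore hG hU hF H hH hq S hSH hSq
  have hqβ : q ∉ beta H := fun h => h.1.2 hr
  have hσH : sigmaCore H ≤ H := Subgroup.map_subtype_le _
  have hDH : D ≤ H := hD1.1.trans hσH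
  have hβσ : beta H ⊆ sigma H := fun p hp => bg_alpha_sub_sigma hG hU H hH hp.1
  have hBN : piCore (beta H) ↥H ≤ piCore (sigma H) ↥H := piCore_mono_set hβσ
  have hmemσ : ∀ x : ↥H, (x : G) ∈ sigmaCore H → x ∈ piCore (sigma H) ↥H := by
    intro x hx
    exact (Subgroup.mem_map_iff_mem H.subtype_injective).mp hx
  have hDN : D.subgroupOf H ≤ piCore (sigma H) ↥H := fun x hx =>
    hmemσ x (hD1.1 (Subgroup.mem_subgroupOf.mp hx))
  have hSN : S.subgroupOf H ≤ piCore (sigma H) ↥H := fun x hx =>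
    hmemσ x (hSσ (Subgroup.mem_subgroupOf.mp hx))
  have hDnil' : Group.IsNilpotent ↥(D.subgroupOf H) :=
    bg_isNilpotent_of_injective (Subgroup.subgroupOfEquivOfLe hDH).toMonoidHom
      (Subgroup.subgroupOfEquivOfLe hDH).injective hDnil
  have hσeq : (sigmaCore H).subgroupOf H = piCore (sigma H) ↥H := by
    unfold sigmaCore Subgroup.subgroupOf
    exact Subgroup.comap_map_eq_self_of_injective H.subtype_injective _
  have hND : piCore (sigma H) ↥H ≤ piCore (beta H) ↥H ⊔ D.subgroupOf H := by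
    rw [← Subgroup.relIndex_eq_one, Nat.eq_one_iff_not_exists_prime_dvd]
    intro p hp hd
    by_cases hpβ : p ∈ beta H
    · have h1 := hB1.2.2 p hp hpβ
      unfold piCoreOf at h1
      rw [Cfsg.Agent.Lib.helper71.BGA.relIndex_map_subtype] at h1
      exact h1 ((hd.trans (Subgroup.relIndex_dvd_of_le_left _ le_sup_left)).trans
        (Subgroup.relIndex_dvd_index_of_le hBN))
    · have h1 := hD1.2.2 p hp ⟨hp, hpβ⟩
      rw [← Subgroup.relIndex_subgroupOf hσH, hσeq] at h1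
      exact h1 (hd.trans (Subgroup.relIndex_dvd_of_le_left _ le_sup_right))
  have hSq' : IsPGroup q (S.subgroupOf H) :=
    hSq.comap_of_injective H.subtype H.subtype_injective
  have hSyl' : ¬ q ∣ (S.subgroupOf H).relIndex (piCore (sigma H) ↥H) := fun h =>
    hSyl (h.trans (Subgroup.relIndex_dvd_index_of_le hSN))
  have hBq : ¬ q ∣ Nat.card (piCore (beta H) ↥H) := by
    intro h
    apply hqβ
    apply hB1.2.1 q Fact.out
    unfold piCoreOf
    rw [Subgroup.card_map_of_injective H.subtype_injective]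
    exact h
  have key := frattini_factor (X := ↥H) q (piCore (beta H) ↥H) (piCore (sigma H) ↥H)
    (D.subgroupOf H) (S.subgroupOf H) hDN hDnil' hND hSN hSq' hSyl' hBq
  intro h hh
  obtain ⟨b, hb, n, hn, hx⟩ := key ⟨h, hh⟩
  refine ⟨(b : G), ⟨b, hb, rfl⟩, (n : G), ⟨n.2, ?_⟩, congrArg Subtype.val hx⟩
  have h1 := coe_mem_normalizer_map_subtype (S.subgroupOf H) n hn
  rwa [Subgroup.subgroupOf_map_subtype, inf_of_le_left hSH] at h1

/-- A `p`-subgroup is conjugate into any subgroup of index prime to `p`. -/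
theorem conj_le_of_not_dvd_index {G : Type*} [Group G] [Finite G] (p : ℕ) [Fact p.Prime]
    (A M : Subgroup G) (hA : IsPGroup p A) (hM : ¬ p ∣ M.index) :
    ∃ g : G, A.map (MulAut.conj g).toMonoidHom ≤ M := by
  obtain ⟨P, hP⟩ := Cfsg.Agent.Lib.helper76.exists_sylow_le_of_not_dvd_index p M hM
  obtain ⟨Q, hQ⟩ := hA.exists_le_sylow
  obtain ⟨g, hg⟩ := MulAction.exists_smul_eq G Q P
  refine ⟨g, ?_⟩
  rintro _ ⟨a, ha, rfl⟩
  apply hP
  rw [← hg, bg_mem_smul_sylow]
  have : g⁻¹ * ((MulAut.conj g).toMonoidHom a) * g = a := by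
    simp [MulAut.conj_apply]; group
  rw [this]
  exact hQ ha

/-- Two non-conjugate maximal subgroups: a prime `p` for which `H` has rank at least three
divides the index of `M`. -/
theorem rank_three_dvd_index {G : Type*} [Group G] [Finite G] (hG : Cfsg.IsMinSimpleOddOrder G)
    (M H : Subgroup G) (hM : IsCoatom M) (hH : IsCoatom H)
    (hnc : ∀ g : G, H ≠ M.map (MulAut.conj g).toMonoidHom) (p : ℕ) [Fact p.Prime]
    (hr : ¬ Cfsg.PRankLE p 2 H) : p ∣ M.index := by
  by_contra hMi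
  unfold PRankLE at hr
  push Not at hr
  obtain ⟨A, hAc, hAe, hAcard⟩ := hr
  have hE : IsElementaryAbelian p (A.map H.subtype) := bg_elemAb_map A ⟨hAc, hAe⟩
  have hE' := (bg_elemAb_iff _).mp hE
  have hcard : p ^ 2 < Nat.card (A.map H.subtype) := by
    rw [Subgroup.card_map_of_injective H.subtype_injective]; exact hAcard
  have huniq : InUniqueMaximal (A.map H.subtype) :=
    Cfsg.Agent.S1403.elemAb_rank3_uniq hG Fact.out hE'.1 hE'.2 hcard
  have hAp : IsPGroup p (A.map H.subtype) := by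
    intro a
    refine ⟨1, ?_⟩
    rw [pow_one]
    exact Subtype.ext (by simpa using hE'.2 a a.2)
  obtain ⟨g, hg⟩ := conj_le_of_not_dvd_index p (A.map H.subtype) M hAp hMi
  have h1 : A.map H.subtype ≤ M.map (MulAut.conj g⁻¹).toMonoidHom := by
    have h2 := Subgroup.map_mono (f := (MulAut.conj g⁻¹).toMonoidHom) hg
    have h3 := map_conj_inv_map_conj (A.map H.subtype) g⁻¹
    rw [inv_inv] at h3
    rwa [h3] at h2
  have h4 := huniq.unique ⟨hH, Subgroup.map_subtype_le _⟩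
    ⟨Cfsg.Agent.Lib.helper71.BGA.isCoatom_map_conj hM g⁻¹, h1⟩
  exact hnc g⁻¹ h4

/-- **L3.**  `M`, `H` non-conjugate maximal subgroups, `q ∈ σ(H)`, `S ≤ M ∩ H` a Sylow
`q`-subgroup of `H` with `N_G(S) ≤ M`: every `σ(M)`-subgroup of `H` is `H`-conjugate into `M`. -/
theorem bg_sigma_conj_of_sigma {G : Type*} [Group G] [Finite G]
    (hG : Cfsg.IsMinSimpleOddOrder G) (M H : Subgroup G) (hM : IsCoatom M) (hH : IsCoatom H)
    (hne : H ≠ M) (hnc : ∀ g : G, H ≠ M.map (MulAut.conj g).toMonoidHom) (q : ℕ)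
    [Fact q.Prime] (hqH : q ∈ Cfsg.sigma H) (S : Subgroup G) (hSM : S ≤ M) (hSH : S ≤ H)
    (hSq : IsPGroup q S) (hSyl : ¬ q ∣ S.relIndex H)
    (hNS : Subgroup.normalizer (S : Set G) ≤ M) (Y : Subgroup G) (hYH : Y ≤ H)
    (hY : ∀ p : ℕ, p.Prime → p ∣ Nat.card Y → p ∈ Cfsg.sigma M) :
    ∃ h ∈ H, Y.map (MulAut.conj h).toMonoidHom ≤ M := by
  have hU := bgx_uniq hG
  obtain ⟨hodd, hsimple, hna, hsolv⟩ := id hG
  -- (i) the rank of `H` at `q` is at most two
  have hr : Cfsg.PRankLE q 2 H := by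
    by_contra hr
    have h1 := rank_three_dvd_index hG M H hM hH hnc q hr
    have h2 : ¬ q ∣ S.index := by
      rw [← Subgroup.relIndex_mul_index hSH]
      exact Nat.Prime.not_dvd_mul Fact.out hSyl (bg_sigma_not_dvd_index H hqH)
    exact h2 (h1.trans (Subgroup.index_dvd_of_le hSM))
  -- (ii) the Frattini factorisation
  have hfac := bg_beta_frattini hG H hH q hqH hr S hSH hSq hSyl
  -- (iii) `O_β(H)` is a `σ(M)'`-group
  obtain ⟨hB1, -⟩ := Cfsg.Agent.S1414.result hG H hH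
  have hBπ : ∀ p : ℕ, p.Prime → p ∣ Nat.card (piCoreOf (beta H) H) → p ∉ sigma M := by
    intro p hp hd hpM
    have : Fact p.Prime := ⟨hp⟩
    have hβ : p ∈ beta H := hB1.2.1 p hp hd
    exact bg_sigma_not_dvd_index M hpM (rank_three_dvd_index hG M H hM hH hnc p hβ.1.2)
  -- (iv) Hall
  obtain ⟨h, hh, hle⟩ := Cfsg.Agent.Lib.helper56.hall_factor_conj (sigma M) H
    (piCoreOf (beta H) H) (H ⊓ Subgroup.normalizer (S : Set G)) Y (hsolv H hH.1)
    (piCoreOf_le _ _) inf_le_left (le_normalizer_piCoreOf _ _) hBπ hfac hYH hY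
  exact ⟨h, hh, hle.trans (inf_le_right.trans hNS)⟩

end Cfsg.Agent.Lib.helper25.BGT
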