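import Mathlib
import Cfsg.Agent.Lib.helper13.BGExc
import Cfsg.Agent.Lib.helper8.BGTen9
import Cfsg.Agent.Lib.helper30.RankTwo
import Cfsg.Agent.Lib.helper30.NarrowAut

/-!
Bender–Glauberman Lemma 10.9 (c) (`P10_9c`), from 10.9 (a), (b) (`P10_9`).
-/

set_option autoImplicit false

namespace Cfsg.Agent.Lib.helper25.BGT

open Cfsg Cfsg.Agent.Lib.helper13

/-- A minimal simple group of odd order is not a `q`-group. -/
theorem not_isPGroup_top {G : Type*} [Group G] [Finite G] (hG : Cfsg.IsMinSimpleOddOrder G)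
    (q : ℕ) [Fact q.Prime] : ¬ IsPGroup q G := by
  intro h
  have hs : IsSimpleGroup G := hG.2.1
  have hnt : Nontrivial G := hs.toNontrivial
  have hc : Nontrivial (Subgroup.center G) := h.center_nontrivial
  have hne : Subgroup.center G ≠ ⊥ := by
    intro hb
    obtain ⟨x, y, hxy⟩ := hc
    apply hxy
    have hx : (x : G) ∈ (⊥ : Subgroup G) := hb ▸ x.2
    have hy : (y : G) ∈ (⊥ : Subgroup G) := hb ▸ y.2
    rw [Subgroup.mem_bot] at hx hy
    exact Subtype.ext (hx.trans hy.symm)
  have htop : Subgroup.center G = ⊤ :=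
    (hs.eq_bot_or_eq_top_of_normal (Subgroup.center G) inferInstance).resolve_left hne
  apply hG.2.2.1
  refine ⟨⟨fun a b => ?_⟩⟩
  have ha : a ∈ Subgroup.center G := htop ▸ Subgroup.mem_top a
  exact (Subgroup.mem_center_iff.mp ha b).symm

/-- In a minimal simple group of odd order the normalizer of a nontrivial `q`-subgroup is a
proper subgroup. -/
theorem normalizer_ne_top_of_isPGroup {G : Type*} [Group G] [Finite G]
    (hG : Cfsg.IsMinSimpleOddOrder G) (q : ℕ) [Fact q.Prime] (Q : Subgroup G) (hQ : IsPGroup q Q)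
    (hQ1 : Q ≠ ⊥) : Subgroup.normalizer (Q : Set G) ≠ ⊤ := by
  intro h
  have hn : Q.Normal := Subgroup.normalizer_eq_top_iff.mp h
  have hs : IsSimpleGroup G := hG.2.1
  rcases hs.eq_bot_or_eq_top_of_normal Q hn with h1 | h1
  · exact hQ1 h1
  · apply not_isPGroup_top hG q
    intro g
    obtain ⟨k, hk⟩ := hQ ⟨g, h1 ▸ Subgroup.mem_top g⟩
    exact ⟨k, by simpa [Subtype.ext_iff] using hk⟩

/-- B-G 10.9 (c). -/
theorem p10_9c {G : Type*} [Group G] [Finite G] (hG : Cfsg.IsMinSimpleOddOrder G)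
    (h9 : P10_9 G) : P10_9c G := by
  intro p _ A hA hA2 hAmax q _ Q B hqp hqC hQ hB hB2 hBmax hBQ
  have hpp : p.Prime := Fact.out
  have hqq : q.Prime := Fact.out
  obtain ⟨S, hAS, hSN, -⟩ := h9 p A hA hA2 hAmax q Q hqq hqp hqC hQ
  have hodd : Odd (Nat.card G) := hG.1
  have hq2 : q ≠ 2 := by
    rintro rfl
    have h1 : Nat.card B ∣ Nat.card G := Subgroup.card_subgroup_dvd_card B
    rw [hB2] at h1
    have h2 : 2 ∣ Nat.card G := (dvd_pow_self 2 (by norm_num)).trans h1
    exact (Nat.not_even_iff_odd.mpr hodd) (even_iff_two_dvd.mpr h2)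
  have hQq : IsPGroup q Q := by
    have h0 : Nat.card Q ≠ 0 := Nat.card_pos.ne'
    have h1 := Nat.eq_prime_pow_of_unique_prime_dvd h0
      (p := q) (fun {d} hd hdn => Set.mem_singleton_iff.mp (hQ.1.2.1 d hd hdn))
    exact IsPGroup.of_card h1
  have hQ1 : Q ≠ ⊥ := by
    intro hb
    have h1 : B = ⊥ := le_bot_iff.mp (hb ▸ hBQ)
    rw [h1, Subgroup.card_bot] at hB2
    have : 1 < q ^ 2 := Nat.one_lt_pow (by norm_num) hqq.one_lt
    omega
  set N : Subgroup G := Subgroup.normalizer (Q : Set G) with hNdef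
  have hN : N ≠ ⊤ := normalizer_ne_top_of_isPGroup hG q Q hQq hQ1
  have hNs : Group.IsSolvable N := hG.2.2.2 N hN
  have hNodd : Odd (Nat.card N) := Odd.of_dvd_nat hodd (Subgroup.card_subgroup_dvd_card N)
  have key : ∀ c ∈ ⁅N, N⁆, (orderOf c).Coprime q → ∀ r ∈ Q, c * r = r * c := by
    by_cases hr : Cfsg.PRankLE q 2 Q
    · exact Cfsg.Agent.Lib.helper30.commutator_centralizes q hq2 Q N hQq hr le_rfl hNs hNodd
    · have hB' := (Cfsg.Agent.Lib.helper8.bg_elemAb_iff B).mp hB
      have hE : Cfsg.IsElementaryAbelian q (B.subgroupOf Q) := by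
        rw [Cfsg.Agent.Lib.helper8.bg_elemAb_iff]
        refine ⟨fun a ha b hb => ?_, fun a ha => ?_⟩
        · exact Subtype.ext (hB'.1 a ha b hb)
        · exact Subtype.ext (by simpa using hB'.2 a ha)
      have hE2 : Nat.card (B.subgroupOf Q) = q ^ 2 := by
        rw [← hB2]
        exact Nat.card_congr (Subgroup.subgroupOfEquivOfLe hBQ).toEquiv
      have hEmax : ∀ B' : Subgroup Q, Cfsg.IsElementaryAbelian q B' → B.subgroupOf Q ≤ B' →
          B' = B.subgroupOf Q := by
        intro B' hB'ea hle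
        have hB'2 := (Cfsg.Agent.Lib.helper8.bg_elemAb_iff B').mp hB'ea
        have h1 : Cfsg.IsElementaryAbelian q (B'.map Q.subtype) := by
          rw [Cfsg.Agent.Lib.helper8.bg_elemAb_iff]
          refine ⟨?_, ?_⟩
          · rintro _ ⟨a, ha, rfl⟩ _ ⟨b, hb, rfl⟩
            have := hB'2.1 a ha b hb
            exact congrArg Subtype.val this
          · rintro _ ⟨a, ha, rfl⟩
            have := hB'2.2 a ha
            simpa using congrArg Subtype.val this
        have h2 : B ≤ B'.map Q.subtype := by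
          intro b hb
          exact ⟨⟨b, hBQ hb⟩, hle hb, rfl⟩
        have h3 := hBmax _ h1 h2
        ext x
        constructor
        · intro hx
          have : (x : G) ∈ B'.map Q.subtype := ⟨x, hx, rfl⟩
          rw [h3] at this
          exact this
        · intro hx
          exact hle hx
      have hn : Cfsg.IsNarrow q Q :=
        Cfsg.Agent.Lib.helper8.bg_isNarrow_of_max_elemAb q hq2 hQq (B.subgroupOf Q) hE hE2 hEmax
      exact (Cfsg.Agent.Lib.helper30.narrow_aut q hq2 Q hQq hr hn N le_rfl).1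
  intro a ha
  have haN : a ∈ ⁅N, N⁆ := hSN (hAS ha)
  have hord : (orderOf a).Coprime q :=
    Nat.Coprime.coprime_dvd_left (orderOf_dvd_of_pow_eq_one (hA.2 a ha))
      ((Nat.coprime_primes hpp hqq).mpr (Ne.symm hqp))
  rw [Subgroup.mem_centralizer_iff]
  intro r hr
  exact (key a haN hord r hr).symm

end Cfsg.Agent.Lib.helper25.BGT
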