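import Mathlib
import Cfsg.Agent.Lib.helper90.BG1428Defs
import Cfsg.Agent.Lib.helper3.BGCross
import Cfsg.Agent.S1406
import Cfsg.Agent.S1409
import Cfsg.Agent.S1414
import Cfsg.Agent.Lib.helper71.BGTenA
import Cfsg.Agent.Lib.helper13.BG11b
import Cfsg.Agent.Lib.helper29.Trans
import Cfsg.Agent.Lib.helper8.BGTen5
import Cfsg.Agent.Lib.helper26.PRank
import Cfsg.Agent.Lib.helper25.BGTenNineC

/-!
# S1428 (Bender–Glauberman 13.4), piece B2M: the `M`-side of the bad case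

See `tools/S1428_SPEC.md`.  Main result: `bad_Mside`.
-/

set_option autoImplicit false

namespace Cfsg.Agent.Lib.helper25.BG1428

open Cfsg Cfsg.Agent.Lib.helper90.BG1428

variable {G : Type*} [Group G]

/-- In a finite cyclic group, an element killed by `orderOf a` is a power of `a`. -/
theorem mem_zpowers_of_pow_orderOf {α : Type*} [Group α] [Finite α] [IsCyclic α] (a b : α)
    (h : b ^ orderOf a = 1) : b ∈ Subgroup.zpowers a := by
  classical
  have _inst := Fintype.ofFinite α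
  have hn : 0 < orderOf a := orderOf_pos a
  have hle := IsCyclic.card_pow_eq_one_le (α := α) hn
  by_contra hb
  have hsub : insert b ((Subgroup.zpowers a : Set α).toFinset) ⊆
      Finset.univ.filter (fun x : α => x ^ orderOf a = 1) := by
    intro x hx
    rw [Finset.mem_insert] at hx
    simp only [Finset.mem_filter, Finset.mem_univ, true_and]
    rcases hx with rfl | hx
    · exact h
    · rw [Set.mem_toFinset] at hx
      obtain ⟨k, rfl⟩ := Subgroup.mem_zpowers_iff.mp hx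
      rw [← zpow_natCast, ← zpow_mul, mul_comm, zpow_mul, zpow_natCast, pow_orderOf_eq_one,
        one_zpow]
  have hcard := Finset.card_le_card hsub
  rw [Finset.card_insert_of_notMem (by simpa using hb)] at hcard
  have hz : ((Subgroup.zpowers a : Set α).toFinset).card = orderOf a := by
    rw [Set.toFinset_card, ← Nat.card_eq_fintype_card]
    exact Nat.card_zpowers a
  omega

/-- Subgroup version: in a cyclic subgroup `C`, an element `z` with `z ^ orderOf y = 1` is a power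
of `y ∈ C`. -/
theorem mem_zpowers_of_isCyclic [Finite G] {C : Subgroup G} (hC : IsCyclic ↥C) {y z : G}
    (hy : y ∈ C) (hz : z ∈ C) (hzy : z ^ orderOf y = 1) : z ∈ Subgroup.zpowers y := by
  have _i := hC
  have h := mem_zpowers_of_pow_orderOf (⟨y, hy⟩ : C) (⟨z, hz⟩ : C) (by
    rw [Subgroup.orderOf_mk]
    exact Subtype.ext (by simpa using hzy))
  obtain ⟨k, hk⟩ := Subgroup.mem_zpowers_iff.mp h
  exact Subgroup.mem_zpowers_iff.mpr ⟨k, by simpa using congrArg Subtype.val hk⟩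

/-- If `ρ ∈ R` acts fixed-point-freely on `X` (normalized by `R`), then every element of `X` is a
commutator `w ρ w⁻¹ ρ⁻¹` with `w ∈ X`. -/
theorem exists_comm_of_fpf [Finite G] {X R : Subgroup G}
    (hRX : R ≤ Subgroup.normalizer (X : Set G)) {ρ : G} (hρR : ρ ∈ R) (hρ1 : ρ ≠ 1)
    (hfpf : ∀ e ∈ R, e ≠ 1 → ∀ x ∈ X, e * x = x * e → x = 1) :
    ∀ x ∈ X, ∃ w ∈ X, x = w * ρ * w⁻¹ * ρ⁻¹ := by
  have hmem : ∀ w ∈ X, w * ρ * w⁻¹ * ρ⁻¹ ∈ X := by
    intro w hw
    have h1 : ρ * w⁻¹ * ρ⁻¹ ∈ X :=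
      (Subgroup.mem_normalizer_iff.mp (hRX hρR) w⁻¹).mp (X.inv_mem hw)
    have h2 : w * ρ * w⁻¹ * ρ⁻¹ = w * (ρ * w⁻¹ * ρ⁻¹) := by group
    rw [h2]
    exact X.mul_mem hw h1
  let f : X → X := fun w => ⟨(w : G) * ρ * (w : G)⁻¹ * ρ⁻¹, hmem w w.2⟩
  have hinj : Function.Injective f := by
    intro w w' hww
    have h1 : (w : G) * ρ * (w : G)⁻¹ * ρ⁻¹ = (w' : G) * ρ * (w' : G)⁻¹ * ρ⁻¹ :=
      congrArg Subtype.val hww
    have h3 : (w : G) * ρ * (w : G)⁻¹ = (w' : G) * ρ * (w' : G)⁻¹ := mul_right_cancel h1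
    have h2 : ρ * ((w' : G)⁻¹ * (w : G)) = ((w' : G)⁻¹ * (w : G)) * ρ := by
      calc ρ * ((w' : G)⁻¹ * (w : G))
          = (w' : G)⁻¹ * ((w' : G) * ρ * (w' : G)⁻¹) * (w : G) := by group
        _ = (w' : G)⁻¹ * ((w : G) * ρ * (w : G)⁻¹) * (w : G) := by rw [h3]
        _ = ((w' : G)⁻¹ * (w : G)) * ρ := by group
    have h4 := hfpf ρ hρR hρ1 ((w' : G)⁻¹ * (w : G)) (X.mul_mem (X.inv_mem w'.2) w.2) h2
    apply Subtype.ext
    have h5 : (w' : G) * ((w' : G)⁻¹ * (w : G)) = (w' : G) * 1 := by rw [h4]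
    simpa using h5
  have hsurj : Function.Surjective f := Finite.surjective_of_injective hinj
  intro x hx
  obtain ⟨w, hw⟩ := hsurj ⟨x, hx⟩
  exact ⟨w, w.2, (congrArg Subtype.val hw).symm⟩

/-- `C_T(Y)` is cyclic for a `t`-subgroup `T` of `M_α`, when `C_M(Y)` is not a uniqueness
subgroup (B-G 10.3 = S1406). -/
theorem isCyclic_inf_centralizer [Finite G] (hG : IsMinSimpleOddOrder G) {M : Subgroup G}
    (hM : IsCoatom M) {t : ℕ} [Fact t.Prime] {T : Subgroup G} (hT : IsPGroup t T)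
    (hTα : T ≤ alphaCore M) {Y : Subgroup G} (hYM : Y ≤ M)
    (hYα : ∀ p : ℕ, p.Prime → p ∣ Nat.card Y → p ∉ alpha M)
    (hnu : ¬ InUniqueMaximal (M ⊓ Subgroup.centralizer (Y : Set G))) :
    IsCyclic ↥(T ⊓ Subgroup.centralizer (Y : Set G)) := by
  by_contra hnc
  obtain ⟨B, hBC, hBe, hBcard⟩ := Cfsg.Agent.Lib.helper13.exists_elemAb_sq_of_not_cyclic hG.1
    (T ⊓ Subgroup.centralizer (Y : Set G)) (hT.to_le inf_le_left) hnc
  apply hnu
  apply Cfsg.Agent.S1406.result hG M hM Y hYM hYα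
  intro hrank
  have h1 : PRankLE t 1 ↥(alphaCore M ⊓ Subgroup.centralizer (Y : Set G)) :=
    hrank t Fact.out
  have hBle : B ≤ alphaCore M ⊓ Subgroup.centralizer (Y : Set G) :=
    hBC.trans (inf_le_inf_right _ hTα)
  refine (Cfsg.Agent.Lib.helper28.not_pRankLE_subgroup_iff t 1 _).mpr ⟨B, hBle, hBe, ?_⟩ h1
  rw [hBcard]
  exact Nat.pow_lt_pow_right (Fact.out : t.Prime).one_lt (by norm_num)

/-- **S1428, piece B2M** (the `M`-side of the bad case), in the form of the first skeleton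
(`Conf` + `FCHyp`). -/
theorem bad_Mside_conf [Finite G] (hG : IsMinSimpleOddOrder G) (hFC : FCHyp G)
    {M H : Subgroup G} (hM : IsCoatom M) (hH : IsCoatom H) {p r q : ℕ} {P R X : Subgroup G}
    (c : Conf M p r q P R X) (hNP : Subgroup.normalizer (P : Set G) ≤ H)
    (hnc : ∀ g : G, H ≠ M.map (MulAut.conj g).toMonoidHom)
    (hCX : Subgroup.centralizer (X : Set G) ≤ H) (hqH : q ∈ Cfsg.sigma H)
    (hβ : Cfsg.piCoreOf (Cfsg.beta M) M ≠ ⊥) (hrM : r ∈ Cfsg.tau1 M) :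
    ∃ (t : ℕ) (y : G), t ∈ Cfsg.beta M ∧ orderOf y = t ∧ y ∈ Cfsg.sigmaCore M ∧
      (∀ e ∈ R, e * y = y * e) ∧ (∀ a ∈ P, a * y * a⁻¹ ∈ Subgroup.zpowers y) ∧
      ∃ a ∈ P, a * y ≠ y * a := by
  classical
  have hU := Cfsg.Agent.Lib.helper13.bgx_uniq hG
  have hodd : Odd (Nat.card G) := hG.1
  set Mβ : Subgroup G := Cfsg.piCoreOf (Cfsg.beta M) M with hMβdef
  have hMβM : Mβ ≤ M := Cfsg.Agent.Lib.helper29.piCoreOf_le _ _
  have hMβprime : ∀ s : ℕ, s.Prime → s ∣ Nat.card Mβ → s ∈ Cfsg.beta M :=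
    Cfsg.Agent.Lib.helper29.prime_mem_of_dvd_card_piCoreOf _ _
  -- a prime `t` dividing `|M_β|`
  have hcard1 : Nat.card Mβ ≠ 1 := fun h => hβ (Subgroup.card_eq_one.mp h)
  obtain ⟨t, ht, htdvd⟩ := Nat.exists_prime_and_dvd hcard1
  have htβ : t ∈ Cfsg.beta M := hMβprime t ht htdvd
  have htα : t ∈ Cfsg.alpha M := htβ.1
  have hβσ : ∀ s, s ∈ Cfsg.beta M → s ∈ Cfsg.sigma M := fun s hs =>
    Cfsg.Agent.Lib.helper8.bg_alpha_sub_sigma hG hU M hM hs.1
  have htσ : t ∈ Cfsg.sigma M := hβσ t htβ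
  have hFt : Fact t.Prime := ⟨ht⟩
  have hβH : ∀ s, s ∈ Cfsg.beta M → s ∉ Cfsg.sigma H := by
    intro s hs hsH
    obtain ⟨g, hg⟩ := Cfsg.Agent.Lib.helper3.conj_of_beta_mem_sigma hG H M hH hM hs hsH
    have h := Cfsg.Agent.Lib.helper13.map_conj_inv_map_conj H g⁻¹
    rw [inv_inv] at h
    exact hnc g⁻¹ (by rw [hg, h])
  have htH : t ∉ Cfsg.sigma H := hβH t htβ
  have hqβ : q ∉ Cfsg.beta M := fun h => hβH q h hqH
  have hrσ : r ∉ Cfsg.sigma M := c.hrσ
  have hpσ : p ∉ Cfsg.sigma M := c.hp.2.1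
  have hpp : p.Prime := c.hp.1
  have hrp : r.Prime := c.hr
  have hqp : q.Prime := c.hq
  have hqt : q ≠ t := fun h => hqβ (h ▸ htβ)
  have hrt : r ≠ t := fun h => hrσ (h ▸ htσ)
  have hpt : p ≠ t := fun h => hpσ (h ▸ htσ)
  have hFq : Fact q.Prime := ⟨hqp⟩
  have hFr : Fact r.Prime := ⟨hrp⟩
  have hR1 : R ≠ ⊥ := by
    intro h
    have h1 := c.hR
    rw [h, Subgroup.card_bot] at h1
    exact hrp.one_lt.ne h1
  -- `M_β ≤ M_σ` and `M_β ≤ M_α`
  have hMβσ : Mβ ≤ Cfsg.sigmaCore M := by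
    show Mβ ≤ Cfsg.piCoreOf (Cfsg.sigma M) M
    apply Cfsg.Agent.Lib.helper29.le_piCoreOf hMβM
      (Cfsg.Agent.Lib.helper29.le_normalizer_piCoreOf _ _)
    intro s hs hsd
    exact hβσ s (hMβprime s hs hsd)
  have hMβα : Mβ ≤ Cfsg.alphaCore M := by
    show Mβ ≤ Cfsg.piCoreOf (Cfsg.alpha M) M
    apply Cfsg.Agent.Lib.helper29.le_piCoreOf hMβM
      (Cfsg.Agent.Lib.helper29.le_normalizer_piCoreOf _ _)
    intro s hs hsd
    exact (hMβprime s hs hsd).1
  -- the group `Γ = (R ⊔ P) ⊔ X`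
  have hXM : X ≤ M := c.hXM.trans (Cfsg.Agent.Lib.helper29.piCoreOf_le (Cfsg.sigma M) M)
  have hPcX : P ≤ Subgroup.centralizer (X : Set G) := by
    intro a ha
    rw [Subgroup.mem_centralizer_iff]
    intro x hx
    exact c.hXP x hx a ha
  have hRPX : R ⊔ P ≤ Subgroup.normalizer (X : Set G) :=
    sup_le c.hRX (hPcX.trans (Subgroup.centralizer_le_normalizer _))
  have hRcP : R ≤ Subgroup.centralizer (P : Set G) := by
    intro e he
    rw [Subgroup.mem_centralizer_iff]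
    intro a ha
    exact c.hPR a ha e he
  have hRP : R ≤ Subgroup.normalizer (P : Set G) :=
    hRcP.trans (Subgroup.centralizer_le_normalizer _)
  set Γ : Subgroup G := (R ⊔ P) ⊔ X with hΓdef
  have hΓM : Γ ≤ M := sup_le (sup_le c.hRM c.hPM) hXM
  have hΓN : Γ ≤ Subgroup.normalizer (Mβ : Set G) :=
    hΓM.trans (Cfsg.Agent.Lib.helper29.le_normalizer_piCoreOf _ _)
  have hΓdvd : Nat.card Γ ∣ Nat.card R * Nat.card P * Nat.card X :=
    (Cfsg.Agent.Lib.helper27.card_sup_dvd_mul_of_le_normalizer (R ⊔ P) X hRPX).trans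
      (Nat.mul_dvd_mul_right
        (Cfsg.Agent.Lib.helper27.card_sup_dvd_mul_of_le_normalizer R P hRP) _)
  obtain ⟨n, hXn⟩ := (IsPGroup.iff_card.mp c.hXq)
  have hcop : (Nat.card Γ).Coprime (Nat.card Mβ) := by
    apply Nat.coprime_of_dvd
    intro s hs hsΓ hsβ
    have hsβ' : s ∈ Cfsg.beta M := hMβprime s hs hsβ
    have h1 : s ∣ Nat.card R * Nat.card P * Nat.card X := hsΓ.trans hΓdvd
    rw [c.hR, c.hP, hXn] at h1
    rcases (Nat.Prime.dvd_mul hs).mp h1 with h2 | h2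
    · rcases (Nat.Prime.dvd_mul hs).mp h2 with h3 | h3
      · have : s = r := (Nat.prime_dvd_prime_iff_eq hs hrp).mp h3
        exact hrσ (this ▸ hβσ s hsβ')
      · have : s = p := (Nat.prime_dvd_prime_iff_eq hs hpp).mp h3
        exact hpσ (this ▸ hβσ s hsβ')
    · have h3 : s ∣ q := hs.dvd_of_dvd_pow h2
      have : s = q := (Nat.prime_dvd_prime_iff_eq hs hqp).mp h3
      exact hqβ (this ▸ hsβ')
  have hsolv : Group.IsSolvable Mβ := hG.2.2.2 Mβ (ne_top_of_le_ne_top hM.1 hMβM)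
  obtain ⟨Pt, hPt⟩ := Cfsg.Agent.Lib.helper1.exists_invariant_sylow (p := t) Γ Mβ hΓN hcop
    (Or.inr hsolv)
  set TM : Subgroup G := (Pt : Subgroup Mβ).map Mβ.subtype with hTMdef
  have hTMle : TM ≤ Mβ := Subgroup.map_subtype_le _
  have hTMp : IsPGroup t TM := Pt.isPGroup'.map _
  have hXN : X ≤ Subgroup.normalizer (TM : Set G) := le_sup_right.trans hPt
  have hRN : R ≤ Subgroup.normalizer (TM : Set G) := (le_sup_left.trans le_sup_left).trans hPt
  have hPN : P ≤ Subgroup.normalizer (TM : Set G) := (le_sup_right.trans le_sup_left).trans hPt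
  -- `TM` has rank at least 3
  have hHall := (Cfsg.Agent.S1414.result hG M hM).1
  have hidx : ¬ t ∣ (Cfsg.piCore (Cfsg.beta M) ↥M).index := by
    have h := hHall.2.2 t ht htβ
    rwa [show Cfsg.piCoreOf (Cfsg.beta M) M = (Cfsg.piCore (Cfsg.beta M) ↥M).map M.subtype from rfl,
      Cfsg.Agent.Lib.helper71.BGA.relIndex_map_subtype] at h
  have hr2 : ¬ PRankLE t 2 ↥TM := by
    obtain ⟨B, hBM, hBe, hBcard⟩ :=
      (Cfsg.Agent.Lib.helper28.not_pRankLE_subgroup_iff t 2 M).mp htα.2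
    have hBp : IsPGroup t B := by
      intro b
      refine ⟨1, ?_⟩
      rw [pow_one]
      exact Subtype.ext (by simpa using hBe.2 b b.2)
    have hBMβ : B ≤ Mβ :=
      Cfsg.Agent.Lib.helper71.BGA.le_map_of_isPGroup (Cfsg.piCore (Cfsg.beta M) ↥M) hidx hBM hBp
    exact Cfsg.Agent.Lib.helper71.BGA.not_prankLE_sylow_map Pt hBMβ hBe hBcard
  -- `X` does not centralize `TM`
  have hXnc : ¬ X ≤ Subgroup.centralizer (TM : Set G) := by
    intro hXc
    have hTMH : TM ≤ H := by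
      intro z hz
      apply hCX
      rw [Subgroup.mem_centralizer_iff]
      intro x hx
      exact ((Subgroup.mem_centralizer_iff.mp (hXc hx)) z hz).symm
    have htαH : t ∈ Cfsg.alpha H :=
      ⟨ht, fun h => hr2 (Cfsg.Agent.Lib.helper26.prankLE_mono hTMH h)⟩
    exact htH (Cfsg.Agent.Lib.helper8.bg_alpha_sub_sigma hG hU H hH htαH)
  have ht2 : t ≠ 2 := by
    intro h2
    rw [h2] at htdvd
    have h3 : 2 ∣ Nat.card G := htdvd.trans (Subgroup.card_subgroup_dvd_card _)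
    exact (Nat.not_even_iff_odd.mpr hodd) (even_iff_two_dvd.mpr h3)
  have hXt : (Nat.card X).Coprime t := by
    rw [hXn]
    exact Nat.Coprime.pow_left _ ((Nat.coprime_primes hqp ht).mpr hqt)
  have hRt : (Nat.card R).Coprime t := by
    rw [c.hR]
    exact (Nat.coprime_primes hrp ht).mpr hrt
  have hRprime : (Nat.card R).Prime := by
    rw [c.hR]
    exact hrp
  -- contrapositive of `hFC`
  have hex : ∃ y ∈ TM, y ^ t = 1 ∧ (∀ e ∈ R, e * y = y * e) ∧ ∃ x ∈ X, x * y ≠ y * x := by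
    by_contra hno
    apply hXnc
    apply hFC t ht ht2 TM X R hTMp hXN hRN c.hRX hRprime c.hfpf hXt hRt
    intro y hy hyt hyR x hx
    by_contra hxy
    exact hno ⟨y, hy, hyt, hyR, x, hx, hxy⟩
  obtain ⟨y, hyT, hyt, hyR, x₀, hx₀, hx₀y⟩ := hex
  have hy1 : y ≠ 1 := by
    intro h
    rw [h] at hx₀y
    exact hx₀y (by simp)
  have hyord : orderOf y = t := orderOf_eq_prime hyt hy1
  have hTMα : TM ≤ Cfsg.alphaCore M := hTMle.trans hMβα
  -- `C_TM(R)` is cyclic
  have hcycR : IsCyclic ↥(TM ⊓ Subgroup.centralizer (R : Set G)) := by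
    apply isCyclic_inf_centralizer hG hM hTMp hTMα c.hRM
    · intro s hs hsd
      rw [c.hR] at hsd
      have hsr : s = r := (Nat.prime_dvd_prime_iff_eq hs hrp).mp hsd
      rw [hsr]
      exact fun h => hrσ (Cfsg.Agent.Lib.helper8.bg_alpha_sub_sigma hG hU M hM h)
    · intro hu
      have hRp : IsPGroup r R := IsPGroup.of_card (n := 1) (by rw [c.hR, pow_one])
      have hNtop := Cfsg.Agent.Lib.helper25.BGT.normalizer_ne_top_of_isPGroup hG r R hRp hR1
      obtain ⟨L, hL, hNL⟩ :=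
        (eq_top_or_exists_le_coatom (Subgroup.normalizer (R : Set G))).resolve_left hNtop
      have hKL : M ⊓ Subgroup.centralizer (R : Set G) ≤ L :=
        inf_le_right.trans ((Subgroup.centralizer_le_normalizer _).trans hNL)
      have hML : M = L := hu.unique ⟨hM, inf_le_left⟩ ⟨hL, hKL⟩
      have hNM : Subgroup.normalizer (R : Set G) ≤ M := hML ▸ hNL
      have h9 := Cfsg.Agent.S1409.result hG M hM r hrσ R c.hR hNM
      exact h9.1.2 hrM.2.2.2.2
  have hyC : y ∈ TM ⊓ Subgroup.centralizer (R : Set G) :=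
    Subgroup.mem_inf.mpr ⟨hyT, Subgroup.mem_centralizer_iff.mpr (fun e he => hyR e he)⟩
  have hPnorm : ∀ a ∈ P, a * y * a⁻¹ ∈ Subgroup.zpowers y := by
    intro a ha
    have haC : a * y * a⁻¹ ∈ TM ⊓ Subgroup.centralizer (R : Set G) := by
      refine Subgroup.mem_inf.mpr ⟨(Subgroup.mem_normalizer_iff.mp (hPN ha) y).mp hyT, ?_⟩
      rw [Subgroup.mem_centralizer_iff]
      intro e he
      have hea : Commute e a := (c.hPR a ha e he).symm
      have hey : Commute e y := hyR e he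
      exact ((hea.mul_right hey).mul_right hea.inv_right).eq
    apply mem_zpowers_of_isCyclic hcycR hyC haC
    rw [hyord, conj_pow, hyt]
    simp
  -- `P` does not centralize `y`
  have hPnc : ∃ a ∈ P, a * y ≠ y * a := by
    by_contra hall
    push Not at hall
    have hcycP : IsCyclic ↥(TM ⊓ Subgroup.centralizer (P : Set G)) := by
      apply isCyclic_inf_centralizer hG hM hTMp hTMα c.hPM
      · intro s hs hsd
        rw [c.hP] at hsd
        have hsp : s = p := (Nat.prime_dvd_prime_iff_eq hs hpp).mp hsd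
        rw [hsp]
        exact fun h => hpσ (Cfsg.Agent.Lib.helper8.bg_alpha_sub_sigma hG hU M hM h)
      · intro hu
        have hKH : M ⊓ Subgroup.centralizer (P : Set G) ≤ H :=
          inf_le_right.trans ((Subgroup.centralizer_le_normalizer _).trans hNP)
        have hMH : M = H := hu.unique ⟨hM, inf_le_left⟩ ⟨hH, hKH⟩
        apply hnc 1
        rw [← hMH]
        ext z
        simp
    have hyCP : y ∈ TM ⊓ Subgroup.centralizer (P : Set G) :=
      Subgroup.mem_inf.mpr ⟨hyT, Subgroup.mem_centralizer_iff.mpr hall⟩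
    have hXy : ∀ w ∈ X, w⁻¹ * y * w ∈ Subgroup.zpowers y := by
      intro w hw
      have hw' : w⁻¹ ∈ X := X.inv_mem hw
      have hmem : w⁻¹ * y * w ∈ TM ⊓ Subgroup.centralizer (P : Set G) := by
        refine Subgroup.mem_inf.mpr ⟨?_, ?_⟩
        · have h1 := (Subgroup.mem_normalizer_iff.mp (hXN hw') y).mp hyT
          simpa using h1
        · rw [Subgroup.mem_centralizer_iff]
          intro a ha
          have haw : Commute a w⁻¹ := (c.hXP w⁻¹ hw' a ha).symm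
          have hay : Commute a y := hall a ha
          have h1 := ((haw.mul_right hay).mul_right haw.inv_right).eq
          simpa using h1
      apply mem_zpowers_of_isCyclic hcycP hyCP hmem
      have h1 : (w⁻¹ * y * w) ^ t = w⁻¹ * y ^ t * w := by
        have h2 := conj_pow (a := w⁻¹) (b := y) (i := t)
        simpa using h2
      rw [hyord, h1, hyt]
      simp
    obtain ⟨ρ', hρ'⟩ := Subgroup.ne_bot_iff_exists_ne_one.mp hR1
    have hρR : (ρ' : G) ∈ R := ρ'.2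
    have hρ1 : (ρ' : G) ≠ 1 := fun h => hρ' (Subtype.ext h)
    obtain ⟨w, hw, hx₀w⟩ := exists_comm_of_fpf c.hRX hρR hρ1 c.hfpf x₀ hx₀
    apply hx₀y
    have hρy : Commute (ρ' : G) y := hyR _ hρR
    have hρz : Commute (ρ' : G) (w⁻¹ * y * w) := by
      obtain ⟨k, hk⟩ := Subgroup.mem_zpowers_iff.mp (hXy w hw)
      rw [← hk]
      exact hρy.zpow_right k
    have h1 : w * (ρ' : G) * w⁻¹ * y = y * (w * (ρ' : G) * w⁻¹) := by
      have e1 : w * (ρ' : G) * w⁻¹ * y = w * ((ρ' : G) * (w⁻¹ * y * w)) * w⁻¹ := by group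
      have e2 : y * (w * (ρ' : G) * w⁻¹) = w * ((w⁻¹ * y * w) * (ρ' : G)) * w⁻¹ := by group
      rw [e1, e2, hρz.eq]
    have h2 : (ρ' : G)⁻¹ * y = y * (ρ' : G)⁻¹ := hρy.inv_left.eq
    rw [hx₀w]
    calc w * (ρ' : G) * w⁻¹ * (ρ' : G)⁻¹ * y
        = w * (ρ' : G) * w⁻¹ * ((ρ' : G)⁻¹ * y) := by group
      _ = w * (ρ' : G) * w⁻¹ * (y * (ρ' : G)⁻¹) := by rw [h2]
      _ = (w * (ρ' : G) * w⁻¹ * y) * (ρ' : G)⁻¹ := by group
      _ = y * (w * (ρ' : G) * w⁻¹) * (ρ' : G)⁻¹ := by rw [h1]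
      _ = y * (w * (ρ' : G) * w⁻¹ * (ρ' : G)⁻¹) := by group
  exact ⟨t, y, htβ, hyord, hMβσ (hTMle hyT), hyR, hPnorm, hPnc⟩

/-- **S1428, piece B2M** (the `M`-side of the bad case), stated on the outputs of the `H`-side
(helper76 `bg134_hside`), with the pure lemma `hLX` as a hypothesis. -/
theorem bad_Mside [Finite G] (hG : Cfsg.IsMinSimpleOddOrder G)
    (hLX : ∀ (S Y R : Subgroup G) (p : ℕ), p.Prime → IsPGroup p S → (Nat.card R).Prime → Nat.card R ≠ p →
      (Nat.card Y).Coprime p → (Nat.card Y).Coprime (Nat.card R) → R ≤ Subgroup.normalizer (Y : Set G) →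
      Y ≤ Subgroup.normalizer (S : Set G) → R ≤ Subgroup.normalizer (S : Set G) →
      IsCyclic ↥(S ⊓ Subgroup.centralizer (R : Set G)) →
      (∀ x ∈ S ⊓ Subgroup.centralizer (R : Set G), x ^ p = 1 → x ∈ Subgroup.centralizer ((⁅Y, R⁆ : Subgroup G) : Set G)) →
      ⁅Y, R⁆ ≤ Subgroup.centralizer (S : Set G))
    (M H : Subgroup G) (hM : IsCoatom M) (hH : IsCoatom H)
    (p : ℕ) (hp : p ∈ Cfsg.tau1 M) (P : Subgroup G) (hPM : P ≤ M) (hP : Nat.card P = p)
    (hNH : Subgroup.normalizer (P : Set G) ≤ H) (hpH : p ∈ Cfsg.sigma H)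
    (R : Subgroup G) (hRM : R ≤ M) (hRP : R ≤ Subgroup.centralizer (P : Set G))
    (hrM : Nat.card R ∈ Cfsg.tau1 M)
    (hfac : ∀ m ∈ M, ∃ b ∈ Cfsg.piCoreOf (Cfsg.beta M) M, ∃ d ∈ M ⊓ H, m = b * d)
    (hprimes : ∀ q : ℕ, q.Prime → q ∣ Nat.card ↥(⁅Cfsg.sigmaCore M ⊓ Subgroup.centralizer (P : Set G), R⁆ : Subgroup G) → q ∈ Cfsg.sigma H)
    (hnorm : ∀ X : Subgroup G, X ≠ ⊥ → X ≤ ⁅Cfsg.sigmaCore M ⊓ Subgroup.centralizer (P : Set G), R⁆ → Subgroup.normalizer (X : Set G) ≤ H)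
    (hW : ¬ Cfsg.sigmaCore M ⊓ Subgroup.centralizer (P : Set G) ≤ Subgroup.centralizer (R : Set G)) :
    ∃ (t : ℕ) (y : G), t ∈ Cfsg.beta M ∧ orderOf y = t ∧ y ∈ Cfsg.sigmaCore M ∧
      y ∈ Subgroup.centralizer (R : Set G) ∧ (∀ a ∈ P, a * y * a⁻¹ ∈ Subgroup.zpowers y) ∧
      ∃ a ∈ P, a * y ≠ y * a := by
  classical
  have hU := Cfsg.Agent.Lib.helper13.bgx_uniq hG
  have hodd : Odd (Nat.card G) := hG.1
  have hrp : (Nat.card R).Prime := hrM.1
  have hrσ : Nat.card R ∉ Cfsg.sigma M := hrM.2.1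
  have hpp : p.Prime := hp.1
  have hpσ : p ∉ Cfsg.sigma M := hp.2.1
  -- `H` is not conjugate to `M`
  have hnc : ∀ g : G, H ≠ M.map (MulAut.conj g).toMonoidHom := by
    intro g hg
    apply hpσ
    rw [← Cfsg.Agent.Lib.helper3.sigma_map_conj M g, ← hg]
    exact hpH
  have hHM : H ≠ M := fun h => hpσ (h ▸ hpH)
  have hMsM : Cfsg.sigmaCore M ≤ M := Cfsg.Agent.Lib.helper29.piCoreOf_le (Cfsg.sigma M) M
  have hMsprime : ∀ s : ℕ, s.Prime → s ∣ Nat.card (Cfsg.sigmaCore M) → s ∈ Cfsg.sigma M :=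
    Cfsg.Agent.Lib.helper29.prime_mem_of_dvd_card_piCoreOf (Cfsg.sigma M) M
  set Y : Subgroup G := Cfsg.sigmaCore M ⊓ Subgroup.centralizer (P : Set G) with hYdef
  set W : Subgroup G := ⁅Y, R⁆ with hWdef
  have hRY : R ≤ Subgroup.normalizer (Y : Set G) := by
    intro e he
    have h1 : e ∈ Subgroup.normalizer ((Cfsg.sigmaCore M : Subgroup G) : Set G) :=
      Cfsg.Agent.Lib.helper29.le_normalizer_piCoreOf (Cfsg.sigma M) M (hRM he)
    have h2 : e ∈ Subgroup.normalizer ((Subgroup.centralizer (P : Set G) : Subgroup G) : Set G) :=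
      Subgroup.le_normalizer (hRP he)
    rw [Subgroup.mem_normalizer_iff] at h1 h2 ⊢
    intro h
    rw [hYdef, Subgroup.mem_inf, Subgroup.mem_inf, h1 h, h2 h]
  have hWY : W ≤ Y := Cfsg.Agent.Lib.helper1.commutator_le_of_le_normalizer hRY
  have hRW : R ≤ Subgroup.normalizer (W : Set G) :=
    Cfsg.Agent.Lib.helper1.right_le_normalizer_commutator hRY
  have hW1 : W ≠ ⊥ := fun h => hW (Subgroup.commutator_eq_bot_iff_le_centralizer.mp h)
  have hYprime : ∀ s : ℕ, s.Prime → s ∣ Nat.card Y → s ∈ Cfsg.sigma M := fun s hs hsd =>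
    hMsprime s hs (hsd.trans (Subgroup.card_dvd_of_le inf_le_left))
  have hrY : ¬ Nat.card R ∣ Nat.card Y := fun h => hrσ (hYprime _ hrp h)
  have hrW : ¬ Nat.card R ∣ Nat.card W := fun h => hrY (h.trans (Subgroup.card_dvd_of_le hWY))
  have hYr : (Nat.card R).Coprime (Nat.card Y) := (Nat.Prime.coprime_iff_not_dvd hrp).mpr hrY
  have hsolvY : Group.IsSolvable Y :=
    hG.2.2.2 Y (ne_top_of_le_ne_top hM.1 (inf_le_left.trans hMsM))
  have hWW : ⁅W, R⁆ = W :=
    Cfsg.Agent.Lib.helper1.commutator_commutator_eq R Y hRY hYr (Or.inr hsolvY)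
  have hNW : Subgroup.normalizer (W : Set G) ≤ H := hnorm W hW1 le_rfl
  set Mβ : Subgroup G := Cfsg.piCoreOf (Cfsg.beta M) M with hMβdef
  have hMβM : Mβ ≤ M := Cfsg.Agent.Lib.helper29.piCoreOf_le _ _
  have hMβprime : ∀ s : ℕ, s.Prime → s ∣ Nat.card Mβ → s ∈ Cfsg.beta M :=
    Cfsg.Agent.Lib.helper29.prime_mem_of_dvd_card_piCoreOf _ _
  have hβ : Mβ ≠ ⊥ := by
    intro h
    apply hHM
    have hMH : M ≤ H := by
      intro m hm
      obtain ⟨b, hb, d, hd, hmbd⟩ := hfac m hm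
      rw [h, Subgroup.mem_bot] at hb
      rw [hmbd, hb, one_mul]
      exact hd.2
    exact ((eq_or_lt_of_le hMH).resolve_right (fun hlt => hH.1 (hM.2 H hlt))).symm
  -- a prime `t` dividing `|M_β|`
  have hcard1 : Nat.card Mβ ≠ 1 := fun h => hβ (Subgroup.card_eq_one.mp h)
  obtain ⟨t, ht, htdvd⟩ := Nat.exists_prime_and_dvd hcard1
  have htβ : t ∈ Cfsg.beta M := hMβprime t ht htdvd
  have htα : t ∈ Cfsg.alpha M := htβ.1
  have hβσ : ∀ s, s ∈ Cfsg.beta M → s ∈ Cfsg.sigma M := fun s hs =>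
    Cfsg.Agent.Lib.helper8.bg_alpha_sub_sigma hG hU M hM hs.1
  have htσ : t ∈ Cfsg.sigma M := hβσ t htβ
  have hFt : Fact t.Prime := ⟨ht⟩
  have hβH : ∀ s, s ∈ Cfsg.beta M → s ∉ Cfsg.sigma H := by
    intro s hs hsH
    obtain ⟨g, hg⟩ := Cfsg.Agent.Lib.helper3.conj_of_beta_mem_sigma hG H M hH hM hs hsH
    have h := Cfsg.Agent.Lib.helper13.map_conj_inv_map_conj H g⁻¹
    rw [inv_inv] at h
    exact hnc g⁻¹ (by rw [hg, h])
  have htH : t ∉ Cfsg.sigma H := hβH t htβ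
  have hrt : Nat.card R ≠ t := fun h => hrσ (h ▸ htσ)
  have hpt : p ≠ t := fun h => hpσ (h ▸ htσ)
  have hFr : Fact (Nat.card R).Prime := ⟨hrp⟩
  have hR1 : R ≠ ⊥ := by
    intro h
    have h1 := hrp.one_lt
    rw [h, Subgroup.card_bot] at h1
    exact lt_irrefl _ h1
  -- `M_β ≤ M_σ` and `M_β ≤ M_α`
  have hMβσ : Mβ ≤ Cfsg.sigmaCore M := by
    show Mβ ≤ Cfsg.piCoreOf (Cfsg.sigma M) M
    apply Cfsg.Agent.Lib.helper29.le_piCoreOf hMβM
      (Cfsg.Agent.Lib.helper29.le_normalizer_piCoreOf _ _)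
    intro s hs hsd
    exact hβσ s (hMβprime s hs hsd)
  have hMβα : Mβ ≤ Cfsg.alphaCore M := by
    show Mβ ≤ Cfsg.piCoreOf (Cfsg.alpha M) M
    apply Cfsg.Agent.Lib.helper29.le_piCoreOf hMβM
      (Cfsg.Agent.Lib.helper29.le_normalizer_piCoreOf _ _)
    intro s hs hsd
    exact (hMβprime s hs hsd).1
  -- the group `Γ = (R ⊔ P) ⊔ W`
  have hWM : W ≤ M := hWY.trans (inf_le_left.trans hMsM)
  have hWcP : ∀ w ∈ W, ∀ a ∈ P, a * w = w * a := fun w hw a ha =>
    Subgroup.mem_centralizer_iff.mp (Subgroup.mem_inf.mp (hWY hw)).2 a ha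
  have hPcW : P ≤ Subgroup.centralizer (W : Set G) := by
    intro a ha
    rw [Subgroup.mem_centralizer_iff]
    intro w hw
    exact (hWcP w hw a ha).symm
  have hRPW : R ⊔ P ≤ Subgroup.normalizer (W : Set G) :=
    sup_le hRW (hPcW.trans (Subgroup.centralizer_le_normalizer _))
  have hRNP : R ≤ Subgroup.normalizer (P : Set G) :=
    hRP.trans (Subgroup.centralizer_le_normalizer _)
  set Γ : Subgroup G := (R ⊔ P) ⊔ W with hΓdef
  have hΓM : Γ ≤ M := sup_le (sup_le hRM hPM) hWM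
  have hΓN : Γ ≤ Subgroup.normalizer (Mβ : Set G) :=
    hΓM.trans (Cfsg.Agent.Lib.helper29.le_normalizer_piCoreOf _ _)
  have hΓdvd : Nat.card Γ ∣ Nat.card R * Nat.card P * Nat.card W :=
    (Cfsg.Agent.Lib.helper27.card_sup_dvd_mul_of_le_normalizer (R ⊔ P) W hRPW).trans
      (Nat.mul_dvd_mul_right
        (Cfsg.Agent.Lib.helper27.card_sup_dvd_mul_of_le_normalizer R P hRNP) _)
  have hcop : (Nat.card Γ).Coprime (Nat.card Mβ) := by
    apply Nat.coprime_of_dvd
    intro s hs hsΓ hsβ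
    have hsβ' : s ∈ Cfsg.beta M := hMβprime s hs hsβ
    have h1 : s ∣ Nat.card R * Nat.card P * Nat.card W := hsΓ.trans hΓdvd
    rcases (Nat.Prime.dvd_mul hs).mp h1 with h2 | h2
    · rcases (Nat.Prime.dvd_mul hs).mp h2 with h3 | h3
      · have h4 : s = Nat.card R := (Nat.prime_dvd_prime_iff_eq hs hrp).mp h3
        exact hrσ (h4 ▸ hβσ s hsβ')
      · rw [hP] at h3
        have h4 : s = p := (Nat.prime_dvd_prime_iff_eq hs hpp).mp h3
        exact hpσ (h4 ▸ hβσ s hsβ')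
    · exact hβH s hsβ' (hprimes s hs h2)
  have hsolv : Group.IsSolvable Mβ := hG.2.2.2 Mβ (ne_top_of_le_ne_top hM.1 hMβM)
  obtain ⟨Pt, hPt⟩ := Cfsg.Agent.Lib.helper1.exists_invariant_sylow (p := t) Γ Mβ hΓN hcop
    (Or.inr hsolv)
  set TM : Subgroup G := (Pt : Subgroup Mβ).map Mβ.subtype with hTMdef
  have hTMle : TM ≤ Mβ := Subgroup.map_subtype_le _
  have hTMp : IsPGroup t TM := Pt.isPGroup'.map _
  have hWN : W ≤ Subgroup.normalizer (TM : Set G) := le_sup_right.trans hPt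
  have hRN : R ≤ Subgroup.normalizer (TM : Set G) := (le_sup_left.trans le_sup_left).trans hPt
  have hPN : P ≤ Subgroup.normalizer (TM : Set G) := (le_sup_right.trans le_sup_left).trans hPt
  -- `TM` has rank at least 3
  have hHall := (Cfsg.Agent.S1414.result hG M hM).1
  have hidx : ¬ t ∣ (Cfsg.piCore (Cfsg.beta M) ↥M).index := by
    have h := hHall.2.2 t ht htβ
    rwa [show Cfsg.piCoreOf (Cfsg.beta M) M = (Cfsg.piCore (Cfsg.beta M) ↥M).map M.subtype from rfl,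
      Cfsg.Agent.Lib.helper71.BGA.relIndex_map_subtype] at h
  have hr2 : ¬ PRankLE t 2 ↥TM := by
    obtain ⟨B, hBM, hBe, hBcard⟩ :=
      (Cfsg.Agent.Lib.helper28.not_pRankLE_subgroup_iff t 2 M).mp htα.2
    have hBp : IsPGroup t B := by
      intro b
      refine ⟨1, ?_⟩
      rw [pow_one]
      exact Subtype.ext (by simpa using hBe.2 b b.2)
    have hBMβ : B ≤ Mβ :=
      Cfsg.Agent.Lib.helper71.BGA.le_map_of_isPGroup (Cfsg.piCore (Cfsg.beta M) ↥M) hidx hBM hBp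
    exact Cfsg.Agent.Lib.helper71.BGA.not_prankLE_sylow_map Pt hBMβ hBe hBcard
  -- `W` does not centralize `TM`
  have hWnc : ¬ W ≤ Subgroup.centralizer (TM : Set G) := by
    intro hWc
    have hTMH : TM ≤ H := by
      intro z hz
      apply hNW
      apply Subgroup.centralizer_le_normalizer
      rw [Subgroup.mem_centralizer_iff]
      intro x hx
      exact ((Subgroup.mem_centralizer_iff.mp (hWc hx)) z hz).symm
    have htαH : t ∈ Cfsg.alpha H :=
      ⟨ht, fun h => hr2 (Cfsg.Agent.Lib.helper26.prankLE_mono hTMH h)⟩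
    exact htH (Cfsg.Agent.Lib.helper8.bg_alpha_sub_sigma hG hU H hH htαH)
  have hWt : (Nat.card W).Coprime t :=
    Nat.Coprime.symm ((Nat.Prime.coprime_iff_not_dvd ht).mpr (fun h => htH (hprimes t ht h)))
  have hWr : (Nat.card W).Coprime (Nat.card R) :=
    Nat.Coprime.symm ((Nat.Prime.coprime_iff_not_dvd hrp).mpr hrW)
  have hTMα : TM ≤ Cfsg.alphaCore M := hTMle.trans hMβα
  -- `C_TM(R)` is cyclic
  have hcycR : IsCyclic ↥(TM ⊓ Subgroup.centralizer (R : Set G)) := by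
    apply isCyclic_inf_centralizer hG hM hTMp hTMα hRM
    · intro s hs hsd
      have hsr : s = Nat.card R := (Nat.prime_dvd_prime_iff_eq hs hrp).mp hsd
      rw [hsr]
      exact fun h => hrσ (Cfsg.Agent.Lib.helper8.bg_alpha_sub_sigma hG hU M hM h)
    · intro hu
      have hRp : IsPGroup (Nat.card R) R := IsPGroup.of_card (n := 1) (by rw [pow_one])
      have hNtop := Cfsg.Agent.Lib.helper25.BGT.normalizer_ne_top_of_isPGroup hG _ R hRp hR1
      obtain ⟨L, hL, hNL⟩ :=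
        (eq_top_or_exists_le_coatom (Subgroup.normalizer (R : Set G))).resolve_left hNtop
      have hKL : M ⊓ Subgroup.centralizer (R : Set G) ≤ L :=
        inf_le_right.trans ((Subgroup.centralizer_le_normalizer _).trans hNL)
      have hML : M = L := hu.unique ⟨hM, inf_le_left⟩ ⟨hL, hKL⟩
      have hNM : Subgroup.normalizer (R : Set G) ≤ M := hML ▸ hNL
      have h9 := Cfsg.Agent.S1409.result hG M hM (Nat.card R) hrσ R rfl hNM
      exact h9.1.2 hrM.2.2.2.2
  -- contrapositive of `hLX`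
  have hex : ∃ y ∈ TM ⊓ Subgroup.centralizer (R : Set G), y ^ t = 1 ∧
      y ∉ Subgroup.centralizer ((⁅W, R⁆ : Subgroup G) : Set G) := by
    by_contra hno
    have h := hLX TM W R t ht hTMp hrp hrt hWt hWr hRW hWN hRN hcycR
      (fun x hx hxt => by
        by_contra hxc
        exact hno ⟨x, hx, hxt, hxc⟩)
    rw [hWW] at h
    exact hWnc h
  obtain ⟨y, hyC, hyt, hyn⟩ := hex
  have hyT : y ∈ TM := (Subgroup.mem_inf.mp hyC).1
  have hyR' : y ∈ Subgroup.centralizer (R : Set G) := (Subgroup.mem_inf.mp hyC).2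
  have hyR : ∀ e ∈ R, e * y = y * e := Subgroup.mem_centralizer_iff.mp hyR'
  have hy1 : y ≠ 1 := fun h => hyn (h ▸ Subgroup.one_mem _)
  have hyord : orderOf y = t := orderOf_eq_prime hyt hy1
  have hPnorm : ∀ a ∈ P, a * y * a⁻¹ ∈ Subgroup.zpowers y := by
    intro a ha
    have haC : a * y * a⁻¹ ∈ TM ⊓ Subgroup.centralizer (R : Set G) := by
      refine Subgroup.mem_inf.mpr ⟨(Subgroup.mem_normalizer_iff.mp (hPN ha) y).mp hyT, ?_⟩
      rw [Subgroup.mem_centralizer_iff]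
      intro e he
      have hea : Commute e a := Subgroup.mem_centralizer_iff.mp (hRP he) a ha |>.symm
      have hey : Commute e y := hyR e he
      exact ((hea.mul_right hey).mul_right hea.inv_right).eq
    apply mem_zpowers_of_isCyclic hcycR hyC haC
    rw [hyord, conj_pow, hyt]
    simp
  -- `P` does not centralize `y`
  have hPnc : ∃ a ∈ P, a * y ≠ y * a := by
    by_contra hall
    push Not at hall
    have hcycP : IsCyclic ↥(TM ⊓ Subgroup.centralizer (P : Set G)) := by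
      apply isCyclic_inf_centralizer hG hM hTMp hTMα hPM
      · intro s hs hsd
        rw [hP] at hsd
        have hsp : s = p := (Nat.prime_dvd_prime_iff_eq hs hpp).mp hsd
        rw [hsp]
        exact fun h => hpσ (Cfsg.Agent.Lib.helper8.bg_alpha_sub_sigma hG hU M hM h)
      · intro hu
        have hKH : M ⊓ Subgroup.centralizer (P : Set G) ≤ H :=
          inf_le_right.trans ((Subgroup.centralizer_le_normalizer _).trans hNH)
        exact hHM (hu.unique ⟨hM, inf_le_left⟩ ⟨hH, hKH⟩).symm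
    have hyCP : y ∈ TM ⊓ Subgroup.centralizer (P : Set G) :=
      Subgroup.mem_inf.mpr ⟨hyT, Subgroup.mem_centralizer_iff.mpr hall⟩
    have hWy : ∀ w ∈ W, w⁻¹ * y * w ∈ Subgroup.zpowers y := by
      intro w hw
      have hw' : w⁻¹ ∈ W := W.inv_mem hw
      have hmem : w⁻¹ * y * w ∈ TM ⊓ Subgroup.centralizer (P : Set G) := by
        refine Subgroup.mem_inf.mpr ⟨?_, ?_⟩
        · have h1 := (Subgroup.mem_normalizer_iff.mp (hWN hw') y).mp hyT
          simpa using h1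
        · rw [Subgroup.mem_centralizer_iff]
          intro a ha
          have haw : Commute a w⁻¹ := hWcP w⁻¹ hw' a ha
          have hay : Commute a y := hall a ha
          have h1 := ((haw.mul_right hay).mul_right haw.inv_right).eq
          simpa using h1
      apply mem_zpowers_of_isCyclic hcycP hyCP hmem
      have h1 : (w⁻¹ * y * w) ^ t = w⁻¹ * y ^ t * w := by
        have h2 := conj_pow (a := w⁻¹) (b := y) (i := t)
        simpa using h2
      rw [hyord, h1, hyt]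
      simp
    apply hyn
    have hle : ⁅W, R⁆ ≤ Subgroup.centralizer ({y} : Set G) := by
      rw [Subgroup.commutator_le]
      intro w hw ρ hρ
      rw [Subgroup.mem_centralizer_iff]
      intro z hz
      rw [Set.mem_singleton_iff] at hz
      rw [hz, commutatorElement_def]
      have hρy : Commute ρ y := hyR ρ hρ
      have hρz : Commute ρ (w⁻¹ * y * w) := by
        obtain ⟨k, hk⟩ := Subgroup.mem_zpowers_iff.mp (hWy w hw)
        rw [← hk]
        exact hρy.zpow_right k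
      have h1 : w * ρ * w⁻¹ * y = y * (w * ρ * w⁻¹) := by
        have e1 : w * ρ * w⁻¹ * y = w * (ρ * (w⁻¹ * y * w)) * w⁻¹ := by group
        have e2 : y * (w * ρ * w⁻¹) = w * ((w⁻¹ * y * w) * ρ) * w⁻¹ := by group
        rw [e1, e2, hρz.eq]
      have h2 : ρ⁻¹ * y = y * ρ⁻¹ := hρy.inv_left.eq
      symm
      calc w * ρ * w⁻¹ * ρ⁻¹ * y
          = w * ρ * w⁻¹ * (ρ⁻¹ * y) := by group
        _ = w * ρ * w⁻¹ * (y * ρ⁻¹) := by rw [h2]
        _ = (w * ρ * w⁻¹ * y) * ρ⁻¹ := by group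
        _ = y * (w * ρ * w⁻¹) * ρ⁻¹ := by rw [h1]
        _ = y * (w * ρ * w⁻¹ * ρ⁻¹) := by group
    rw [Subgroup.mem_centralizer_iff]
    intro g hg
    exact (Subgroup.mem_centralizer_iff.mp (hle hg) y (Set.mem_singleton y)).symm
  exact ⟨t, y, htβ, hyord, hMβσ (hTMle hyT), hyR', hPnorm, hPnc⟩

end Cfsg.Agent.Lib.helper25.BG1428
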