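/-
Bender-Glauberman, towards Theorem 14.7(d) (statement S1367): for a maximal subgroup `M` with a
nontrivial Hall `κ(M)`-subgroup `K` and `K* = C_{M_σ}(K)`, every subgroup `X` of prime order of `K*`
has `M` as the only maximal subgroup containing `C_G(X)`.

The statement S1430 (B-G 14.2) enters as the explicit hypothesis `helper69.H1430 G`.
Key lemma (due to helper13): a `p`-element `g` of `K*` with `p ∉ β(M)` lies in `[M_σ, M_σ]`.
-/
import Mathlib
import Cfsg.Agent.S1350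
import Cfsg.Agent.S1414
import Cfsg.Agent.S1423
import Cfsg.Agent.S1426
import Cfsg.Agent.Lib.helper3.ZgBase
import Cfsg.Agent.Lib.helper40.PNil
import Cfsg.Agent.Lib.helper69.BGKappaB

set_option autoImplicit false
open Cfsg Subgroup

namespace Cfsg.Agent.Lib.helper25.BG1367

variable {G : Type*} [Group G]

theorem mem_of_pow_mem_coprime {X : Type*} [Group X] (H : Subgroup X) (x : X) (n : ℕ)
    (h : x ^ n ∈ H) (hc : n.Coprime (orderOf x)) : x ∈ H := by
  obtain ⟨m, hm⟩ := exists_pow_eq_self_of_coprime hc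
  rw [← hm]; exact H.pow_mem h m

/-- `U K` is a complement of `M_σ` in `M`. -/
theorem compl_of_halls [Finite G] (M K U : Subgroup G)
    (hHall : IsPiHallOf (sigma M) (sigmaCore M) M)
    (hK : IsPiHallOf (kappa M) K M)
    (hU : IsPiHallOf {q | q.Prime ∧ q ∉ kappa M ∧ q ∉ sigma M} U M)
    (hKU : K ≤ normalizer (U : Set G)) :
    IsComplIn (U ⊔ K) (sigmaCore M) M := by
  have hUK : U ⊓ K = ⊥ := disjoint_iff.mp (Subgroup.disjoint_of_coprime_natCard
    (Nat.coprime_of_dvd fun k hk h1 h2 => (hU.2.1 k hk h1).2.1 (hK.2.1 k hk h2)))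
  have cE : Nat.card ↥(U ⊔ K) = Nat.card U * Nat.card K :=
    Cfsg.Agent.Lib.helper3.zg_card_sup U K hKU hUK
  have hES : (U ⊔ K) ⊓ sigmaCore M = ⊥ := by
    apply disjoint_iff.mp
    apply Subgroup.disjoint_of_coprime_natCard
    rw [cE]
    apply Nat.coprime_of_dvd
    intro k hk h1 h2
    have hσ := hHall.2.1 k hk h2
    rcases (Nat.Prime.dvd_mul hk).mp h1 with h | h
    · exact (hU.2.1 k hk h).2.2 hσ
    · exact (hK.2.1 k hk h).2.2.1 hσ
  apply Cfsg.Agent.Lib.helper69.bgk_isComplIn_of_card (sup_le hU.1 hK.1) hHall.1 hES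
  have ea := Cfsg.Agent.Lib.helper69.bgk_card_mul_relIndex hU.1
  have eb := Cfsg.Agent.Lib.helper69.bgk_card_mul_relIndex hK.1
  have ec := Cfsg.Agent.Lib.helper69.bgk_card_mul_relIndex hHall.1
  have hnorm : U ⊔ K ≤ normalizer (sigmaCore M : Set G) :=
    (sup_le hU.1 hK.1).trans (Cfsg.Agent.Lib.helper71.BGA.le_normalizer_sigmaCore M)
  have c3 : Nat.card ↥(sigmaCore M ⊔ (U ⊔ K)) =
      Nat.card (sigmaCore M) * Nat.card ↥(U ⊔ K) :=
    Cfsg.Agent.Lib.helper3.zg_card_sup (sigmaCore M) (U ⊔ K) hnorm (by rw [inf_comm]; exact hES)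
  have hdvd : Nat.card (sigmaCore M) * Nat.card ↥(U ⊔ K) ∣ Nat.card M := by
    rw [← c3]
    exact Subgroup.card_dvd_of_le (sup_le hHall.1 (sup_le hU.1 hK.1))
  obtain ⟨l, hl⟩ := hdvd
  rw [cE] at hl
  have hl1 : l = 1 := by
    rw [Nat.eq_one_iff_not_exists_prime_dvd]
    intro q hq hql
    by_cases hσ : q ∈ sigma M
    · apply hHall.2.2 q hq hσ
      have h3 : (sigmaCore M).relIndex M = Nat.card U * Nat.card K * l := by
        apply Nat.eq_of_mul_eq_mul_left (Nat.card_pos : 0 < Nat.card (sigmaCore M))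
        rw [ec, hl]; ring
      rw [h3]; exact Dvd.dvd.mul_left hql _
    · by_cases hκ : q ∈ kappa M
      · apply hK.2.2 q hq hκ
        have h3 : K.relIndex M = Nat.card (sigmaCore M) * Nat.card U * l := by
          apply Nat.eq_of_mul_eq_mul_left (Nat.card_pos : 0 < Nat.card K)
          rw [eb, hl]; ring
        rw [h3]; exact Dvd.dvd.mul_left hql _
      · apply hU.2.2 q hq ⟨hq, hκ, hσ⟩
        have h3 : U.relIndex M = Nat.card (sigmaCore M) * Nat.card K * l := by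
          apply Nat.eq_of_mul_eq_mul_left (Nat.card_pos : 0 < Nat.card U)
          rw [ea, hl]; ring
        rw [h3]; exact Dvd.dvd.mul_left hql _
  rw [cE, hl, hl1]; ring

/-- A subgroup on which some element acts without fixed points consists of commutators. -/
theorem U_le_comm [Finite G] (M K U : Subgroup G) (hUM : U ≤ M) (hKM : K ≤ M)
    (hKU : K ≤ normalizer (U : Set G)) (hK1 : K ≠ ⊥)
    (hreg : ∀ k ∈ K, k ≠ 1 → U ⊓ centralizer ({k} : Set G) = ⊥) : U ≤ ⁅M, M⁆ := by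
  have hKUn := Subgroup.le_normalizer_iff.mp hKU
  obtain ⟨k, hk, hk1⟩ := Cfsg.Agent.Lib.helper29.exists_ne_one_of_ne_bot hK1
  have hφ : ∀ v : U, (v : G) * k * (v : G)⁻¹ * k⁻¹ ∈ U := fun v => by
    have h1 : k * (v : G)⁻¹ * k⁻¹ ∈ U := hKUn k hk _ (U.inv_mem v.2)
    have e : (v : G) * k * (v : G)⁻¹ * k⁻¹ = (v : G) * (k * (v : G)⁻¹ * k⁻¹) := by group
    rw [e]; exact U.mul_mem v.2 h1
  let φ : U → U := fun v => ⟨_, hφ v⟩
  have hinj : Function.Injective φ := by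
    intro v w hvw
    have h1 : (v : G) * k * (v : G)⁻¹ * k⁻¹ = (w : G) * k * (w : G)⁻¹ * k⁻¹ :=
      congrArg Subtype.val hvw
    have h3 : (v : G) * k * (v : G)⁻¹ = (w : G) * k * (w : G)⁻¹ := mul_right_cancel h1
    have h2 : (w : G)⁻¹ * (v : G) ∈ U ⊓ centralizer ({k} : Set G) := by
      refine Subgroup.mem_inf.mpr ⟨U.mul_mem (U.inv_mem w.2) v.2, ?_⟩
      rw [Subgroup.mem_centralizer_iff]
      intro h hh
      rw [Set.mem_singleton_iff.mp hh]
      calc k * ((w : G)⁻¹ * (v : G))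
          = (w : G)⁻¹ * ((w : G) * k * (w : G)⁻¹) * (v : G) := by group
        _ = (w : G)⁻¹ * ((v : G) * k * (v : G)⁻¹) * (v : G) := by rw [h3]
        _ = (w : G)⁻¹ * (v : G) * k := by group
    rw [hreg k hk hk1, Subgroup.mem_bot] at h2
    apply Subtype.ext
    have e : (v : G) = (w : G) * ((w : G)⁻¹ * (v : G)) := by group
    rw [e, h2, mul_one]
  have hsurj := Finite.surjective_of_injective hinj
  intro u hu
  obtain ⟨v, hv⟩ := hsurj ⟨u, hu⟩
  have h1 : (v : G) * k * (v : G)⁻¹ * k⁻¹ = u := congrArg Subtype.val hv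
  rw [← h1, ← commutatorElement_def]
  exact Subgroup.commutator_mem_commutator (hUM v.2) (hKM hk)

/-- A normal `p`-complement of a subgroup `D`, as a subgroup of `G`: it contains every element of
`D` of order prime to `p`. -/
theorem exists_npc [Finite G] (D : Subgroup G) (p : ℕ) [Fact p.Prime]
    (h : HasNormalPComplement p ↥D) :
    ∃ N : Subgroup G, N ≤ D ∧ (Nat.card N).Coprime p ∧
      ∀ x ∈ D, (orderOf x).Coprime p → x ∈ N := by
  obtain ⟨N₀, hN₀n, hN₀c, k, hk⟩ := Cfsg.Agent.Lib.helper40.exists_normal_coprime_of_hasNPC h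
  refine ⟨N₀.map D.subtype, Subgroup.map_subtype_le _, ?_, ?_⟩
  · rw [Subgroup.card_subtype]
    exact hN₀c
  · intro x hx hc
    have h1 : (⟨x, hx⟩ : D) ^ (p ^ k) ∈ N₀ := by
      rw [← hk]; exact @Subgroup.pow_index_mem _ _ N₀ hN₀n _
    have h2 : (⟨x, hx⟩ : D) ∈ N₀ := by
      apply mem_of_pow_mem_coprime N₀ _ (p ^ k) h1
      have e : orderOf (⟨x, hx⟩ : D) = orderOf x := (Subgroup.orderOf_coe (⟨x, hx⟩ : D)).symm
      rw [e]
      exact Nat.Coprime.pow_left k hc.symm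
    exact ⟨⟨x, hx⟩, h2, rfl⟩

/-- KEY LEMMA: a `p`-element of `K* = C_{M_σ}(K)` with `p ∉ β(M)` lies in `[M_σ, M_σ]`. -/
theorem key [Finite G] (hG : IsMinSimpleOddOrder G) (M : Subgroup G) (hM : IsCoatom M)
    (K U : Subgroup G) (hK : IsPiHallOf (kappa M) K M) (hK1 : K ≠ ⊥)
    (hU : IsPiHallOf {q | q.Prime ∧ q ∉ kappa M ∧ q ∉ sigma M} U M)
    (hKU : K ≤ normalizer (U : Set G))
    (hreg : ∀ k ∈ K, k ≠ 1 → U ⊓ centralizer ({k} : Set G) = ⊥)
    (p : ℕ) [Fact p.Prime] (hpσ : p ∈ sigma M) (hpβ : p ∉ beta M)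
    (g : G) (hg : g ∈ sigmaCore M ⊓ centralizer (K : Set G)) (hgp : g ^ p = 1) :
    g ∈ ⁅sigmaCore M, sigmaCore M⁆ := by
  classical
  have hp : p.Prime := Fact.out
  obtain ⟨hHall, -, -⟩ := Cfsg.Agent.S1350.result hG M hM
  have hMsM : sigmaCore M ≤ M := hHall.1
  have hMsn := Cfsg.Agent.Lib.helper71.BGA.le_normalizer_sigmaCore M
  have hMsn' := Subgroup.le_normalizer_iff.mp hMsn
  have hUM : U ≤ M := hU.1
  have hKM : K ≤ M := hK.1
  have hE : IsComplIn (U ⊔ K) (sigmaCore M) M := compl_of_halls M K U hHall hK hU hKU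
  obtain ⟨h26a, h26b, -⟩ := Cfsg.Agent.S1426.result hG M hM (U ⊔ K) hE
  have hS_le : sigmaCore M ≤ ⁅M, M⁆ := by
    calc sigmaCore M = ⁅sigmaCore M, U ⊔ K⁆ := h26b.symm
      _ ≤ ⁅M, M⁆ := Subgroup.commutator_mono hMsM hE.1
  have hU_le : U ≤ ⁅M, M⁆ := U_le_comm M K U hUM hKM hKU hK1 hreg
  have hpM : p ∣ Nat.card M := hpσ.2.1
  obtain ⟨hnpc, -, -⟩ := (Cfsg.Agent.S1414.result hG M hM).2.2.2.2 p hp hpM hpβ
  obtain ⟨N, hND, hNc, hNall⟩ := exists_npc (⁅M, M⁆) p hnpc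
  have hDn : ∀ m ∈ M, ∀ d ∈ ⁅M, M⁆, m * d * m⁻¹ ∈ ⁅M, M⁆ :=
    Subgroup.le_normalizer_iff.mp
      (Cfsg.Agent.Lib.helper69.bgk_le_normalizer_commutator Subgroup.le_normalizer
        Subgroup.le_normalizer)
  have hNnorm : ∀ m ∈ M, ∀ x ∈ N, m * x * m⁻¹ ∈ N := by
    intro m hm x hx
    apply hNall _ (hDn m hm x (hND hx))
    have e : orderOf (m * x * m⁻¹) = orderOf x := by
      have := (MulAut.conj m).orderOf_eq x
      rwa [MulAut.conj_apply] at this
    rw [e]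
    exact Nat.Coprime.coprime_dvd_left (Subgroup.orderOf_dvd_natCard N hx) hNc
  have hUN : U ≤ N := by
    intro u hu
    apply hNall u (hU_le hu)
    have h1 : orderOf u ∣ Nat.card U := Subgroup.orderOf_dvd_natCard U hu
    have h2 : (Nat.card U).Coprime p := by
      rw [Nat.coprime_comm]
      apply (Nat.Prime.coprime_iff_not_dvd hp).mpr
      intro hd
      exact (hU.2.1 p hp hd).2.2 hpσ
    exact Nat.Coprime.coprime_dvd_left h1 h2
  have hEn : U ⊔ K ≤ normalizer ((N ⊓ sigmaCore M : Subgroup G) : Set G) := by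
    rw [Subgroup.le_normalizer_iff]
    intro e he t ht
    have heM : e ∈ M := hE.1 he
    exact Subgroup.mem_inf.mpr ⟨hNnorm e heM t ht.1, hMsn' e heM t ht.2⟩
  have hcop : (Nat.card ↥(U ⊔ K)).Coprime (Nat.card ↥(N ⊓ sigmaCore M)) := by
    have h1 : Nat.card ↥(U ⊔ K) = (sigmaCore M).relIndex M :=
      Cfsg.Agent.Lib.helper29.IsComplIn.card_left hE
    have h2 : (Nat.card (sigmaCore M)).Coprime ((sigmaCore M).relIndex M) :=
      Cfsg.Agent.Lib.helper69.bgk_hall_coprime hHall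
    have h3 : Nat.card ↥(N ⊓ sigmaCore M) ∣ Nat.card (sigmaCore M) :=
      Subgroup.card_dvd_of_le inf_le_right
    rw [h1]
    exact (Nat.Coprime.coprime_dvd_left h3 h2).symm
  have hsolvM : Group.IsSolvable ↥M := hG.2.2.2 M hM.1
  have hsolvE : Group.IsSolvable ↥(U ⊔ K) :=
    Group.isSolvable_of_isSolvable_injective (Subgroup.inclusion_injective hE.1)
  have hgS : g ∈ sigmaCore M := hg.1
  have hgK : ∀ k ∈ K, k * g = g * k := fun k hk => Subgroup.mem_centralizer_iff.mp hg.2 k hk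
  have hgM : g ∈ M := hMsM hgS
  have hcomm : ∀ a ∈ U ⊔ K, a * g * a⁻¹ * g⁻¹ ∈ N ⊓ sigmaCore M := by
    intro a ha
    obtain ⟨u, hu, k, hk, rfl⟩ :=
      Cfsg.Agent.Lib.helper29.exists_mul_of_mem_sup_of_le_normalizer hKU ha
    have e : u * k * g * (u * k)⁻¹ * g⁻¹ = u * g * u⁻¹ * g⁻¹ := by
      have h1 : k * g = g * k := hgK k hk
      calc u * k * g * (u * k)⁻¹ * g⁻¹ = u * (k * g) * k⁻¹ * u⁻¹ * g⁻¹ := by group
        _ = u * (g * k) * k⁻¹ * u⁻¹ * g⁻¹ := by rw [h1]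
        _ = u * g * u⁻¹ * g⁻¹ := by group
    rw [e]
    refine Subgroup.mem_inf.mpr ⟨?_, ?_⟩
    · have h1 : g * u⁻¹ * g⁻¹ ∈ N := hNnorm g hgM _ (N.inv_mem (hUN hu))
      have e2 : u * g * u⁻¹ * g⁻¹ = u * (g * u⁻¹ * g⁻¹) := by group
      rw [e2]; exact N.mul_mem (hUN hu) h1
    · exact (sigmaCore M).mul_mem (hMsn' u (hUM hu) g hgS) ((sigmaCore M).inv_mem hgS)
  obtain ⟨c, hcC, hcT⟩ := Cfsg.Agent.Lib.helper1.coset_fixed (U ⊔ K) (N ⊓ sigmaCore M) hEn hcop
    (Or.inl hsolvE) g hcomm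
  have hcS : c ∈ sigmaCore M := by
    have e : c = (c * g⁻¹) * g := by group
    rw [e]; exact (sigmaCore M).mul_mem hcT.2 hgS
  have hcD : c ∈ ⁅sigmaCore M, sigmaCore M⁆ := h26a (Subgroup.mem_inf.mpr ⟨hcS, hcC⟩)
  -- the abelianization of `M_σ`
  have hcD' : (⟨c, hcS⟩ : sigmaCore M) ∈ commutator ↥(sigmaCore M) := by
    rw [← Subgroup.map_subtype_commutator] at hcD
    obtain ⟨y, hy, hyc⟩ := hcD
    have : y = ⟨c, hcS⟩ := Subtype.ext hyc
    rw [← this]; exact hy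
  have hn : (Nat.card ↥(N ⊓ sigmaCore M)).Coprime p :=
    Nat.Coprime.coprime_dvd_left (Subgroup.card_dvd_of_le inf_le_left) hNc
  have htn : (c * g⁻¹) ^ Nat.card ↥(N ⊓ sigmaCore M) = 1 := by
    have h1 := pow_card_eq_one' (G := ↥(N ⊓ sigmaCore M)) (x := ⟨c * g⁻¹, hcT⟩)
    exact congrArg Subtype.val h1
  have hker : (⟨g, hgS⟩ : sigmaCore M) ^ Nat.card ↥(N ⊓ sigmaCore M) ∈
      commutator ↥(sigmaCore M) := by
    rw [← Abelianization.ker_of, MonoidHom.mem_ker, map_pow]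
    have h1 : Abelianization.of (⟨c, hcS⟩ : sigmaCore M) = 1 := by
      rw [← MonoidHom.mem_ker, Abelianization.ker_of]; exact hcD'
    have h2 : (⟨c, hcS⟩ : sigmaCore M) = ⟨c * g⁻¹, hcT.2⟩ * ⟨g, hgS⟩ := by
      apply Subtype.ext
      simp
    rw [h2, map_mul] at h1
    have h3 : Abelianization.of (⟨g, hgS⟩ : sigmaCore M) =
        (Abelianization.of (⟨c * g⁻¹, hcT.2⟩ : sigmaCore M))⁻¹ := eq_inv_of_mul_eq_one_right h1
    rw [h3, inv_pow, ← map_pow]
    have h4 : (⟨c * g⁻¹, hcT.2⟩ : sigmaCore M) ^ Nat.card ↥(N ⊓ sigmaCore M) = 1 :=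
      Subtype.ext htn
    rw [h4, map_one, inv_one]
  have hord : (Nat.card ↥(N ⊓ sigmaCore M)).Coprime (orderOf (⟨g, hgS⟩ : sigmaCore M)) := by
    have h1 : orderOf (⟨g, hgS⟩ : sigmaCore M) ∣ p := by
      apply orderOf_dvd_of_pow_eq_one
      exact Subtype.ext hgp
    exact Nat.Coprime.coprime_dvd_right h1 hn
  have hfin := mem_of_pow_mem_coprime (commutator ↥(sigmaCore M)) _ _ hker hord
  rw [← Subgroup.map_subtype_commutator]
  exact ⟨⟨g, hgS⟩, hfin, rfl⟩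

/-- COROLLARY (c'): for `X ≤ K*` of prime order, `M` is the unique maximal subgroup containing
`C_G(X)`. -/
theorem cent_uniq [Finite G] (hG : IsMinSimpleOddOrder G)
    (h1430 : Cfsg.Agent.Lib.helper69.H1430 G) (M : Subgroup G) (hM : IsCoatom M)
    (K : Subgroup G) (hK : IsPiHallOf (kappa M) K M) (hK1 : K ≠ ⊥)
    (X : Subgroup G) (hX : X ≤ sigmaCore M ⊓ centralizer (K : Set G))
    (hXp : (Nat.card X).Prime) :
    centralizer (X : Set G) ≤ M ∧
      ∀ L : Subgroup G, IsCoatom L → centralizer (X : Set G) ≤ L → L = M := by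
  obtain ⟨-, ⟨U, -, hU, hKU, hreg⟩, -⟩ := h1430 M hM K hK hK1
  obtain ⟨hHall, -, -⟩ := Cfsg.Agent.S1350.result hG M hM
  have hXS : X ≤ sigmaCore M := hX.trans inf_le_left
  have hXM : X ≤ M := hXS.trans hHall.1
  have hfact : Fact (Nat.card X).Prime := ⟨hXp⟩
  have hpσ : Nat.card X ∈ sigma M := hHall.2.1 _ hXp (Subgroup.card_dvd_of_le hXS)
  obtain ⟨P⟩ : Nonempty (Sylow (Nat.card X) ↥(sigmaCore M)) := inferInstance
  have h : Nat.card X ∈ beta M ∨ X ≤ ⁅sigmaCore M, sigmaCore M⁆ := by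
    by_cases hβ : Nat.card X ∈ beta M
    · exact Or.inl hβ
    · right
      intro g hg
      have hgp : g ^ Nat.card X = 1 := by
        have h1 := pow_card_eq_one' (G := ↥X) (x := ⟨g, hg⟩)
        exact congrArg Subtype.val h1
      exact key hG M hM K U hK hK1 hU hKU hreg (Nat.card X) hpσ hβ g (hX hg) hgp
  exact (Cfsg.Agent.S1423.result hG M hM (Nat.card X) hpσ X hXM rfl P h).1

/-- `K* ≠ 1`. -/
theorem ks_ne_bot [Finite G]
    (h1430 : Cfsg.Agent.Lib.helper69.H1430 G) (M : Subgroup G) (hM : IsCoatom M)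
    (K : Subgroup G) (hK : IsPiHallOf (kappa M) K M) (hK1 : K ≠ ⊥) :
    sigmaCore M ⊓ centralizer (K : Set G) ≠ ⊥ := by
  obtain ⟨h30a, -, -⟩ := h1430 M hM K hK hK1
  have hMsn' := Subgroup.le_normalizer_iff.mp
    (Cfsg.Agent.Lib.helper71.BGA.le_normalizer_sigmaCore M)
  have hcard : Nat.card K ≠ 1 := fun h => hK1 (Subgroup.card_eq_one.mp h)
  obtain ⟨p, hp, hpK⟩ := Nat.exists_prime_and_dvd hcard
  have hpκ : p ∈ kappa M := hK.2.1 p hp hpK
  have hfact : Fact p.Prime := ⟨hp⟩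
  obtain ⟨P⟩ : Nonempty (Sylow p ↥M) := inferInstance
  obtain ⟨-, x, hxP, hx1, y, hyS, hy1, hxy⟩ := hpκ.2.2.2 P
  obtain ⟨m, hmM, hm⟩ := Cfsg.Agent.Lib.helper69.bgk_conj_into_hall hK hpκ
    (B := (P : Subgroup M).map M.subtype) (Subgroup.map_subtype_le _)
    (P.isPGroup'.map M.subtype)
  have hxB : (x : G) ∈ (P : Subgroup M).map M.subtype := ⟨x, hxP, rfl⟩
  have hk : m * (x : G) * m⁻¹ ∈ K := hm _ hxB
  have hk1 : m * (x : G) * m⁻¹ ≠ 1 := by
    intro h
    apply hx1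
    have h2 : (x : G) = 1 := by
      have e : (x : G) = m⁻¹ * (m * (x : G) * m⁻¹) * m := by group
      rw [e, h]; group
    exact Subtype.ext h2
  have hy' : m * y * m⁻¹ ∈ sigmaCore M ⊓ centralizer ({m * (x : G) * m⁻¹} : Set G) := by
    refine Subgroup.mem_inf.mpr ⟨hMsn' m hmM y hyS, ?_⟩
    rw [Subgroup.mem_centralizer_iff]
    intro h hh
    rw [Set.mem_singleton_iff.mp hh]
    calc m * (x : G) * m⁻¹ * (m * y * m⁻¹) = m * ((x : G) * y) * m⁻¹ := by group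
      _ = m * (y * (x : G)) * m⁻¹ := by rw [hxy]
      _ = m * y * m⁻¹ * (m * (x : G) * m⁻¹) := by group
  rw [h30a _ hk hk1] at hy'
  intro hbot
  rw [hbot, Subgroup.mem_bot] at hy'
  apply hy1
  have e : y = m⁻¹ * (m * y * m⁻¹) * m := by group
  rw [e, hy']; group

/-- Statement S1367 from S1430. -/
theorem s1367_of_h1430 [Finite G] (hG : IsMinSimpleOddOrder G)
    (h1430 : Cfsg.Agent.Lib.helper69.H1430 G)
    (M : Subgroup G) (hM : IsCoatom M) (K U : Subgroup G) (hKU : IsSigmaDecomposition M K U)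
    (hK1 : K ≠ ⊥) (Mstar : Subgroup G) (hMstar : IsCoatom Mstar)
    (hKst : K = sigmaCore Mstar ⊓
      centralizer ((sigmaCore M ⊓ centralizer (K : Set G) : Subgroup G) : Set G))
    (hKstH : IsPiHallOf (kappa Mstar) (sigmaCore M ⊓ centralizer (K : Set G)) Mstar) :
    (∀ X : Subgroup G, X ≤ (sigmaCore M ⊓ centralizer (K : Set G)) → (Nat.card X).Prime →
        centralizer (X : Set G) ≤ M ∧
          ∀ L : Subgroup G, IsCoatom L → centralizer (X : Set G) ≤ L → L = M) ∧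
      (∀ Y : Subgroup G, Y ≤ K → (Nat.card Y).Prime →
        centralizer (Y : Set G) ≤ Mstar ∧
          ∀ L : Subgroup G, IsCoatom L → centralizer (Y : Set G) ≤ L → L = Mstar) := by
  refine ⟨fun X hX hXp => cent_uniq hG h1430 M hM K hKU.hall hK1 X hX hXp, fun Y hY hYp => ?_⟩
  have hKs1 := ks_ne_bot h1430 M hM K hKU.hall hK1
  exact cent_uniq hG h1430 Mstar hMstar _ hKstH hKs1 Y (le_of_le_of_eq hY hKst) hYp

end Cfsg.Agent.Lib.helper25.BG1367
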