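import Mathlib
import Cfsg.Agent.Lib.helper85.McLDefs

/-!
# S5075 (McLaughlin), sub-piece QUOT-IRR of piece QUOT

For a component `C` of transvections of `H` with `K = ⟨C⟩`: every `K`-invariant subspace between
`radSub K = [V, K] ⊓ C_V(K)` and `commSub K = [V, K]` is one of the two.
-/

set_option autoImplicit false

open Cfsg.Agent.Lib.helper85.McL

namespace Cfsg.Agent.Lib.helper25.McL

universe u

variable {p : ℕ} [Fact p.Prime] {V : Type u} [AddCommGroup V] [Module (ZMod p) V]

/-- SUB-PIECE QUOT-IRR. -/
theorem quot_irr (H : Subgroup (V ≃ₗ[ZMod p] V)) (hU : UnipHyp H)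
    (C : Set (V ≃ₗ[ZMod p] V)) (hC : Comp H C) (U : Submodule (ZMod p) V)
    (h0 : radSub (Subgroup.closure C) ≤ U) (h1 : U ≤ commSub (Subgroup.closure C))
    (hinv : ∀ k ∈ Subgroup.closure C, ∀ u ∈ U, k u ∈ U) :
    U = radSub (Subgroup.closure C) ∨ U = commSub (Subgroup.closure C) := by
  classical
  have hKH : Subgroup.closure C ≤ H := (Subgroup.closure_le H).mpr (fun t ht => hC.sub t ht)
  have hCK : ∀ t ∈ C, t ∈ Subgroup.closure C := fun t ht => Subgroup.subset_closure ht
  have hinvH : ∀ h ∈ H, ∀ u ∈ U, h u ∈ U := by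
    intro h hh u hu
    obtain ⟨k, hk, hkw⟩ := hC.fixW h hh
    rw [hkw u (h1 hu)]
    exact hinv k hk u hu
  have hAB : ∀ t ∈ C, (∀ v, t v - v ∈ U) ∨ (∀ u ∈ U, t u = u) := by
    intro t ht
    obtain ⟨c, φ, hc, hφ, hφc, htx⟩ := hC.tv t ht
    by_cases h : ∃ u ∈ U, φ u ≠ 0
    · left
      obtain ⟨u, hu, hφu⟩ := h
      have h2 : φ u • c ∈ U := by
        have h3 := U.sub_mem (hinv t (hCK t ht) u hu) hu
        rw [htx u, add_sub_cancel_left] at h3
        exact h3
      have h4 : c ∈ U := by
        have h5 := U.smul_mem (φ u)⁻¹ h2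
        rwa [smul_smul, inv_mul_cancel₀ hφu, one_smul] at h5
      intro v
      rw [htx v, add_sub_cancel_left]
      exact U.smul_mem _ h4
    · right
      push Not at h
      intro u hu
      rw [htx u, h u hu, zero_smul, add_zero]
  have hinvapp : ∀ (t : V ≃ₗ[ZMod p] V) (v : V), t⁻¹ (t v) = v :=
    fun t v => t.symm_apply_apply v
  have happinv : ∀ (t : V ≃ₗ[ZMod p] V) (v : V), t (t⁻¹ v) = v :=
    fun t v => t.apply_symm_apply v
  have hstep : ∀ s ∈ C, ∀ t ∈ C, ¬ Commute s t → (∀ v, s v - v ∈ U) → (∀ v, t v - v ∈ U) := by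
    intro s hs t ht hnc hAs
    by_contra hAt
    have hBt : ∀ u ∈ U, t u = u := by
      rcases hAB t ht with h | h
      · exact absurd h hAt
      · exact h
    have hBt' : ∀ u ∈ U, t⁻¹ u = u := by
      intro u hu
      have := hinvapp t u
      rw [hBt u hu] at this
      exact this
    have hsK := hCK s hs
    have htK := hCK t ht
    have hkK : s * t * s⁻¹ * t⁻¹ ∈ Subgroup.closure C :=
      Subgroup.mul_mem _ (Subgroup.mul_mem _ (Subgroup.mul_mem _ hsK htK)
        (Subgroup.inv_mem _ hsK)) (Subgroup.inv_mem _ htK)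
    have hkapp : ∀ v, (s * t * s⁻¹ * t⁻¹) v = s (t (s⁻¹ (t⁻¹ v))) := fun v => rfl
    have hfix : ∀ u ∈ U, (s * t * s⁻¹ * t⁻¹) u = u := by
      intro u hu
      rw [hkapp, hBt' u hu, hBt _ (hinv _ (Subgroup.inv_mem _ hsK) u hu), happinv]
    have hk1 : s * t * s⁻¹ * t⁻¹ = 1 := by
      apply hU U U hinvH hinvH _ (hKH hkK)
      · intro v
        rw [hkapp]
        obtain ⟨w, hw⟩ : ∃ w, w = t⁻¹ v := ⟨_, rfl⟩
        have htw : t w = v := by rw [hw, happinv]
        obtain ⟨y, hy⟩ : ∃ y, y = s⁻¹ w - w := ⟨_, rfl⟩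
        have hyU : y ∈ U := by
          have h2 := hAs (s⁻¹ w)
          rw [happinv] at h2
          have h3 := U.neg_mem h2
          rw [neg_sub] at h3
          rw [hy]
          exact h3
        have h4 : s⁻¹ w = w + y := by rw [hy]; abel
        rw [← hw, h4, map_add, htw, hBt y hyU, map_add]
        have h5 : s v + s y - v = (s v - v) + s y := by abel
        rw [h5]
        exact U.add_mem (hAs v) (hinv s hsK y hyU)
      · intro u hu
        rw [hfix u hu, sub_self]
        exact U.zero_mem
      · exact hfix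
    apply hnc
    have h6 : s * t * s⁻¹ = t := mul_inv_eq_one.mp hk1
    exact mul_inv_eq_iff_eq_mul.mp h6
  have hchain : ∀ s t, Relation.ReflTransGen (fun a b => a ∈ C ∧ b ∈ C ∧ ¬ Commute a b) s t →
      (∀ v, s v - v ∈ U) → (∀ v, t v - v ∈ U) := by
    intro s t hst
    induction hst with
    | refl => exact fun h => h
    | tail _ hbc ih =>
      intro h
      exact hstep _ hbc.1 _ hbc.2.1 hbc.2.2 (ih h)
  by_cases hall : ∀ t ∈ C, ∀ v, t v - v ∈ U
  · right
    have hK : ∀ k ∈ Subgroup.closure C, ∀ v, k v - v ∈ U := by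
      intro k hk
      induction hk using Subgroup.closure_induction with
      | mem t ht => exact hall t ht
      | one =>
        intro v
        have : (1 : V ≃ₗ[ZMod p] V) v - v = 0 := sub_self v
        rw [this]
        exact U.zero_mem
      | mul a b ha hb iha ihb =>
        intro v
        have : (a * b) v - v = a (b v - v) + (a v - v) := by
          rw [map_sub]
          change a (b v) - v = _
          abel
        rw [this]
        exact U.add_mem (hinv a ha _ (ihb v)) (iha v)
      | inv a ha iha =>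
        intro v
        have : a⁻¹ v - v = -(a⁻¹ (a v - v)) := by
          rw [map_sub, hinvapp]
          abel
        rw [this]
        exact U.neg_mem (hinv _ (Subgroup.inv_mem _ ha) _ (iha v))
    apply le_antisymm h1
    unfold commSub
    rw [Submodule.span_le]
    rintro w ⟨k, hk, v, rfl⟩
    exact hK k hk v
  · left
    push Not at hall
    obtain ⟨t₀, ht₀, hnt₀⟩ := hall
    have hB : ∀ t ∈ C, ∀ u ∈ U, t u = u := by
      intro t ht
      rcases hAB t ht with h | h
      · exfalso
        obtain ⟨v, hv⟩ := hnt₀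
        exact hv (hchain t t₀ (hC.conn t ht t₀ ht₀) h v)
      · exact h
    have hK : ∀ k ∈ Subgroup.closure C, ∀ u ∈ U, k u = u := by
      intro k hk
      induction hk using Subgroup.closure_induction with
      | mem t ht => exact hB t ht
      | one =>
        intro u _
        rfl
      | mul a b ha hb iha ihb =>
        intro u hu
        change a (b u) = u
        rw [ihb u hu, iha u hu]
      | inv a ha iha =>
        intro u hu
        have := hinvapp a u
        rw [iha u hu] at this
        exact this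
    apply le_antisymm _ h0
    intro u hu
    unfold radSub
    exact Submodule.mem_inf.mpr ⟨h1 hu, fun k hk => hK k hk u hu⟩

end Cfsg.Agent.Lib.helper25.McL
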