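import Mathlib
import Cfsg.Prelude.Def_Characters
import Cfsg.Prelude.Def_Blocks
import Cfsg.Agent.Lib.helper4.BurnsidePQ

/-! S4501 split, piece BURN: Burnside's two-prime theorem for non-abelian simple groups. -/

set_option autoImplicit false

namespace Cfsg.Agent.Lib.helper25.BW

open Cfsg

universe u

variable {G : Type u} [Group G] [Finite G]

/-- BURN : Burnside's two-prime theorem (landed `Cfsg.Agent.S0144.result`) for simple groups. -/
theorem not_two_primes [IsSimpleGroup G] (hna : ∃ x y : G, x * y ≠ y * x) (r s a b : ℕ)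
    (hr : r.Prime) (hs : s.Prime) (hcard : Nat.card G = r ^ a * s ^ b) : False := by
  have hsol := Cfsg.Agent.Lib.helper4.isSolvable_of_card_eq_prime_pow_mul_prime_pow r s a b hr hs
    hcard
  obtain ⟨x, y, hxy⟩ := hna
  exact hxy ((IsSimpleGroup.comm_iff_isSolvable.mpr hsol) x y)

end Cfsg.Agent.Lib.helper25.BW
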