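import Mathlib
import Cfsg.Prelude.Def_Characters
import Cfsg.Prelude.Def_Blocks
import Cfsg.Agent.Lib.helper21.MultChar
import Cfsg.Agent.Lib.helper48.BU_FAITH
import Cfsg.Agent.Lib.helper81.CharOrtho

/-! S4501 split, piece DEGF: a nontrivial irreducible character of a non-abelian simple group is
nonlinear, its degree divides `|G|`, and it is faithful. -/

set_option autoImplicit false

namespace Cfsg.Agent.Lib.helper25.BW

open Cfsg

universe u

variable {G : Type u} [Group G] [Finite G]

/-- DEGF : a nontrivial irreducible character of a non-abelian simple group is nonlinear,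
its degree divides `|G|`, and it is faithful. -/
theorem deg_facts [IsSimpleGroup G] (hna : ∃ x y : G, x * y ≠ y * x) (χ : IrrCharacter G)
    (hχ : (χ : G → ℂ) ≠ fun _ => 1) :
    1 < charDegree (χ : G → ℂ) ∧ charDegree (χ : G → ℂ) ∣ Nat.card G ∧
      ∀ g : G, (χ : G → ℂ) g = (χ : G → ℂ) 1 → g = 1 := by
  classical
  let _ : Fintype G := Fintype.ofFinite G
  have hθ : χ ≠ Cfsg.Agent.Lib.helper81.trivChar G := by
    intro h
    apply hχ
    rw [h]
    rfl
  have hfaith : ∀ g : G, (χ : G → ℂ) g = (χ : G → ℂ) 1 → g = 1 :=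
    fun g hg => Cfsg.Agent.Lib.helper48.BU.faithful_of_simple χ hθ g hg
  refine ⟨?_, Cfsg.Agent.Lib.helper81.irr_degree_dvd_card χ, hfaith⟩
  have hpos := Cfsg.Agent.Lib.helper81.irr_charDegree_pos χ
  by_contra hlt
  have hdeg : charDegree (χ : G → ℂ) = 1 := by omega
  have h1 : (χ : G → ℂ) 1 = 1 := by
    rw [Cfsg.Agent.Lib.helper81.irr_one_eq_charDegree, hdeg, Nat.cast_one]
  obtain ⟨x, y, hxy⟩ := hna
  apply hxy
  have hd : x * y * x⁻¹ * y⁻¹ ∈ commutator G := by
    rw [commutator_def]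
    exact Subgroup.commutator_mem_commutator (g₁ := x) (g₂ := y) (Subgroup.mem_top x)
      (Subgroup.mem_top y)
  have h3 := Cfsg.Agent.Lib.helper21.mc_linear_commutator χ h1 hd
  have h4 : x * y * x⁻¹ * y⁻¹ = 1 := hfaith _ (h3.trans h1.symm)
  exact (commutatorElement_eq_one_iff_mul_comm (g₁ := x) (g₂ := y)).mp h4

end Cfsg.Agent.Lib.helper25.BW
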