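import Mathlib

/-!
Piece P3 for S4427: a minimal idempotent `ι` with `ε ι = 1` in a finite free algebra over a local
domain in which monic polynomials split off their "unit part"; elements of `ιBι` with unit
augmentation are invertible in `ιBι`.
-/

set_option autoImplicit false

namespace Cfsg.Agent.Lib.helper25

open Polynomial

theorem commute_aeval_of_commute {R B : Type*} [CommRing R] [Ring B] [Algebra R B] {x z : B}
    (h : Commute x z) (p : R[X]) : Commute x (aeval z p) := by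
  rw [aeval_eq_sum_range]
  exact Commute.sum_right _ _ _ (fun i _ => (h.pow_right i).smul_right _)

theorem exists_min_idem {R B : Type*} [CommRing R] [IsDomain R] [IsLocalRing R] [Ring B] [Algebra R B]
    [Module.Free R B] [Module.Finite R B]
    (hsplit : ∀ f : R[X], f.Monic → ∃ f₁ f₂ : R[X], f = f₁ * f₂ ∧ IsCoprime f₁ f₂ ∧
      IsUnit (f₂.coeff 0) ∧ ∀ r : R, IsUnit r → f.IsRoot r → f₂.IsRoot r)
    (ε : B →ₐ[R] R) (μ : B → ℕ)
    (hμ : ∀ ι κ : B, ι * ι = ι → κ * κ = κ → ι * κ = κ → κ * ι = κ →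
      μ κ ≤ μ ι ∧ (μ κ = μ ι → κ = ι)) :
    ∃ ι : B, ι * ι = ι ∧ ε ι = 1 ∧ ∀ z : B, ι * z = z → z * ι = z → IsUnit (ε z) →
      ∃ w : B, ι * w = w ∧ w * ι = w ∧ z * w = ι := by
  have hS : ({ι : B | ι * ι = ι ∧ ε ι = 1} : Set B).Nonempty := ⟨1, by simp⟩
  obtain ⟨ι, ⟨hιι, hει⟩, hmin⟩ := (InvImage.wf μ Nat.lt_wfRel.wf).has_min _ hS
  refine ⟨ι, hιι, hει, ?_⟩
  intro z hιz hzι hu
  -- the characteristic polynomial of left multiplication by `z`
  have hfm : ((LinearMap.mulLeft R z).charpoly).Monic := LinearMap.charpoly_monic _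
  have hfz : aeval z (LinearMap.mulLeft R z).charpoly = 0 := by
    have h1 : aeval (LinearMap.mulLeft R z) (LinearMap.mulLeft R z).charpoly = 0 :=
      LinearMap.aeval_self_charpoly _
    have h2 : aeval (Algebra.lmul R B z) (LinearMap.mulLeft R z).charpoly =
        Algebra.lmul R B (aeval z (LinearMap.mulLeft R z).charpoly) :=
      Polynomial.aeval_algHom_apply (Algebra.lmul R B) z _
    have h3 : Algebra.lmul R B (aeval z (LinearMap.mulLeft R z).charpoly) = 0 := by
      rw [← h2]; exact h1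
    have h4 := congrArg (fun φ : Module.End R B => φ 1) h3
    simpa using h4
  obtain ⟨f₁, f₂, hff, hcop, hc0, hroot⟩ := hsplit _ hfm
  obtain ⟨a, b, hab⟩ := hcop
  have hεaeval : ∀ p : R[X], ε (aeval z p) = p.eval (ε z) := by
    intro p
    rw [← Polynomial.aeval_algHom_apply, Polynomial.coe_aeval_eq_eval]
  have hfroot : ((LinearMap.mulLeft R z).charpoly).IsRoot (ε z) := by
    rw [Polynomial.IsRoot, ← hεaeval, hfz, map_zero]
  have hf₂root : f₂.eval (ε z) = 0 := hroot (ε z) hu hfroot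
  -- the idempotent `κ`
  have hκκ : aeval z (a * f₁) * aeval z (a * f₁) = aeval z (a * f₁) := by
    have h1 : (a * f₁) * (a * f₁) = a * f₁ - a * b * (LinearMap.mulLeft R z).charpoly := by
      rw [hff]; linear_combination (a * f₁) * hab
    rw [← map_mul, h1, map_sub, map_mul (aeval z) (a * b), hfz, mul_zero, sub_zero]
  have hεκ : ε (aeval z (a * f₁)) = 1 := by
    rw [hεaeval]
    have h1 : (a * f₁).eval (ε z) + (b * f₂).eval (ε z) = 1 := by
      rw [← Polynomial.eval_add, hab, Polynomial.eval_one]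
    have hb : (b * f₂).eval (ε z) = 0 := by rw [Polynomial.eval_mul, hf₂root, mul_zero]
    rw [hb, add_zero] at h1
    exact h1
  have hιzc : Commute ι z := by rw [Commute, SemiconjBy, hιz, hzι]
  have hcomm : Commute ι (aeval z (a * f₁)) := commute_aeval_of_commute hιzc _
  have hικ : ι * aeval z (a * f₁) = ι := by
    have hid : (ι * aeval z (a * f₁)) * (ι * aeval z (a * f₁)) = ι * aeval z (a * f₁) := by
      calc (ι * aeval z (a * f₁)) * (ι * aeval z (a * f₁))
          = ι * (aeval z (a * f₁) * ι) * aeval z (a * f₁) := by simp only [mul_assoc]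
        _ = ι * (ι * aeval z (a * f₁)) * aeval z (a * f₁) := by rw [hcomm.eq]
        _ = (ι * ι) * (aeval z (a * f₁) * aeval z (a * f₁)) := by simp only [mul_assoc]
        _ = ι * aeval z (a * f₁) := by rw [hιι, hκκ]
    have h1 : ι * (ι * aeval z (a * f₁)) = ι * aeval z (a * f₁) := by
      rw [← mul_assoc, hιι]
    have h2 : (ι * aeval z (a * f₁)) * ι = ι * aeval z (a * f₁) := by
      rw [mul_assoc, ← hcomm.eq, ← mul_assoc, hιι]
    have hε' : ε (ι * aeval z (a * f₁)) = 1 := by rw [map_mul, hει, hεκ, mul_one]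
    obtain ⟨hle, heq⟩ := hμ ι (ι * aeval z (a * f₁)) hιι hid h1 h2
    have hnlt : ¬ μ (ι * aeval z (a * f₁)) < μ ι := hmin _ ⟨hid, hε'⟩
    exact heq (le_antisymm hle (not_lt.mp hnlt))
  -- `f₂(z) ι = 0`
  have h0 : aeval z f₂ * ι = 0 := by
    have h1 : f₂ * (a * f₁) = a * (LinearMap.mulLeft R z).charpoly := by rw [hff]; ring
    calc aeval z f₂ * ι = aeval z f₂ * (ι * aeval z (a * f₁)) := by rw [hικ]
      _ = aeval z f₂ * (aeval z (a * f₁) * ι) := by rw [hcomm.eq]
      _ = aeval z (f₂ * (a * f₁)) * ι := by rw [map_mul (aeval z) f₂, mul_assoc]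
      _ = 0 := by rw [h1, map_mul, hfz, mul_zero, zero_mul]
  obtain ⟨u, hu0⟩ := hc0
  have hdec : aeval z f₂ = aeval z f₂.divX * z + algebraMap R B (u : R) := by
    conv_lhs => rw [← Polynomial.divX_mul_X_add f₂]
    rw [map_add, map_mul, aeval_X, aeval_C, hu0]
  have hzh : Commute z (aeval z f₂.divX) := commute_aeval_of_commute (Commute.refl z) _
  have hιh : Commute ι (aeval z f₂.divX) := commute_aeval_of_commute hιzc _
  have h1 : aeval z f₂.divX * z + (u : R) • ι = 0 := by
    have h2 := h0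
    rw [hdec, add_mul, mul_assoc, hzι, Algebra.algebraMap_eq_smul_one, smul_mul_assoc, one_mul] at h2
    exact h2
  have h3 : ι = z * (-(((u⁻¹ : Rˣ) : R) • aeval z f₂.divX)) := by
    have h4 : (u : R) • ι = -(z * aeval z f₂.divX) := by
      rw [hzh.eq]; exact eq_neg_of_add_eq_zero_right h1
    have h5 : ((u⁻¹ : Rˣ) : R) • ((u : R) • ι) = ι := by
      rw [smul_smul, Units.inv_mul, one_smul]
    rw [← h5, h4, mul_neg, mul_smul_comm, smul_neg]
  refine ⟨ι * (-(((u⁻¹ : Rˣ) : R) • aeval z f₂.divX)) * ι, ?_, ?_, ?_⟩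
  · rw [← mul_assoc, ← mul_assoc, hιι]
  · rw [mul_assoc, hιι]
  · rw [← mul_assoc, ← mul_assoc, hzι, ← h3, hιι]

end Cfsg.Agent.Lib.helper25
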