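import Mathlib
import Cfsg.Prelude.Def_GeometricClasses

set_option autoImplicit false

namespace Cfsg.Agent.Lib.helper2

open Cfsg.Geo Matrix

/-- EMB1 -/
theorem qfc_hom {F : Type*} [Field F] {ι : Type} [Fintype ι] [DecidableEq ι]
    (δ : F) [Fact (∀ r : F, r ^ 2 ≠ δ + 0 * r)] (κ : Matrix ι ι F)
    (d : ℕ) (Φ : (Fin d → QuadraticAlgebra F δ 0) ≃+ (ι → F))
    (hΦ : ∀ (z : QuadraticAlgebra F δ 0) (k : Fin d → QuadraticAlgebra F δ 0),
        Φ (z • k) = z.re • Φ k + z.im • (κ *ᵥ Φ k)) :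
    ∃ φ : GL (Fin d) (QuadraticAlgebra F δ 0) →* GL ι F, Function.Injective φ ∧
      ∀ (T : GL (Fin d) (QuadraticAlgebra F δ 0)) (k : Fin d → QuadraticAlgebra F δ 0),
        (φ T : Matrix ι ι F) *ᵥ Φ k =
          Φ ((T : Matrix (Fin d) (Fin d) (QuadraticAlgebra F δ 0)) *ᵥ k) := by
  classical
  have hsm : ∀ (a : F) (k : Fin d → QuadraticAlgebra F δ 0),
      Φ ((⟨a, 0⟩ : QuadraticAlgebra F δ 0) • k) = a • Φ k := by
    intro a k
    rw [hΦ]
    simp
  have hsymm : ∀ (a : F) (v : ι → F),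
      Φ.symm (a • v) = (⟨a, 0⟩ : QuadraticAlgebra F δ 0) • Φ.symm v := by
    intro a v
    apply Φ.injective
    rw [hsm, AddEquiv.apply_symm_apply, AddEquiv.apply_symm_apply]
  let L : Matrix (Fin d) (Fin d) (QuadraticAlgebra F δ 0) → ((ι → F) →ₗ[F] (ι → F)) := fun T =>
    { toFun := fun v => Φ (T *ᵥ Φ.symm v)
      map_add' := by
        intro v w
        rw [map_add, Matrix.mulVec_add, map_add]
      map_smul' := by
        intro a v
        simp only [RingHom.id_apply]
        rw [hsymm, Matrix.mulVec_smul, hsm] }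
  have hL : ∀ T v, L T v = Φ (T *ᵥ Φ.symm v) := fun T v => rfl
  let ψ : Matrix (Fin d) (Fin d) (QuadraticAlgebra F δ 0) →* Matrix ι ι F :=
    { toFun := fun T => LinearMap.toMatrix' (L T)
      map_one' := by
        have h1 : L 1 = LinearMap.id := by
          apply LinearMap.ext
          intro v
          rw [hL, Matrix.one_mulVec, AddEquiv.apply_symm_apply, LinearMap.id_apply]
        rw [h1, LinearMap.toMatrix'_id]
      map_mul' := by
        intro T S
        have h1 : L (T * S) = (L T).comp (L S) := by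
          apply LinearMap.ext
          intro v
          rw [LinearMap.comp_apply, hL, hL, hL, AddEquiv.symm_apply_apply, Matrix.mulVec_mulVec]
        rw [h1, LinearMap.toMatrix'_comp] }
  have hψ : ∀ (T : Matrix (Fin d) (Fin d) (QuadraticAlgebra F δ 0))
      (k : Fin d → QuadraticAlgebra F δ 0), ψ T *ᵥ Φ k = Φ (T *ᵥ k) := by
    intro T k
    show LinearMap.toMatrix' (L T) *ᵥ Φ k = _
    rw [LinearMap.toMatrix'_mulVec, hL, AddEquiv.symm_apply_apply]
  refine ⟨Units.map ψ, ?_, ?_⟩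
  · intro T T' h
    have h1 : ψ (T : Matrix (Fin d) (Fin d) (QuadraticAlgebra F δ 0)) =
        ψ (T' : Matrix (Fin d) (Fin d) (QuadraticAlgebra F δ 0)) :=
      congrArg (fun g : GL ι F => (g : Matrix ι ι F)) h
    apply Units.ext
    apply Matrix.ext_iff_mulVec.2
    intro k
    apply Φ.injective
    rw [← hψ, ← hψ, h1]
  · intro T k
    exact hψ T k

end Cfsg.Agent.Lib.helper2
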