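import Mathlib
import Cfsg.Prelude.Def_GeometricClasses

set_option autoImplicit false

namespace Cfsg.Agent.Lib.helper2

open Cfsg.Geo Matrix

/-- Transport of a `K'`-matrix along two coordinate maps is given by an `F`-matrix. -/
theorem helper25_transport_mat {F : Type*} [Field F] {ι : Type} [Fintype ι] [DecidableEq ι]
    (δ : F) [Fact (∀ r : F, r ^ 2 ≠ δ + 0 * r)] (κa κb : Matrix ι ι F) (d : ℕ)
    (Φa Φb : (Fin d → QuadraticAlgebra F δ 0) ≃+ (ι → F))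
    (hΦa : ∀ (z : QuadraticAlgebra F δ 0) (k : Fin d → QuadraticAlgebra F δ 0),
        Φa (z • k) = z.re • Φa k + z.im • (κa *ᵥ Φa k))
    (hΦb : ∀ (z : QuadraticAlgebra F δ 0) (k : Fin d → QuadraticAlgebra F δ 0),
        Φb (z • k) = z.re • Φb k + z.im • (κb *ᵥ Φb k))
    (A : Matrix (Fin d) (Fin d) (QuadraticAlgebra F δ 0)) :
    ∃ M : Matrix ι ι F, ∀ v : ι → F, M *ᵥ v = Φb (A *ᵥ Φa.symm v) := by
  classical
  have hsma : ∀ (a : F) (k : Fin d → QuadraticAlgebra F δ 0),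
      Φa ((⟨a, 0⟩ : QuadraticAlgebra F δ 0) • k) = a • Φa k := by
    intro a k
    rw [hΦa]
    simp
  have hsmb : ∀ (a : F) (k : Fin d → QuadraticAlgebra F δ 0),
      Φb ((⟨a, 0⟩ : QuadraticAlgebra F δ 0) • k) = a • Φb k := by
    intro a k
    rw [hΦb]
    simp
  have hsymm : ∀ (a : F) (v : ι → F),
      Φa.symm (a • v) = (⟨a, 0⟩ : QuadraticAlgebra F δ 0) • Φa.symm v := by
    intro a v
    apply Φa.injective
    rw [hsma, AddEquiv.apply_symm_apply, AddEquiv.apply_symm_apply]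
  let L : (ι → F) →ₗ[F] (ι → F) :=
    { toFun := fun v => Φb (A *ᵥ Φa.symm v)
      map_add' := by
        intro v w
        rw [map_add, Matrix.mulVec_add, map_add]
      map_smul' := by
        intro a v
        simp only [RingHom.id_apply]
        rw [hsymm, Matrix.mulVec_smul, hsmb] }
  refine ⟨LinearMap.toMatrix' L, ?_⟩
  intro v
  rw [LinearMap.toMatrix'_mulVec]
  rfl

/-- CONJ (racer copy of `qfu_conj`, verbatim statement) -/
theorem h25_qfu_conj {F : Type*} [Field F] {ι : Type} [Fintype ι] [DecidableEq ι]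
    (Q : (ι → F) → F) (δ : F) [Fact (∀ r : F, r ^ 2 ≠ δ + 0 * r)] (κ₁ κ₂ : Matrix ι ι F)
    (d : ℕ) (Φ₁ Φ₂ : (Fin d → QuadraticAlgebra F δ 0) ≃+ (ι → F))
    (hΦ₁ : ∀ (z : QuadraticAlgebra F δ 0) (k : Fin d → QuadraticAlgebra F δ 0),
        Φ₁ (z • k) = z.re • Φ₁ k + z.im • (κ₁ *ᵥ Φ₁ k))
    (hΦ₂ : ∀ (z : QuadraticAlgebra F δ 0) (k : Fin d → QuadraticAlgebra F δ 0),
        Φ₂ (z • k) = z.re • Φ₂ k + z.im • (κ₂ *ᵥ Φ₂ k))
    (qk₁ qk₂ : (ι → F) → QuadraticAlgebra F δ 0) (hre₁ : ∀ v, (qk₁ v).re = Q v)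
    (hre₂ : ∀ v, (qk₂ v).re = Q v) (T : GL (Fin d) (QuadraticAlgebra F δ 0))
    (hT : ∀ k : Fin d → QuadraticAlgebra F δ 0,
      qk₂ (Φ₂ ((T : Matrix (Fin d) (Fin d) (QuadraticAlgebra F δ 0)) *ᵥ k)) = qk₁ (Φ₁ k)) :
    ∃ h : GL ι F, h ∈ Cfsg.isometryGroup F Q ∧
      (h : Matrix ι ι F) * κ₁ = κ₂ * (h : Matrix ι ι F) := by
  classical
  obtain ⟨M, hM⟩ := helper25_transport_mat δ κ₁ κ₂ d Φ₁ Φ₂ hΦ₁ hΦ₂
    (T : Matrix (Fin d) (Fin d) (QuadraticAlgebra F δ 0))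
  obtain ⟨M', hM'⟩ := helper25_transport_mat δ κ₂ κ₁ d Φ₂ Φ₁ hΦ₂ hΦ₁
    ((T⁻¹ : GL (Fin d) (QuadraticAlgebra F δ 0)) : Matrix (Fin d) (Fin d) (QuadraticAlgebra F δ 0))
  have hTT : (T : Matrix (Fin d) (Fin d) (QuadraticAlgebra F δ 0)) *
      ((T⁻¹ : GL (Fin d) (QuadraticAlgebra F δ 0)) : Matrix (Fin d) (Fin d) (QuadraticAlgebra F δ 0)) = 1 :=
    Units.mul_inv T
  have hTT' : ((T⁻¹ : GL (Fin d) (QuadraticAlgebra F δ 0)) : Matrix (Fin d) (Fin d) (QuadraticAlgebra F δ 0)) *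
      (T : Matrix (Fin d) (Fin d) (QuadraticAlgebra F δ 0)) = 1 :=
    Units.inv_mul T
  have h1 : M * M' = 1 := by
    apply Matrix.ext_iff_mulVec.2
    intro v
    rw [← Matrix.mulVec_mulVec, hM', hM, AddEquiv.symm_apply_apply, Matrix.mulVec_mulVec, hTT,
      Matrix.one_mulVec, AddEquiv.apply_symm_apply, Matrix.one_mulVec]
  have h2 : M' * M = 1 := by
    apply Matrix.ext_iff_mulVec.2
    intro v
    rw [← Matrix.mulVec_mulVec, hM, hM', AddEquiv.symm_apply_apply, Matrix.mulVec_mulVec, hTT',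
      Matrix.one_mulVec, AddEquiv.apply_symm_apply, Matrix.one_mulVec]
  refine ⟨⟨M, M', h1, h2⟩, ?_, ?_⟩
  · intro u v
    show Q (M *ᵥ u) = Q u
    rw [hM, ← hre₂, hT, hre₁, AddEquiv.apply_symm_apply]
  · show M * κ₁ = κ₂ * M
    apply Matrix.ext_iff_mulVec.2
    intro v
    rw [← Matrix.mulVec_mulVec, ← Matrix.mulVec_mulVec, hM, hM]
    have hω₁ : ∀ k : Fin d → QuadraticAlgebra F δ 0,
        Φ₁ ((⟨0, 1⟩ : QuadraticAlgebra F δ 0) • k) = κ₁ *ᵥ Φ₁ k := by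
      intro k
      rw [hΦ₁]
      simp
    have hω₂ : ∀ k : Fin d → QuadraticAlgebra F δ 0,
        Φ₂ ((⟨0, 1⟩ : QuadraticAlgebra F δ 0) • k) = κ₂ *ᵥ Φ₂ k := by
      intro k
      rw [hΦ₂]
      simp
    have h3 : κ₁ *ᵥ v = Φ₁ ((⟨0, 1⟩ : QuadraticAlgebra F δ 0) • Φ₁.symm v) := by
      rw [hω₁, AddEquiv.apply_symm_apply]
    rw [h3, AddEquiv.symm_apply_apply, Matrix.mulVec_smul, hω₂]

end Cfsg.Agent.Lib.helper2
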