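import Mathlib
import Cfsg.Agent.Lib.helper24.SffDefs

/-!
# S5965 pieces N4A2 / N4A3, cores (helper25): diagonal derangements, relative to the diagonal
criterion DIAG (`sff_diag_crit`), which is taken as a hypothesis here.
-/

set_option autoImplicit false

namespace Cfsg.Agent.Lib.helper24

open Matrix

/-- A primitive `r`-th root of unity in a finite field with `r ∣ q - 1`. -/
theorem h25_exists_zeta {F : Type*} [Field F] [Fintype F] (r : ℕ) [Fact r.Prime]
    (hd : r ∣ Fintype.card F - 1) : ∃ ζ : F, orderOf ζ = r := by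
  have h1 : Nat.card Fˣ = Fintype.card F - 1 := by
    rw [Nat.card_units, Nat.card_eq_fintype_card]
  obtain ⟨u, hu⟩ := exists_prime_orderOf_dvd_card' (G := Fˣ) r (by rw [h1]; exact hd)
  exact ⟨(u : F), by rw [orderOf_units, hu]⟩

/-- The diagonal matrix `diag(ζ^{a_j})` is a derangement as soon as no affine map of `ZMod r`
with slope `q₀` preserves the multiplicities of the exponents. -/
theorem h25_derang_of_diag {F : Type*} [Field F] [Fintype F] (F₀ : Subfield F) {n : ℕ} (r : ℕ)
    [Fact r.Prime]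
    (hdiag : ∀ (ζ : F), orderOf ζ = r → ∀ (a : Fin n → ZMod r) (w : F), w ≠ 0 →
      SffWeakConj F₀ (w • Matrix.diagonal (fun j => ζ ^ (a j).val)) →
      ∃ c : ZMod r, ∀ b : ZMod r, (Finset.univ.filter (fun j => a j = b)).card =
        (Finset.univ.filter (fun j => a j = (Nat.card F₀ : ZMod r) * b + c)).card)
    (ζ : F) (hζ : orderOf ζ = r) (a : Fin n → ZMod r) (hsum : ∑ j, a j = 0)
    (j₁ j₂ : Fin n) (hne : a j₁ ≠ a j₂)
    (hno : ¬ ∃ c : ZMod r, ∀ b : ZMod r, (Finset.univ.filter (fun j => a j = b)).card =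
      (Finset.univ.filter (fun j => a j = (Nat.card F₀ : ZMod r) * b + c)).card) :
    SffDerang F₀ r n := by
  have hr : r.Prime := Fact.out
  have : NeZero r := ⟨hr.ne_zero⟩
  have hζr : ζ ^ r = 1 := by
    rw [← hζ]
    exact pow_orderOf_eq_one ζ
  refine ⟨Matrix.diagonal (fun j => ζ ^ (a j).val), ?_, ⟨1, ?_⟩, ?_, ?_⟩
  · rw [Matrix.det_diagonal, Finset.prod_pow_eq_pow_sum]
    have h1 : ((∑ j, (a j).val : ℕ) : ZMod r) = 0 := by
      rw [Nat.cast_sum]
      simp only [ZMod.natCast_zmod_val]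
      exact hsum
    rw [ZMod.natCast_eq_zero_iff] at h1
    obtain ⟨t, ht⟩ := h1
    rw [ht, pow_mul, hζr, one_pow]
  · rw [Matrix.diagonal_pow, one_smul]
    have h1 : (fun j => ζ ^ (a j).val) ^ r = (1 : Fin n → F) := by
      ext j
      simp only [Pi.pow_apply, Pi.one_apply]
      rw [← pow_mul, mul_comm, pow_mul, hζr, one_pow]
    rw [h1]
    exact Matrix.diagonal_one
  · intro z hz
    have e1 := congrFun (congrFun hz j₁) j₁
    have e2 := congrFun (congrFun hz j₂) j₂
    simp only [Matrix.diagonal_apply_eq, Matrix.smul_apply, Matrix.one_apply_eq, smul_eq_mul,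
      mul_one] at e1 e2
    have e3 : ζ ^ (a j₁).val = ζ ^ (a j₂).val := by rw [e1, e2]
    have hp : IsPrimitiveRoot ζ r := hζ ▸ IsPrimitiveRoot.orderOf ζ
    exact hne (ZMod.val_injective r (hp.pow_inj (ZMod.val_lt _) (ZMod.val_lt _) e3))
  · intro hw
    apply hno
    apply hdiag ζ hζ a 1 one_ne_zero
    rw [one_smul]
    exact hw

/-- Counting: if the exponents vanish outside the first `k` positions, every nonzero value is
taken at most `k` times. -/
theorem h25_support_card {n r : ℕ} (a : Fin n → ZMod r) (k : ℕ)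
    (ha0 : ∀ j : Fin n, k ≤ j.val → a j = 0) :
    ∀ b : ZMod r, b ≠ 0 → (Finset.univ.filter (fun j => a j = b)).card ≤ k := by
  have hlow : (Finset.univ.filter (fun j : Fin n => j.val < k)).card ≤ k := by
    have h1 : (Finset.univ.filter (fun j : Fin n => j.val < k)).card ≤ (Finset.range k).card := by
      apply Finset.card_le_card_of_injOn (fun j => j.val)
      · intro j hj
        have hj' := (Finset.mem_filter.mp (Finset.mem_coe.mp hj)).2
        exact Finset.mem_coe.mpr (Finset.mem_range.mpr hj')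
      · intro j _ j' _ e
        exact Fin.ext e
    rw [Finset.card_range] at h1
    exact h1
  intro b hb
  refine le_trans (Finset.card_le_card ?_) hlow
  intro j hj
  rw [Finset.mem_filter] at hj ⊢
  refine ⟨hj.1, ?_⟩
  by_contra hlt
  exact hb (by rw [← hj.2]; exact ha0 j (by omega))

/-- Counting: if the exponents vanish outside the first `k` positions, are nonzero there, every
nonzero value is taken at most `m` times and `k + m < n`, then a multiplicity-preserving affine
map `b ↦ q b + c` has `c = 0`, and `q` maps every occurring nonzero exponent to an occurring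
nonzero exponent. -/
theorem h25_refl_zero {n r : ℕ} (a : Fin n → ZMod r) (k m : ℕ) (hk : k + m < n)
    (ha0 : ∀ j : Fin n, k ≤ j.val → a j = 0) (ha1 : ∀ j : Fin n, j.val < k → a j ≠ 0)
    (hmb : ∀ b : ZMod r, b ≠ 0 → (Finset.univ.filter (fun j => a j = b)).card ≤ m)
    (q c : ZMod r)
    (hc : ∀ b : ZMod r, (Finset.univ.filter (fun j => a j = b)).card =
      (Finset.univ.filter (fun j => a j = q * b + c)).card) :
    ∀ j : Fin n, j.val < k → q * a j ≠ 0 ∧ ∃ j' : Fin n, a j' = q * a j := by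
  have hlow : (Finset.univ.filter (fun j : Fin n => j.val < k)).card ≤ k := by
    have h1 : (Finset.univ.filter (fun j : Fin n => j.val < k)).card ≤ (Finset.range k).card := by
      apply Finset.card_le_card_of_injOn (fun j => j.val)
      · intro j hj
        have hj' := (Finset.mem_filter.mp (Finset.mem_coe.mp hj)).2
        exact Finset.mem_coe.mpr (Finset.mem_range.mpr hj')
      · intro j _ j' _ e
        exact Fin.ext e
    rw [Finset.card_range] at h1
    exact h1
  have hhigh : n - k ≤ (Finset.univ.filter (fun j : Fin n => ¬ j.val < k)).card := by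
    have h1 := Finset.card_filter_add_card_filter_not
      (s := (Finset.univ : Finset (Fin n))) (fun j : Fin n => j.val < k)
    rw [Finset.card_univ, Fintype.card_fin] at h1
    omega
  have hm0 : m < (Finset.univ.filter (fun j => a j = 0)).card := by
    have h1 : (Finset.univ.filter (fun j : Fin n => ¬ j.val < k)).card ≤
        (Finset.univ.filter (fun j => a j = 0)).card := by
      apply Finset.card_le_card
      intro j hj
      rw [Finset.mem_filter] at hj ⊢
      exact ⟨hj.1, ha0 j (by omega)⟩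
    omega
  have hc0 : c = 0 := by
    by_contra hne
    have h1 := hc 0
    rw [mul_zero, zero_add] at h1
    have h2 := hmb c hne
    omega
  subst hc0
  intro j hj
  have h1 := hc (a j)
  rw [add_zero] at h1
  have hpos : 0 < (Finset.univ.filter (fun j' => a j' = a j)).card :=
    Finset.card_pos.mpr ⟨j, by simp⟩
  have h2 := hmb (a j) (ha1 j hj)
  constructor
  · intro hz
    rw [hz] at h1
    omega
  · rw [h1] at hpos
    obtain ⟨j', hj'⟩ := Finset.card_pos.mp hpos
    exact ⟨j', (Finset.mem_filter.mp hj').2⟩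

/-- **[N4A2]** relative to DIAG. -/
theorem h25_nec_pm_core {F : Type*} [Field F] [Fintype F] (F₀ : Subfield F) {n : ℕ} (hn : 4 ≤ n)
    (r : ℕ) [Fact r.Prime] (hr2 : r ≠ 2) (hd : r ∣ Fintype.card F - 1)
    (hnd₀ : ¬ r ∣ Nat.card F₀ - 1) (hnd₁ : ¬ r ∣ Nat.card F₀ + 1)
    (hdiag : ∀ (ζ : F), orderOf ζ = r → ∀ (a : Fin n → ZMod r) (w : F), w ≠ 0 →
      SffWeakConj F₀ (w • Matrix.diagonal (fun j => ζ ^ (a j).val)) →
      ∃ c : ZMod r, ∀ b : ZMod r, (Finset.univ.filter (fun j => a j = b)).card =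
        (Finset.univ.filter (fun j => a j = (Nat.card F₀ : ZMod r) * b + c)).card) :
    SffDerang F₀ r n := by
  have hr : r.Prime := Fact.out
  have h1ne : (1 : ZMod r) ≠ 0 := one_ne_zero
  have h2ne : (2 : ZMod r) ≠ 0 := by
    intro h
    have h' : ((2 : ℕ) : ZMod r) = 0 := by exact_mod_cast h
    rw [ZMod.natCast_eq_zero_iff] at h'
    have h1 := Nat.le_of_dvd (by norm_num) h'
    have h2 := hr.two_le
    omega
  obtain ⟨ζ, hζ⟩ := h25_exists_zeta (F := F) r hd
  have hlt0 : 0 < n := by omega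
  have hlt1 : 1 < n := by omega
  have h01 : (⟨0, hlt0⟩ : Fin n) ≠ ⟨1, hlt1⟩ := by
    intro e
    have := congrArg Fin.val e
    simp at this
  let a : Fin n → ZMod r := fun j =>
    (if j = ⟨0, hlt0⟩ then 1 else 0) + (if j = ⟨1, hlt1⟩ then -1 else 0)
  have ha0 : a ⟨0, hlt0⟩ = 1 := by simp [a, h01]
  have ha1 : a ⟨1, hlt1⟩ = -1 := by simp [a, h01.symm]
  have haz : ∀ j : Fin n, j ≠ ⟨0, hlt0⟩ → j ≠ ⟨1, hlt1⟩ → a j = 0 := by
    intro j e0 e1
    simp [a, e0, e1]
  have haz' : ∀ j : Fin n, 2 ≤ j.val → a j = 0 := by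
    intro j hj
    apply haz
    · intro e
      rw [e] at hj
      simp at hj
    · intro e
      rw [e] at hj
      simp at hj
  have hanz : ∀ j : Fin n, j.val < 2 → a j ≠ 0 := by
    intro j hj
    rcases Nat.lt_or_ge j.val 1 with h | h
    · have e : j = ⟨0, hlt0⟩ := Fin.ext (show j.val = 0 by omega)
      rw [e, ha0]
      exact h1ne
    · have e : j = ⟨1, hlt1⟩ := Fin.ext (show j.val = 1 by omega)
      rw [e, ha1]
      exact neg_ne_zero.mpr h1ne
  apply h25_derang_of_diag F₀ r hdiag ζ hζ a ?_ ⟨0, hlt0⟩ ⟨1, hlt1⟩ ?_ ?_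
  · simp only [a]
    rw [Finset.sum_add_distrib, Finset.sum_ite_eq', Finset.sum_ite_eq']
    simp
  · rw [ha0, ha1]
    intro h
    apply h2ne
    have h' : (1 : ZMod r) + 1 = 0 := by
      nth_rewrite 2 [h]
      ring
    rw [← h']
    norm_num
  · rintro ⟨c, hc⟩
    have hmult : ∀ b : ZMod r, b ≠ 0 → (Finset.univ.filter (fun j => a j = b)).card ≤ 1 := by
      intro b hb
      rw [Finset.card_le_one]
      intro x hx y hy
      have hx' := (Finset.mem_filter.mp hx).2
      have hy' := (Finset.mem_filter.mp hy).2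
      have hx01 : x = ⟨0, hlt0⟩ ∨ x = ⟨1, hlt1⟩ := by
        by_contra hcon
        push Not at hcon
        exact hb (by rw [← hx']; exact haz x hcon.1 hcon.2)
      have hy01 : y = ⟨0, hlt0⟩ ∨ y = ⟨1, hlt1⟩ := by
        by_contra hcon
        push Not at hcon
        exact hb (by rw [← hy']; exact haz y hcon.1 hcon.2)
      have hpm : (1 : ZMod r) ≠ -1 := by
        intro h
        apply h2ne
        have h' : (1 : ZMod r) + 1 = 0 := by
          nth_rewrite 2 [h]
          ring
        rw [← h']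
        norm_num
      rcases hx01 with ex | ex <;> rcases hy01 with ey | ey
      · rw [ex, ey]
      · exfalso
        rw [ex, ha0] at hx'
        rw [ey, ha1] at hy'
        exact hpm (hx'.trans hy'.symm)
      · exfalso
        rw [ex, ha1] at hx'
        rw [ey, ha0] at hy'
        exact hpm (hy'.trans hx'.symm)
      · rw [ex, ey]
    have key := h25_refl_zero a 2 1 (by omega) haz' hanz hmult (Nat.card F₀ : ZMod r) c hc
      ⟨0, hlt0⟩ (by simp)
    rw [ha0, mul_one] at key
    obtain ⟨hq0, j', hj'⟩ := key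
    have hcases : a j' = 1 ∨ a j' = -1 ∨ a j' = 0 := by
      by_cases e0 : j' = ⟨0, hlt0⟩
      · left
        rw [e0, ha0]
      · by_cases e1 : j' = ⟨1, hlt1⟩
        · right; left
          rw [e1, ha1]
        · right; right
          exact haz j' e0 e1
    have hpos : 0 < Nat.card F₀ := Nat.card_pos
    rcases hcases with e | e | e
    · apply hnd₀
      rw [← ZMod.natCast_eq_zero_iff, Nat.cast_sub hpos, Nat.cast_one, ← hj', e, sub_self]
    · apply hnd₁
      rw [← ZMod.natCast_eq_zero_iff, Nat.cast_add, Nat.cast_one, ← hj', e, neg_add_cancel]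
    · exact hq0 (by rw [← hj', e])

/-- **[N4A3]** relative to DIAG. -/
theorem h25_nec_sym_core {F : Type*} [Field F] [Fintype F] (F₀ : Subfield F) {n : ℕ}
    (hn0 : 0 < n) (r : ℕ) [Fact r.Prime] (hr2 : r ≠ 2) (hd : r ∣ Fintype.card F - 1)
    (hd₁ : r ∣ Nat.card F₀ + 1) (hrn : r ∣ n) (hex : ¬ (r = n ∧ (n = 3 ∨ n = 5)))
    (hgap : ¬ (n = 6 ∧ r = 3))
    (hdiag : ∀ (ζ : F), orderOf ζ = r → ∀ (a : Fin n → ZMod r) (w : F), w ≠ 0 →
      SffWeakConj F₀ (w • Matrix.diagonal (fun j => ζ ^ (a j).val)) →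
      ∃ c : ZMod r, ∀ b : ZMod r, (Finset.univ.filter (fun j => a j = b)).card =
        (Finset.univ.filter (fun j => a j = (Nat.card F₀ : ZMod r) * b + c)).card) :
    SffDerang F₀ r n := by
  have hr : r.Prime := Fact.out
  have h1ne : (1 : ZMod r) ≠ 0 := one_ne_zero
  have h2ne : (2 : ZMod r) ≠ 0 := by
    intro h
    have h' : ((2 : ℕ) : ZMod r) = 0 := by exact_mod_cast h
    rw [ZMod.natCast_eq_zero_iff] at h'
    have h1 := Nat.le_of_dvd (by norm_num) h'
    have h2 := hr.two_le
    omega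
  have hn7 : 7 ≤ n := by
    have hr3 : 3 ≤ r := by
      have := hr.two_le
      omega
    have hrle : r ≤ n := Nat.le_of_dvd hn0 hrn
    by_contra hlt
    have hn6 : n ≤ 6 := by omega
    have hodd : ¬ 2 ∣ r := by
      intro h2
      rcases hr.eq_one_or_self_of_dvd 2 h2 with h' | h' <;> omega
    obtain ⟨t, ht⟩ := hrn
    have ht0 : t ≠ 0 := by
      intro h0
      rw [h0, mul_zero] at ht
      omega
    have ht3 : t < 3 := by
      by_contra h3
      have h3' : 3 ≤ t := by omega
      have : 9 ≤ r * t := by nlinarith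
      omega
    have ht12 : t = 1 ∨ t = 2 := by omega
    rcases ht12 with h | h
    · rw [h, mul_one] at ht
      exact hex ⟨by omega, by omega⟩
    · rw [h] at ht
      exact hgap ⟨by omega, by omega⟩
  obtain ⟨ζ, hζ⟩ := h25_exists_zeta (F := F) r hd
  have hlt0 : 0 < n := by omega
  have hlt1 : 1 < n := by omega
  have hlt2 : 2 < n := by omega
  have hlt3 : 3 < n := by omega
  have h01 : (⟨0, hlt0⟩ : Fin n) ≠ ⟨1, hlt1⟩ := by
    intro e
    have := congrArg Fin.val e
    simp at this
  have h02 : (⟨0, hlt0⟩ : Fin n) ≠ ⟨2, hlt2⟩ := by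
    intro e
    have := congrArg Fin.val e
    simp at this
  have h12 : (⟨1, hlt1⟩ : Fin n) ≠ ⟨2, hlt2⟩ := by
    intro e
    have := congrArg Fin.val e
    simp at this
  let a : Fin n → ZMod r := fun j =>
    (if j = ⟨0, hlt0⟩ then 1 else 0) + (if j = ⟨1, hlt1⟩ then 1 else 0) +
      (if j = ⟨2, hlt2⟩ then -2 else 0)
  have ha0 : a ⟨0, hlt0⟩ = 1 := by simp [a, h01, h02]
  have ha1 : a ⟨1, hlt1⟩ = 1 := by simp [a, h01.symm, h12]
  have ha2 : a ⟨2, hlt2⟩ = -2 := by simp [a, h02.symm, h12.symm]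
  have haz : ∀ j : Fin n, j ≠ ⟨0, hlt0⟩ → j ≠ ⟨1, hlt1⟩ → j ≠ ⟨2, hlt2⟩ → a j = 0 := by
    intro j e0 e1 e2
    simp [a, e0, e1, e2]
  have haz' : ∀ j : Fin n, 3 ≤ j.val → a j = 0 := by
    intro j hj
    apply haz
    · intro e
      rw [e] at hj
      simp at hj
    · intro e
      rw [e] at hj
      simp at hj
    · intro e
      rw [e] at hj
      simp at hj
  have hanz : ∀ j : Fin n, j.val < 3 → a j ≠ 0 := by
    intro j hj
    have hj3 : j.val = 0 ∨ j.val = 1 ∨ j.val = 2 := by omega
    rcases hj3 with h | h | h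
    · have e : j = ⟨0, hlt0⟩ := Fin.ext (show j.val = 0 by omega)
      rw [e, ha0]
      exact h1ne
    · have e : j = ⟨1, hlt1⟩ := Fin.ext (show j.val = 1 by omega)
      rw [e, ha1]
      exact h1ne
    · have e : j = ⟨2, hlt2⟩ := Fin.ext (show j.val = 2 by omega)
      rw [e, ha2]
      exact neg_ne_zero.mpr h2ne
  have ha3 : a ⟨3, hlt3⟩ = 0 := haz' ⟨3, hlt3⟩ (by simp)
  have hq : (Nat.card F₀ : ZMod r) = -1 := by
    have h1 : ((Nat.card F₀ + 1 : ℕ) : ZMod r) = 0 := (ZMod.natCast_eq_zero_iff _ _).mpr hd₁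
    rw [Nat.cast_add, Nat.cast_one] at h1
    exact eq_neg_of_add_eq_zero_left h1
  apply h25_derang_of_diag F₀ r hdiag ζ hζ a ?_ ⟨0, hlt0⟩ ⟨3, hlt3⟩ ?_ ?_
  · simp only [a]
    rw [Finset.sum_add_distrib, Finset.sum_add_distrib, Finset.sum_ite_eq', Finset.sum_ite_eq',
      Finset.sum_ite_eq']
    simp
    norm_num
  · rw [ha0, ha3]
    exact h1ne
  · rintro ⟨c, hc⟩
    have key := h25_refl_zero a 3 3 (by omega) haz' hanz (h25_support_card a 3 haz')
      (Nat.card F₀ : ZMod r) c hc ⟨0, hlt0⟩ (by simp)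
    rw [ha0, mul_one, hq] at key
    obtain ⟨-, j', hj'⟩ := key
    have hcases : a j' = 1 ∨ a j' = -2 ∨ a j' = 0 := by
      by_cases e0 : j' = ⟨0, hlt0⟩
      · left
        rw [e0, ha0]
      · by_cases e1 : j' = ⟨1, hlt1⟩
        · left
          rw [e1, ha1]
        · by_cases e2 : j' = ⟨2, hlt2⟩
          · right; left
            rw [e2, ha2]
          · right; right
            exact haz j' e0 e1 e2
    rcases hcases with e | e | e
    · -- 1 = -1
      rw [e] at hj'
      apply h2ne
      have h' : (1 : ZMod r) + 1 = 0 := by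
        nth_rewrite 2 [hj']
        ring
      rw [← h']
      norm_num
    · -- -2 = -1
      rw [e] at hj'
      apply h1ne
      have h' : (2 : ZMod r) = 1 := neg_injective hj'
      have h'' : (1 : ZMod r) = 2 - 1 := by norm_num
      rw [h'', h']
      ring
    · -- 0 = -1
      rw [e] at hj'
      apply h1ne
      have h' : (1 : ZMod r) = -0 := by rw [hj']; ring
      rw [h']
      ring

end Cfsg.Agent.Lib.helper24
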