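import Mathlib
import Cfsg.Agent.Lib.helper24.SffDefs
import Cfsg.Agent.Lib.helper25.SffN4Core
import Cfsg.Agent.Lib.helper19.SffDIAG

/-!
# S5965 piece N4A2 (helper25): `sff_nec_pm`.
-/

set_option autoImplicit false

namespace Cfsg.Agent.Lib.helper24

open Module Matrix Polynomial

/-- N4A2 -/
theorem sff_nec_pm {F : Type*} [Field F] [Fintype F] (F₀ : Subfield F) {n : ℕ} (hn : 4 ≤ n)
    (r : ℕ) [Fact r.Prime] (hr2 : r ≠ 2) (hd : r ∣ Fintype.card F - 1)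
    (hnd₀ : ¬ r ∣ Nat.card F₀ - 1) (hnd₁ : ¬ r ∣ Nat.card F₀ + 1) : SffDerang F₀ r n :=
  h25_nec_pm_core F₀ hn r hr2 hd hnd₀ hnd₁
    (fun ζ hζ a w hw h => sff_diag_crit F₀ r ζ hζ a w hw h)

end Cfsg.Agent.Lib.helper24
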