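import Mathlib
import Cfsg.Agent.Lib.helper24.SffDefs
import Cfsg.Agent.Lib.helper25.SffN4Core
import Cfsg.Agent.Lib.helper19.SffDIAG

/-!
# S5965 piece N4A3 (helper25): `sff_nec_sym`.
-/

set_option autoImplicit false

namespace Cfsg.Agent.Lib.helper24

open Module Matrix Polynomial

/-- N4A3 -/
theorem sff_nec_sym {F : Type*} [Field F] [Fintype F] (F₀ : Subfield F) {n : ℕ} (hn0 : 0 < n)
    (r : ℕ) [Fact r.Prime] (hr2 : r ≠ 2) (hd : r ∣ Fintype.card F - 1)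
    (hd₁ : r ∣ Nat.card F₀ + 1) (hrn : r ∣ n) (hex : ¬ (r = n ∧ (n = 3 ∨ n = 5)))
    (hgap : ¬ (n = 6 ∧ r = 3)) : SffDerang F₀ r n :=
  h25_nec_sym_core F₀ hn0 r hr2 hd hd₁ hrn hex hgap
    (fun ζ hζ a w hw h => sff_diag_crit F₀ r ζ hζ a w hw h)

end Cfsg.Agent.Lib.helper24
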