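import Mathlib
import Cfsg.Agent.Lib.helper24.SroReal

/-! S5988 split, piece EXT: a nondegenerate subspace of dimension `2f` contains nondegenerate
subspaces of every dimension `2e < 2f` and both types, in every characteristic
(characteristic-free version of helper24 `sr_exists_ty`, even-dimensional `X`). -/

set_option autoImplicit false
set_option linter.unusedSectionVars false
set_option linter.unusedVariables false
set_option linter.style.haveILetI false
set_option linter.deprecated false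

namespace Cfsg.Agent.Lib.helper25

open Module Cfsg.Agent.Lib.helper24 Cfsg.Agent.Lib.helper45 Cfsg.Agent.Lib.helper49

universe u

section sreext

variable {F : Type u} [Field F] [Fintype F]

/-- A nondegenerate subspace of dimension `2f` contains nondegenerate subspaces of every
dimension `2e < 2f` and both types (type `-1` only for `e ≥ 1`), in every characteristic. -/
theorem sre_exists_ty {V : Type u} [AddCommGroup V] [Module F V] [FiniteDimensional F V]
    (Q : QuadraticForm F V) (ε : ℤ) (hε : ε = 1 ∨ ε = -1) (e f : ℕ)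
    (X : Submodule F V) (hX : SpNd (QuadraticMap.polarBilin Q) X) (hXdim : finrank F X = 2 * f)
    (hef : e < f) (he : ε = -1 → 1 ≤ e) :
    ∃ W : Submodule F V, W ≤ X ∧ SpNd (QuadraticMap.polarBilin Q) W ∧ finrank F W = 2 * e ∧
      SrTy Q W ε := by
  classical
  obtain ⟨δ, hδ, hXty⟩ : ∃ δ : ℤ, (δ = 1 ∨ δ = -1) ∧ SrTy Q X δ := by
    rcases sr_ty_or Q X hX f hXdim with h | h
    · exact ⟨1, Or.inl rfl, h⟩
    · exact ⟨-1, Or.inr rfl, h⟩
  have hXu : Unif (δ * (Fintype.card F : ℤ) ^ f)
      (fun a : F => Nat.card {v : X // (Q.comp X.subtype) v = a}) := by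
    have h3 := hXty
    unfold SrTy at h3
    rw [hXdim, Nat.mul_div_cancel_left _ (by norm_num)] at h3
    exact h3
  have hεδ : ε * δ = 1 ∨ ε * δ = -1 := by
    rcases hδ with rfl | rfl <;> rcases hε with rfl | rfl <;> simp
  obtain ⟨K₁, _, _, _, Q₁, hQ₁nd, hK₁dim, hK₁u⟩ := sro_model (F := F) ε hε e he
  obtain ⟨K₂, _, _, _, Q₂, hQ₂nd, hK₂dim, hK₂u⟩ :=
    sro_model (F := F) (ε * δ) hεδ (f - e) (fun _ => by omega)
  obtain ⟨Q', hQ'⟩ : ∃ Q' : QuadraticForm F (K₁ × K₂), Q' = Q₁.prod Q₂ := ⟨_, rfl⟩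
  have hQ'a : ∀ v : K₁ × K₂, Q' v = Q₁ v.1 + Q₂ v.2 := by
    intro v
    rw [hQ']
    rfl
  have hpol' : ∀ u v : K₁ × K₂, QuadraticMap.polar Q' u v =
      QuadraticMap.polar Q₁ u.1 v.1 + QuadraticMap.polar Q₂ u.2 v.2 := by
    intro u v
    unfold QuadraticMap.polar
    rw [hQ'a, hQ'a, hQ'a]
    simp only [Prod.fst_add, Prod.snd_add]
    ring
  have hQ'nd : ∀ v, (∀ w, QuadraticMap.polar Q' v w = 0) → v = 0 := by
    intro v hv
    have h1 : v.1 = 0 := by
      apply hQ₁nd
      intro w
      have := hv (w, 0)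
      rw [hpol'] at this
      simpa using this
    have h3 : v.2 = 0 := by
      apply hQ₂nd
      intro w
      have := hv (0, w)
      rw [hpol'] at this
      simpa using this
    exact Prod.ext h1 h3
  haveI : Finite K₁ := Module.finite_of_finite F
  haveI : Finite K₂ := Module.finite_of_finite F
  have hQ'u : Unif (δ * (Fintype.card F : ℤ) ^ f)
      (fun a : F => Nat.card {v : K₁ × K₂ // Q' v = a}) := by
    have h5 := Unif.conv hK₁u hK₂u
    have h6 : (fun a : F => Nat.card {v : K₁ × K₂ // Q' v = a}) =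
        vconv (fun a : F => Nat.card {v : K₁ // Q₁ v = a})
          (fun a : F => Nat.card {v : K₂ // Q₂ v = a}) := by
      funext a
      unfold vconv
      rw [← card_prod_fiber (fun v : K₁ => Q₁ v) (fun v : K₂ => Q₂ v) a]
      apply Nat.card_congr
      exact Equiv.subtypeEquiv (Equiv.refl _) (fun v => by rw [hQ'a]; rfl)
    rw [h6]
    have h7 : ε * (Fintype.card F : ℤ) ^ e * (ε * δ * (Fintype.card F : ℤ) ^ (f - e)) =
        δ * (Fintype.card F : ℤ) ^ f := by
      have hfe : f = e + (f - e) := by omega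
      rw [hfe, pow_add]
      have hε2 : ε * ε = 1 := by rcases hε with rfl | rfl <;> norm_num
      rw [Nat.add_sub_cancel_left]
      linear_combination (δ * (Fintype.card F : ℤ) ^ e * (Fintype.card F : ℤ) ^ (f - e)) * hε2
    rw [← h7]
    exact h5
  have hdim' : finrank F (K₁ × K₂) = 2 * f := by
    rw [Module.finrank_prod, hK₁dim, hK₂dim]
    omega
  obtain ⟨φ, hφ⟩ := sro_unif_iso Q' (Q.comp X.subtype) hQ'nd (sr_restr_nd Q X hX) f hdim' hXdim
    _ hQ'u hXu
  obtain ⟨ψ, hψ⟩ : ∃ ψ : K₁ →ₗ[F] V,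
      ψ = X.subtype ∘ₗ φ.toLinearMap ∘ₗ LinearMap.inl F K₁ K₂ := ⟨_, rfl⟩
  have hψa : ∀ k, ψ k = ((φ (k, 0) : X) : V) := by
    intro k
    rw [hψ]
    rfl
  have hψQ : ∀ k, Q (ψ k) = Q₁ k := by
    intro k
    rw [hψa]
    have h1 := hφ (k, 0)
    rw [hQ'a] at h1
    simp only [map_zero, add_zero] at h1
    rw [← h1]
    rfl
  have hψinj : Function.Injective ψ := by
    intro a b hab
    rw [hψa, hψa] at hab
    have h1 := φ.injective (Subtype.ext hab)
    exact (Prod.mk.inj h1).1
  have hψpol : ∀ a b, QuadraticMap.polar Q (ψ a) (ψ b) = QuadraticMap.polar Q₁ a b := by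
    intro a b
    unfold QuadraticMap.polar
    rw [← map_add, hψQ, hψQ, hψQ]
  refine ⟨LinearMap.range ψ, ?_, ?_, ?_, ?_⟩
  · rintro _ ⟨k, rfl⟩
    rw [hψa]
    exact (φ (k, 0)).2
  · rintro _ ⟨k, rfl⟩ hk
    have h1 : k = 0 := by
      apply hQ₁nd
      intro w
      have h3 := hk (ψ w) ⟨w, rfl⟩
      rw [QuadraticMap.polarBilin_apply_apply, hψpol] at h3
      exact h3
    rw [h1, map_zero]
  · rw [LinearMap.finrank_range_of_inj hψinj, hK₁dim]
  · unfold SrTy
    have hd : finrank F (LinearMap.range ψ) = 2 * e := by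
      rw [LinearMap.finrank_range_of_inj hψinj, hK₁dim]
    rw [hd, Nat.mul_div_cancel_left _ (by norm_num)]
    have h8 : srNu Q (LinearMap.range ψ) = fun a : F => Nat.card {v : K₁ // Q₁ v = a} := by
      funext a
      unfold srNu
      apply Nat.card_congr
      refine (Equiv.subtypeEquiv (LinearEquiv.ofInjective ψ hψinj).toEquiv (fun k => ?_)).symm
      have h9 : (Q.comp (LinearMap.range ψ).subtype) ((LinearEquiv.ofInjective ψ hψinj) k)
          = Q (ψ k) := rfl
      change Q₁ k = a ↔ (Q.comp (LinearMap.range ψ).subtype)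
        ((LinearEquiv.ofInjective ψ hψinj) k) = a
      rw [h9, hψQ]
    rw [h8]
    exact hK₁u

end sreext

end Cfsg.Agent.Lib.helper25
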