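import Mathlib
import Cfsg.Agent.Lib.helper24.StsDefs
import Cfsg.Agent.Lib.helper25.SreEXT

/-! S5987 split, piece MR2A (insurance copy, prefixed name): for `q` odd an involutory isometry of
the minus form fixes a totally singular `m`-space for every `m ≤ d - 1`.  Also the general
lemmas on the eigenspaces of an involutory isometry (`helper25m_inv_join`, `helper25m_avail`). -/

set_option autoImplicit false
set_option linter.unusedSectionVars false
set_option linter.unusedVariables false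
set_option linter.style.haveILetI false
set_option linter.deprecated false

namespace Cfsg.Agent.Lib.helper24

open Module Cfsg.Agent.Lib.helper45 Cfsg.Agent.Lib.helper49

universe u

section stmmr2a

/-- `2 ≠ 0` in a finite field of odd order. -/
theorem helper25m_two_ne_zero {F : Type*} [Field F] [Fintype F] (hodd : Odd (Fintype.card F)) :
    (2 : F) ≠ 0 := by
  intro h
  have hdvd : ringChar F ∣ 2 := by
    apply ringChar.dvd
    exact_mod_cast h
  have hne : ringChar F ≠ 1 := CharP.ringChar_ne_one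
  have h2 : ringChar F = 2 := by
    rcases (Nat.dvd_prime Nat.prime_two).mp hdvd with h1 | h1
    · exact absurd h1 hne
    · exact h1
  have := FiniteField.even_card_of_char_two h2
  have := Nat.odd_iff.mp hodd
  omega

variable {F : Type u} [Field F] [Fintype F]

/-- Invariant totally singular subspaces of an involutory isometry from totally singular
subspaces of its two eigenspaces. -/
theorem helper25m_inv_join {V : Type u} [AddCommGroup V] [Module F V] [FiniteDimensional F V]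
    (Q : QuadraticForm F V) (h2 : (2 : F) ≠ 0) (T : Module.End F V) (hT : ∀ v, Q (T v) = Q v)
    (hTT : ∀ v, T (T v) = v)
    (A B : Submodule F V) (hA : A ≤ LinearMap.ker (T - 1)) (hB : B ≤ LinearMap.range (T - 1))
    (hAs : ∀ w ∈ A, Q w = 0) (hBs : ∀ w ∈ B, Q w = 0) :
    finrank F ↥(A ⊔ B) = finrank F A + finrank F B ∧ (∀ w ∈ A ⊔ B, Q w = 0) ∧
      ∀ w ∈ A ⊔ B, T w ∈ A ⊔ B := by
  have hTsq : T ^ 2 = 1 := by
    apply LinearMap.ext
    intro y
    rw [pow_two, Module.End.mul_apply, hTT, Module.End.one_apply]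
  have h2F : ((2 : ℕ) : F) ≠ 0 := by exact_mod_cast h2
  have horth := sr_KR_orth Q T hT
  have hdis := sr_KR_bot T 2 hTsq h2F
  have hAB : A ⊓ B = ⊥ := by
    rw [eq_bot_iff, ← hdis]
    exact inf_le_inf hA hB
  refine ⟨?_, ?_, ?_⟩
  · have h1 := Submodule.finrank_sup_add_finrank_inf_eq A B
    rw [hAB, finrank_bot, add_zero] at h1
    exact h1
  · intro w hw
    obtain ⟨a, ha, b, hb, rfl⟩ := Submodule.mem_sup.mp hw
    have h1 : Q (a + b) = Q a + Q b + QuadraticMap.polar Q a b := by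
      unfold QuadraticMap.polar
      ring
    rw [h1, hAs a ha, hBs b hb, horth a (hA ha) b (hB hb)]
    ring
  · intro w hw
    obtain ⟨a, ha, b, hb, rfl⟩ := Submodule.mem_sup.mp hw
    have h1 : T a = a := by
      have := hA ha
      rw [LinearMap.mem_ker, LinearMap.sub_apply, Module.End.one_apply, sub_eq_zero] at this
      exact this
    have h3 : T b = -b := by
      obtain ⟨y, hy⟩ := hB hb
      rw [← hy, LinearMap.sub_apply, Module.End.one_apply, map_sub, hTT]
      abel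
    rw [map_add, h1, h3]
    exact Submodule.add_mem _ (Submodule.mem_sup_left ha)
      (Submodule.mem_sup_right (B.neg_mem hb))

/-- Totally singular subspaces of every dimension up to `w` in a nondegenerate subspace `K`, if
`2 w + 1 ≤ dim K`, or `dim K = 2 w` and `K` has plus type, or `w = 0`. -/
theorem helper25m_avail {V : Type u} [AddCommGroup V] [Module F V] [FiniteDimensional F V]
    (Q : QuadraticForm F V) (h2 : (2 : F) ≠ 0) (K : Submodule F V)
    (hK : SpNd (QuadraticMap.polarBilin Q) K) (w : ℕ)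
    (hw : w = 0 ∨ 2 * w + 1 ≤ finrank F K ∨ (2 * w = finrank F K ∧ SrTy Q K 1))
    (a : ℕ) (ha : a ≤ w) :
    ∃ A : Submodule F V, A ≤ K ∧ finrank F A = a ∧ ∀ u ∈ A, Q u = 0 := by
  by_cases ha0 : a = 0
  · refine ⟨⊥, bot_le, by rw [finrank_bot, ha0], ?_⟩
    intro u hu
    rw [(Submodule.mem_bot F).mp hu, map_zero]
  by_cases hlt : 2 * a + 1 ≤ finrank F K
  · exact sts_witt Q h2 K hK a hlt
  · rcases hw with hw | hw | ⟨hw, hty⟩
    · omega
    · omega
    · obtain ⟨U, hUK, hU, hUdim⟩ := sr_ty_plus Q K hK ⟨w, by omega⟩ hty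
      exact ⟨U, hUK, by omega, hU⟩

/-- **Piece MR2A** (insurance copy). -/
theorem h25_stm_inv_suff (hodd : Odd (Fintype.card F)) (d m : ℕ) (hd : 4 ≤ d) (hm : 1 ≤ m)
    (hmd : m + 1 ≤ d) (a b : F)
    (hab : ∀ x y : F, x ^ 2 + a * x * y + b * y ^ 2 = 0 → x = 0 ∧ y = 0)
    (x : GL ((Fin (d - 1) ⊕ Fin (d - 1)) ⊕ Fin 2) F)
    (hiso : ∀ u : ((Fin (d - 1) ⊕ Fin (d - 1)) ⊕ Fin 2) → F, Cfsg.quadFormMinus (d - 1) F a b
      ((x : Matrix ((Fin (d - 1) ⊕ Fin (d - 1)) ⊕ Fin 2) ((Fin (d - 1) ⊕ Fin (d - 1)) ⊕ Fin 2) F).mulVec u) = Cfsg.quadFormMinus (d - 1) F a b u)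
    (hx2 : x * x = 1) :
    ∃ W : Submodule F (((Fin (d - 1) ⊕ Fin (d - 1)) ⊕ Fin 2) → F), (finrank F W = m ∧
      Cfsg.Geo.IsTotallySingularQuad (Cfsg.quadFormMinus (d - 1) F a b) W) ∧
      W.map (Matrix.toLin' (x : Matrix ((Fin (d - 1) ⊕ Fin (d - 1)) ⊕ Fin 2) ((Fin (d - 1) ⊕ Fin (d - 1)) ⊕ Fin 2) F)) ≤ W := by
  classical
  have h2 : (2 : F) ≠ 0 := helper25m_two_ne_zero hodd
  have h2F : ((2 : ℕ) : F) ≠ 0 := by exact_mod_cast h2
  obtain ⟨Q, hQ⟩ : ∃ Q : QuadraticForm F (((Fin (d - 1) ⊕ Fin (d - 1)) ⊕ Fin 2) → F),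
      Q = minusForm (d - 1) F a b := ⟨_, rfl⟩
  have hQc : ∀ y, Q y = Cfsg.quadFormMinus (d - 1) F a b y := fun y => by rw [hQ]; rfl
  obtain ⟨T, hTdef⟩ : ∃ T : Module.End F (((Fin (d - 1) ⊕ Fin (d - 1)) ⊕ Fin 2) → F),
      T = Matrix.toLin' (x : Matrix ((Fin (d - 1) ⊕ Fin (d - 1)) ⊕ Fin 2)
        ((Fin (d - 1) ⊕ Fin (d - 1)) ⊕ Fin 2) F) := ⟨_, rfl⟩
  rw [← hTdef]
  have hTiso : ∀ y, Q (T y) = Q y := by
    intro y
    rw [hTdef, Matrix.toLin'_apply, hQc, hQc]
    exact hiso y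
  have hTT : ∀ y, T (T y) = y := by
    intro y
    rw [hTdef, Matrix.toLin'_apply, Matrix.toLin'_apply, Matrix.mulVec_mulVec, ← Units.val_mul,
      hx2, Units.val_one, Matrix.one_mulVec]
  have hTsq : T ^ 2 = 1 := by
    apply LinearMap.ext
    intro y
    rw [pow_two, Module.End.mul_apply, hTT, Module.End.one_apply]
  have hnd : ∀ y, (∀ w, QuadraticMap.polar Q y w = 0) → y = 0 := by
    rw [hQ]
    exact forall_of_nondegenerate _
      (Cfsg.Agent.Lib.helper42.minusForm_nondegenerate (d - 1) a b hab)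
  have hd1 : d - 1 + 1 = d := by omega
  have hdimV : finrank F (((Fin (d - 1) ⊕ Fin (d - 1)) ⊕ Fin 2) → F) = 2 * d := by
    rw [Module.finrank_fintype_fun_eq_card, Fintype.card_sum, Fintype.card_sum, Fintype.card_fin,
      Fintype.card_fin]
    omega
  have hTopty : SrTy Q ⊤ (-1) := by
    unfold SrTy
    rw [sro_nu_top, finrank_top, hdimV, Nat.mul_div_cancel_left _ (by norm_num), neg_one_mul, hQ]
    have hMu := unif_minus_std (d - 1) a b hab
    rw [hd1] at hMu
    exact hMu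
  have hK : SpNd (QuadraticMap.polarBilin Q) (LinearMap.ker (T - 1)) :=
    sr_K_nd Q hnd T hTiso 2 hTsq h2F
  have hR : SpNd (QuadraticMap.polarBilin Q) (LinearMap.range (T - 1)) :=
    sr_R_nd Q hnd T hTiso 2 hTsq h2F
  have horth := sr_KR_orth Q T hTiso
  have hdis := sr_KR_bot T 2 hTsq h2F
  have hsup := sp_fix_range_top T 2 hTsq h2F
  have hrn := LinearMap.finrank_range_add_finrank_ker (T - 1)
  rw [hdimV] at hrn
  have hq0 : (Fintype.card F : ℤ) ^ d ≠ 0 := by
    apply pow_ne_zero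
    exact_mod_cast Fintype.card_ne_zero
  -- the Witt indices of the two eigenspaces add up to at least `d - 1`
  obtain ⟨w₁, w₂, hw, hw₁, hw₂⟩ : ∃ w₁ w₂ : ℕ, d - 1 ≤ w₁ + w₂ ∧
      (w₁ = 0 ∨ 2 * w₁ + 1 ≤ finrank F (LinearMap.ker (T - 1)) ∨
        (2 * w₁ = finrank F (LinearMap.ker (T - 1)) ∧ SrTy Q (LinearMap.ker (T - 1)) 1)) ∧
      (w₂ = 0 ∨ 2 * w₂ + 1 ≤ finrank F (LinearMap.range (T - 1)) ∨
        (2 * w₂ = finrank F (LinearMap.range (T - 1)) ∧
          SrTy Q (LinearMap.range (T - 1)) 1)) := by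
    rcases Nat.even_or_odd (finrank F (LinearMap.ker (T - 1))) with ⟨k₁, hk₁⟩ | ⟨k₁, hk₁⟩
    · obtain ⟨k₂, hk₂⟩ : ∃ k₂, finrank F (LinearMap.range (T - 1)) = 2 * k₂ := ⟨d - k₁, by omega⟩
      have hk₁' : finrank F (LinearMap.ker (T - 1)) = 2 * k₁ := by omega
      have key : ∀ η₁ η₂ : ℤ, SrTy Q (LinearMap.ker (T - 1)) η₁ →
          SrTy Q (LinearMap.range (T - 1)) η₂ → η₁ * η₂ = -1 := by
        intro η₁ η₂ h₁ h₂
        have hsum := sr_ty_sum Q (LinearMap.ker (T - 1)) (LinearMap.range (T - 1))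
          horth hdis η₁ η₂ h₁ h₂ ⟨k₁, hk₁⟩ ⟨k₂, by omega⟩
        rw [hsup] at hsum
        have h15 := Unif.unique hsum hTopty
        rw [finrank_top, hdimV, Nat.mul_div_cancel_left _ (by norm_num)] at h15
        exact mul_right_cancel₀ hq0 h15
      rcases sr_ty_or Q (LinearMap.ker (T - 1)) hK k₁ hk₁' with h₁ | h₁
      · rcases sr_ty_or Q (LinearMap.range (T - 1)) hR k₂ hk₂ with h₂ | h₂
        · have := key 1 1 h₁ h₂
          norm_num at this
        · refine ⟨k₁, k₂ - 1, by omega, Or.inr (Or.inr ⟨by omega, h₁⟩), ?_⟩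
          by_cases hk0 : k₂ = 0
          · left
            omega
          · right
            left
            omega
      · rcases sr_ty_or Q (LinearMap.range (T - 1)) hR k₂ hk₂ with h₂ | h₂
        · refine ⟨k₁ - 1, k₂, by omega, ?_, Or.inr (Or.inr ⟨by omega, h₂⟩)⟩
          by_cases hk0 : k₁ = 0
          · left
            omega
          · right
            left
            omega
        · have := key (-1) (-1) h₁ h₂
          norm_num at this
    · exact ⟨k₁, d - 1 - k₁, by omega, Or.inr (Or.inl (by omega)), Or.inr (Or.inl (by omega))⟩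
  obtain ⟨A, hAK, hAdim, hAs⟩ := helper25m_avail Q h2 _ hK w₁ hw₁ (min m w₁) (min_le_right _ _)
  obtain ⟨B, hBR, hBdim, hBs⟩ := helper25m_avail Q h2 _ hR w₂ hw₂ (m - min m w₁) (by omega)
  obtain ⟨hdim, hts, hinv⟩ := helper25m_inv_join Q h2 T hTiso hTT A B hAK hBR hAs hBs
  refine ⟨A ⊔ B, ⟨?_, ?_⟩, ?_⟩
  · rw [hdim, hAdim, hBdim]
    omega
  · intro w hw
    rw [← hQc]
    exact hts w hw
  · rintro _ ⟨w, hw, rfl⟩
    exact hinv w hw

end stmmr2a

end Cfsg.Agent.Lib.helper24
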