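import Mathlib
import Cfsg.Agent.Lib.helper24.SroReal

/-! S5988 split, piece FREE: a fixed-point-free isometry of odd prime order `r` of a
nondegenerate quadratic space of dimension `c * A`, in every characteristic
(characteristic-free version of helper24 `sro_free_model`). -/

set_option autoImplicit false
set_option linter.unusedSectionVars false
set_option linter.unusedVariables false
set_option linter.style.haveILetI false
set_option linter.deprecated false

namespace Cfsg.Agent.Lib.helper25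

open Module Cfsg.Agent.Lib.helper24 Cfsg.Agent.Lib.helper45 Cfsg.Agent.Lib.helper49

universe u

section srefree

variable {F : Type u} [Field F] [Fintype F]

/-- FREE: a fixed-point-free isometry of order `r` of a nondegenerate quadratic space of
dimension `c * A` (as helper24 `sro_free_model`, with `Qs v = B (Ts v) v` instead of
`2⁻¹ * ωs v v`). -/
theorem sre_free_model (p f' : ℕ) [Fact p.Prime]
    (hF : Fintype.card F = p ^ f') (r : ℕ) [Fact r.Prime] (hpr : p.Coprime r) (hr2 : r ≠ 2)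
    (i c : ℕ) (hi : i = orderOf ((Fintype.card F : ℕ) : ZMod r))
    (hc : c = if Even i then i else 2 * i) (A : ℕ) :
    ∃ (R : Type u) (_ : AddCommGroup R) (_ : Module F R) (_ : FiniteDimensional F R)
      (Qs : QuadraticForm F R) (Ts : Module.End F R),
      (∀ v, (∀ w, QuadraticMap.polar Qs v w = 0) → v = 0) ∧ (∀ v, Qs (Ts v) = Qs v) ∧
      Ts ^ r = 1 ∧ LinearMap.ker (Ts - 1) = ⊥ ∧ finrank F R = c * A := by
  classical
  have hr : r.Prime := Fact.out
  have hq0 := el_card_ne_zero p f' hF r hpr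
  have hrF := el_natCast_ne_zero (F := F) p f' hF r hpr
  have hrodd : Odd r := hr.odd_of_ne_two hr2
  have hcev : Even c := sr_c_even p f' hF r hpr hr2 i c hi hc
  have hc1 := srf_c_pos p f' hF r hpr hr2 i c hi hc
  obtain ⟨e, he⟩ := hcev
  have hce : c = 2 * e := by omega
  have he1 : 1 ≤ e := by omega
  obtain ⟨x, hxr, hxk⟩ := sp_exists_xb r hq0 hrF i c hi hc e he1 hce A (e * A) le_rfl
  obtain ⟨Ts, hTs⟩ : ∃ Ts : Module.End F (Fin (e * A) ⊕ Fin (e * A) → F),
      Ts = Matrix.toLin' x.1 := ⟨_, rfl⟩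
  have hTsr : Ts ^ r = 1 := by
    rw [hTs, sp_toLin_pow, hxr]
    exact Matrix.toLin'_one
  have hker0 : LinearMap.ker (Ts - 1) = ⊥ := by
    rw [hTs]
    apply Submodule.finrank_eq_zero.mp
    omega
  obtain ⟨Ts', hTs'⟩ : ∃ Ts' : Module.End F (Fin (e * A) ⊕ Fin (e * A) → F),
      Ts' = Ts ^ (r - 1) := ⟨_, rfl⟩
  have hTT' : Ts * Ts' = 1 := by rw [hTs', ← pow_succ', Nat.sub_add_cancel hr.one_le, hTsr]
  have hT'T : Ts' * Ts = 1 := by rw [hTs', ← pow_succ, Nat.sub_add_cancel hr.one_le, hTsr]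
  obtain ⟨B, hB⟩ : ∃ B : (Fin (e * A) ⊕ Fin (e * A) → F) →ₗ[F]
      (Fin (e * A) ⊕ Fin (e * A) → F) →ₗ[F] F, B = Cfsg.Agent.S0245.omegaJ (e * A) F := ⟨_, rfl⟩
  have hBiso : ∀ u v, B (Ts u) (Ts v) = B u v := by
    rw [hB, hTs]
    exact sp_toLin_isom (e * A) x
  have hBalt : ∀ v, B v v = 0 := by
    rw [hB]
    exact Cfsg.Agent.S0245.omegaJ_alt (e * A) F
  have hBnd : ∀ v, (∀ w, B v w = 0) → v = 0 := by
    rw [hB]
    exact Cfsg.Agent.S0245.omegaJ_nondeg (e * A) F
  have hBskew := sp_skew B hBalt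
  have hBT' : ∀ u v, B (Ts' u) v = B u (Ts v) := by
    intro u v
    rw [← hBiso (Ts' u) v, sq_inv_apply Ts Ts' hTT']
  have hBT : ∀ u v, B (Ts u) v = B u (Ts' v) := by
    intro u v
    rw [← hBiso u (Ts' v), sq_inv_apply Ts Ts' hTT']
  obtain ⟨ωs, hωs⟩ : ∃ ωs : (Fin (e * A) ⊕ Fin (e * A) → F) →ₗ[F]
      (Fin (e * A) ⊕ Fin (e * A) → F) →ₗ[F] F, ωs = B.comp (Ts - Ts') := ⟨_, rfl⟩
  have hωsa : ∀ u v, ωs u v = B (Ts u) v - B (Ts' u) v := by
    intro u v
    rw [hωs, LinearMap.comp_apply, LinearMap.sub_apply, map_sub, LinearMap.sub_apply]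
  have hnds : ∀ v, (∀ w, ωs v w = 0) → v = 0 := by
    intro v hv
    have h1 : Ts v - Ts' v = 0 := by
      apply hBnd
      intro w
      have := hv w
      rw [hωsa] at this
      rw [map_sub, LinearMap.sub_apply]
      exact this
    have h3 := sr_inj Ts Ts' hTT' r hrodd hTsr v h1
    have h4 : v ∈ LinearMap.ker (Ts - 1) := by
      rw [LinearMap.mem_ker, LinearMap.sub_apply, h3, Module.End.one_apply, sub_self]
    rw [hker0] at h4
    exact (Submodule.mem_bot F).mp h4
  obtain ⟨Qs, hQs⟩ : ∃ Qs : QuadraticForm F (Fin (e * A) ⊕ Fin (e * A) → F),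
      Qs = LinearMap.BilinMap.toQuadraticMap (B.comp Ts) := ⟨_, rfl⟩
  have hQsa : ∀ v, Qs v = B (Ts v) v := by
    intro v
    rw [hQs, LinearMap.BilinMap.toQuadraticMap_apply, LinearMap.comp_apply]
  have hpol : ∀ u v, QuadraticMap.polar Qs u v = ωs u v := by
    intro u v
    rw [hQs, LinearMap.BilinMap.polar_toQuadraticMap, LinearMap.comp_apply, LinearMap.comp_apply,
      hωsa, hBT' u v, hBskew (Ts v) u]
    ring
  refine ⟨_, inferInstance, inferInstance, inferInstance, Qs, Ts, ?_, ?_, hTsr, hker0, ?_⟩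
  · intro v hv
    apply hnds v
    intro w
    rw [← hpol]
    exact hv w
  · intro v
    rw [hQsa, hQsa, hBiso]
  · rw [Module.finrank_fintype_fun_eq_card, Fintype.card_sum, Fintype.card_fin, hce]
    ring

end srefree

end Cfsg.Agent.Lib.helper25
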