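import Mathlib
import Cfsg.Agent.Lib.helper95.APDefs
import Cfsg.Agent.Lib.helper58.APPLUMB
import Cfsg.Agent.Lib.helper7.APRESTRICT

set_option autoImplicit false

namespace Cfsg.Agent.Lib.helper95.AP

open Equiv

/-- [RED] the reduction; uses PLUMB, RESTRICT (racer copy of `red`, verbatim statement) -/
theorem h25_red (p : ℕ) (hp : p.Prime) {n m : ℕ} (U W : Perm (Fin n)) (a b : Perm (Fin m))
    (ha : a.cycleType ≤ U.cycleType) (ha' : m - a.support.card ≤ n - U.support.card)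
    (hb : b.cycleType ≤ W.cycleType) (hb' : m - b.support.card ≤ n - W.support.card)
    (h : GoodBoth p a b) :
    ∃ g : Perm (Fin n), Perm.sign g = 1 ∧ Good p U (g * W * g⁻¹) := by
  classical
  obtain ⟨ι, g, hU, hW⟩ := plumb U W a b ha ha' hb hb'
  rcases Int.units_eq_one_or (Perm.sign g) with hs | hs
  · exact ⟨g, hs, restrict p hp U (g * W * g⁻¹) a b ι hU hW h.1⟩
  · obtain ⟨τ, hτ, hgood⟩ := h.2
    obtain ⟨T, hTdef⟩ : ∃ T : Perm (Fin n), T = Equiv.Perm.viaFintypeEmbedding τ ι := ⟨_, rfl⟩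
    have hT : ∀ i, T (ι i) = ι (τ i) := by
      intro i
      rw [hTdef]
      exact Equiv.Perm.viaFintypeEmbedding_apply_image τ ι i
    have hTinv : ∀ i, T⁻¹ (ι i) = ι (τ⁻¹ i) := by
      intro i
      rw [Perm.inv_eq_iff_eq, hT]
      simp
    have hW2 : ∀ i, g (W (g⁻¹ (ι i))) = ι (b i) := by
      intro i
      have := hW i
      simpa [Perm.mul_apply] using this
    refine ⟨T * g, ?_, ?_⟩
    · rw [Perm.sign_mul, hTdef, Equiv.Perm.viaFintypeEmbedding_sign, hτ, hs]
      decide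
    · refine restrict p hp U (T * g * W * (T * g)⁻¹) a (τ * b * τ⁻¹) ι hU ?_ hgood
      intro i
      simp only [mul_inv_rev, Perm.mul_apply]
      rw [hTinv, hW2, hT]

end Cfsg.Agent.Lib.helper95.AP
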