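import Mathlib
import Cfsg.Prelude.Def_Blocks
import Cfsg.Agent.Lib.helper20.ClassNil
import Cfsg.Agent.Lib.helper9.B22Defs

/-!
# S5005, piece A: the group algebra over `ZMod 2`
-/

set_option autoImplicit false

namespace Cfsg.Agent.Lib.helper25.B22

open Cfsg Cfsg.Agent.Lib.helper9.B22

universe u

variable {G : Type u} [Group G] [Fintype G] [DecidableEq G]

omit [Fintype G] [Group G] in
theorem coeff_sg (S : Finset G) (y : G) :
    (sg S).coeff y = if y ∈ S then 1 else 0 := by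
  unfold sg
  rw [MonoidAlgebra.coeff_sum, Finsupp.finsetSum_apply]
  simp_rw [MonoidAlgebra.coeff_single, Finsupp.single_apply]
  rw [Finset.sum_ite_eq']

theorem coeff_sg_mul (S S' : Finset G) (z : G) :
    (sg S * sg S').coeff z = ((cnt S S' z : ℕ) : ZMod 2) := by
  have h1 : sg S * sg S' = ∑ x ∈ S, MonoidAlgebra.single x (1 : ZMod 2) * sg S' := by
    conv_lhs => rw [show sg S = ∑ x ∈ S, MonoidAlgebra.single x (1 : ZMod 2) from rfl]
    rw [Finset.sum_mul]
  rw [h1, MonoidAlgebra.coeff_sum, Finsupp.finsetSum_apply]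
  simp_rw [MonoidAlgebra.coeff_single_mul_apply, coeff_sg, one_mul]
  unfold cnt
  rw [Finset.sum_boole]

theorem classSumF_eq_sg (g : G) (S : Finset G) (hS : ∀ x, x ∈ S ↔ IsConj g x) :
    Cfsg.Agent.Lib.helper20.classSumF (ZMod 2) g = sg S := by
  apply MonoidAlgebra.ext
  apply Finsupp.ext
  intro y
  have h := Cfsg.Agent.Lib.helper20.coeff_classSumF (ZMod 2) g y
  rw [h, coeff_sg]
  by_cases h' : IsConj g y
  · rw [if_pos h', if_pos ((hS y).mpr h')]
  · rw [if_neg h', if_neg (fun h'' => h' ((hS y).mp h''))]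

omit [Fintype G] [DecidableEq G] in
theorem a_char_two (x : MonoidAlgebra (ZMod 2) G) : x + x = 0 := by
  have h : (2 : ZMod 2) • x = x + x := two_smul (ZMod 2) x
  rw [← h, show (2 : ZMod 2) = 0 from rfl, zero_smul]

theorem a_sg_mul_zero (S : Finset G) (h : ∀ z : G, ((cnt S S z : ℕ) : ZMod 2) = 0) :
    sg S * sg S = 0 := by
  apply MonoidAlgebra.ext
  apply Finsupp.ext
  intro z
  rw [coeff_sg_mul, h z]
  rfl

theorem nil_I (I S5 : Finset G) (h1 : (1 : G) ∉ S5)
    (ha : ∀ z : G, ((cnt I I z : ℕ) : ZMod 2) = if z = 1 ∨ z ∈ S5 then 1 else 0)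
    (hb : ∀ z : G, ((cnt S5 S5 z : ℕ) : ZMod 2) = 0) :
    IsNilpotent (sg I - 1) := by
  have haa : sg I * sg I = 1 + sg S5 := by
    apply MonoidAlgebra.ext
    apply Finsupp.ext
    intro z
    rw [coeff_sg_mul, ha z, MonoidAlgebra.coeff_add, Finsupp.add_apply, coeff_sg,
      MonoidAlgebra.one_def, MonoidAlgebra.coeff_single, Finsupp.single_apply]
    by_cases hz1 : z = 1
    · subst hz1
      simp [h1]
    · by_cases hz5 : z ∈ S5
      · simp [hz1, hz5, Ne.symm hz1]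
      · simp [hz1, hz5, Ne.symm hz1]
  have hbb : sg S5 * sg S5 = 0 := a_sg_mul_zero S5 hb
  have e : (sg I - 1) * (sg I - 1) = sg I * sg I - (sg I + sg I) + 1 := by
    rw [mul_sub, sub_mul, sub_mul, mul_one, one_mul, one_mul]
    abel
  have e2 : (sg I - 1) * (sg I - 1) = sg S5 := by
    rw [e, haa, a_char_two, sub_zero, add_comm 1 (sg S5), add_assoc, a_char_two, add_zero]
  refine ⟨4, ?_⟩
  rw [show (4 : ℕ) = 2 * 2 from rfl, pow_mul, pow_two (sg I - 1), e2, pow_two, hbb]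

theorem nil_3 (S3 S11 : Finset G)
    (hc : ∀ z : G, ((cnt S3 S3 z : ℕ) : ZMod 2) = if z ∈ S11 then 1 else 0)
    (hd : ∀ z : G, ((cnt S11 S11 z : ℕ) : ZMod 2) = 0) :
    IsNilpotent (sg S3) := by
  have hcc : sg S3 * sg S3 = sg S11 := by
    apply MonoidAlgebra.ext
    apply Finsupp.ext
    intro z
    rw [coeff_sg_mul, hc z, coeff_sg]
  have hdd : sg S11 * sg S11 = 0 := a_sg_mul_zero S11 hd
  refine ⟨4, ?_⟩
  rw [show (4 : ℕ) = 2 * 2 from rfl, pow_mul, pow_two (sg S3), hcc, pow_two, hdd]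

end Cfsg.Agent.Lib.helper25.B22
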