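import Mathlib
import Cfsg.Agent.Lib.helper9.B22Defs

/-!
# S5005, piece D: a class and its centralizer by counting; the class of involutions
-/

set_option autoImplicit false

namespace Cfsg.Agent.Lib.helper25.B22

open Cfsg Cfsg.Agent.Lib.helper9.B22

universe u

variable {G : Type u} [Group G] [Fintype G] [DecidableEq G]

omit [DecidableEq G] [Fintype G] in
/-- The centralizer of `t`, counted by a finset. -/
theorem d_card_cent (t : G) (L : Finset G) (hL : ∀ x ∈ L, x * t = t * x)
    (hL' : ∀ x : G, x * t = t * x → x ∈ L) :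
    Nat.card (Subgroup.centralizer ({t} : Set G)) = L.card := by
  have e : (Subgroup.centralizer ({t} : Set G)) ≃ {x // x ∈ L} :=
    Equiv.subtypeEquivRight (fun x => by
      rw [Subgroup.mem_centralizer_iff]
      constructor
      · intro h
        exact hL' x (h t rfl).symm
      · intro h y hy
        rw [Set.mem_singleton_iff] at hy
        subst hy
        exact (hL x h).symm)
  rw [Nat.card_congr e, Nat.card_eq_fintype_card, Fintype.card_coe]

omit [DecidableEq G] in
/-- Orbit-stabilizer for the class of `t`, counted by finsets. -/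
theorem d_orbit_stab (t : G) (C Z : Finset G) (hC : ∀ x, x ∈ C ↔ IsConj t x)
    (hZ : ∀ x, x ∈ Z ↔ x * t = t * x) : C.card * Z.card = Fintype.card G := by
  have h1 := Nat.card_congr (MulAction.orbitProdStabilizerEquivGroup (ConjAct G) t)
  rw [Nat.card_prod, ← Subgroup.nat_card_centralizer_nat_card_stabilizer] at h1
  have h2 : Nat.card (Subgroup.centralizer ({t} : Set G)) = Z.card :=
    d_card_cent t Z (fun x hx => (hZ x).mp hx) (fun x hx => (hZ x).mpr hx)
  have e : (MulAction.orbit (ConjAct G) t) ≃ {x // x ∈ C} :=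
    Equiv.subtypeEquivRight (fun x => by
      rw [ConjAct.orbit_eq_carrier_conjClasses, ConjClasses.mem_carrier_iff_mk_eq, hC,
        ← ConjClasses.mk_eq_mk_iff_isConj, eq_comm])
  have h3 : Nat.card (MulAction.orbit (ConjAct G) t) = C.card := by
    rw [Nat.card_congr e, Nat.card_eq_fintype_card, Fintype.card_coe]
  rw [h2, h3] at h1
  rw [h1]
  exact (Nat.card_eq_fintype_card).trans (Fintype.card_congr ConjAct.ofConjAct.toEquiv)

theorem class_of_card (t : G) (L S : Finset G) (hL : ∀ x ∈ L, x * t = t * x)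
    (hS : ∀ s ∈ S, IsConj t s) (hcard : S.card * L.card = Fintype.card G) :
    (∀ g : G, IsConj t g → g ∈ S) ∧ (∀ x : G, x * t = t * x → x ∈ L) := by
  classical
  have hos := d_orbit_stab t (Finset.univ.filter (fun x => IsConj t x))
    (Finset.univ.filter (fun x => x * t = t * x))
    (fun x => ⟨fun h => (Finset.mem_filter.mp h).2, fun h => Finset.mem_filter.mpr ⟨Finset.mem_univ _, h⟩⟩)
    (fun x => ⟨fun h => (Finset.mem_filter.mp h).2, fun h => Finset.mem_filter.mpr ⟨Finset.mem_univ _, h⟩⟩)
  have hSC : S ⊆ Finset.univ.filter (fun x => IsConj t x) := by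
    intro s hs
    exact Finset.mem_filter.mpr ⟨Finset.mem_univ _, hS s hs⟩
  have hLZ : L ⊆ Finset.univ.filter (fun x => x * t = t * x) := by
    intro x hx
    exact Finset.mem_filter.mpr ⟨Finset.mem_univ _, hL x hx⟩
  have h1 := Finset.card_le_card hSC
  have h2 := Finset.card_le_card hLZ
  have hGpos : 0 < Fintype.card G := Fintype.card_pos
  have hSpos : 0 < S.card := by
    rcases Nat.eq_zero_or_pos S.card with h | h
    · rw [h, zero_mul] at hcard
      omega
    · exact h
  have hLpos : 0 < L.card := by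
    rcases Nat.eq_zero_or_pos L.card with h | h
    · rw [h, mul_zero] at hcard
      omega
    · exact h
  have hSeq : S.card = (Finset.univ.filter (fun x => IsConj t x)).card := by
    by_contra hne
    have hlt : S.card < (Finset.univ.filter (fun x => IsConj t x)).card := lt_of_le_of_ne h1 hne
    have h3 : S.card * L.card
        < (Finset.univ.filter (fun x => IsConj t x)).card *
          (Finset.univ.filter (fun x => x * t = t * x)).card :=
      calc S.card * L.card < (Finset.univ.filter (fun x => IsConj t x)).card * L.card :=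
            Nat.mul_lt_mul_of_pos_right hlt hLpos
        _ ≤ _ := Nat.mul_le_mul_left _ h2
    omega
  have hLeq : L.card = (Finset.univ.filter (fun x => x * t = t * x)).card := by
    by_contra hne
    have hlt : L.card < (Finset.univ.filter (fun x => x * t = t * x)).card := lt_of_le_of_ne h2 hne
    have h3 : S.card * L.card
        < (Finset.univ.filter (fun x => IsConj t x)).card *
          (Finset.univ.filter (fun x => x * t = t * x)).card :=
      calc S.card * L.card < S.card * (Finset.univ.filter (fun x => x * t = t * x)).card :=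
            Nat.mul_lt_mul_of_pos_left hlt hSpos
        _ ≤ _ := Nat.mul_le_mul_right _ h1
    omega
  have hS' := Finset.eq_of_subset_of_card_le hSC hSeq.ge
  have hL' := Finset.eq_of_subset_of_card_le hLZ hLeq.ge
  constructor
  · intro g hg
    rw [hS']
    exact Finset.mem_filter.mpr ⟨Finset.mem_univ _, hg⟩
  · intro x hx
    rw [hL']
    exact Finset.mem_filter.mpr ⟨Finset.mem_univ _, hx⟩

theorem inv_class (P : Subgroup G) (hP : Nat.card P = 128) (hG : Fintype.card G = 443520)
    (t : G) (S : Finset G) (hPS : ∀ x ∈ P, orderOf x = 2 → x ∈ S)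
    (hall : ∀ g : G, IsConj t g → g ∈ S) (hS : ∀ s ∈ S, IsConj t s) :
    ∀ q : G, orderOf q = 2 → IsConj t q := by
  classical
  intro q hq
  have hfact : Fact (Nat.Prime 2) := ⟨Nat.prime_two⟩
  have hfac : (Nat.card G).factorization 2 = 7 := by
    rw [Nat.card_eq_fintype_card, hG, show (443520 : ℕ) = 2 ^ 7 * 3465 by norm_num,
      Nat.factorization_mul (by norm_num) (by norm_num), Nat.Prime.factorization_pow Nat.prime_two]
    simp [Nat.factorization_eq_zero_of_not_dvd (by norm_num : ¬ 2 ∣ 3465)]
  have hPc : Nat.card P = 2 ^ (Nat.card G).factorization 2 := by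
    rw [hfac, hP]
    norm_num
  obtain ⟨Ps, hPs⟩ : ∃ Ps : Sylow 2 G, (Ps : Subgroup G) = P := ⟨Sylow.ofCard P hPc, rfl⟩
  have hq2 : IsPGroup 2 (Subgroup.zpowers q) := by
    apply IsPGroup.of_card (n := 1)
    rw [Nat.card_zpowers, hq, pow_one]
  obtain ⟨Q, hQ⟩ := hq2.exists_le_sylow
  obtain ⟨g, hg⟩ := MulAction.exists_smul_eq G Q Ps
  have hqQ : q ∈ (Q : Subgroup G) := hQ (Subgroup.mem_zpowers q)
  have hmem : g * q * g⁻¹ ∈ P := by
    rw [← hPs, ← hg, Sylow.coe_subgroup_smul]
    have h1 := Subgroup.smul_mem_pointwise_smul q (MulAut.conj g) (Q : Subgroup G) hqQ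
    simpa [MulAut.smul_def] using h1
  have hord : orderOf (g * q * g⁻¹) = 2 := by
    have h1 : orderOf (MulAut.conj g q) = orderOf q := MulEquiv.orderOf_eq (MulAut.conj g) q
    rw [MulAut.conj_apply] at h1
    rw [h1, hq]
  have h3 := hS _ (hPS _ hmem hord)
  have h4 : IsConj (g * q * g⁻¹) q := (isConj_iff.mpr ⟨g, rfl⟩ : IsConj q (g * q * g⁻¹)).symm
  exact h3.trans h4

theorem cent_order (t : G) (L : Finset G) (hL : ∀ x ∈ L, x * t = t * x)
    (hL' : ∀ x : G, x * t = t * x → x ∈ L) (q x : G) (hq : IsConj t q) (hx : x * q = q * x) :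
    orderOf x ∣ L.card := by
  classical
  obtain ⟨c, hc⟩ := isConj_iff.mp hq
  have hcomm : (c⁻¹ * x * c) * t = t * (c⁻¹ * x * c) := by
    have h1 : q = c * t * c⁻¹ := hc.symm
    rw [h1] at hx
    calc c⁻¹ * x * c * t = c⁻¹ * (x * (c * t * c⁻¹)) * c := by group
      _ = c⁻¹ * ((c * t * c⁻¹) * x) * c := by rw [hx]
      _ = t * (c⁻¹ * x * c) := by group
  have hmem : c⁻¹ * x * c ∈ Subgroup.centralizer ({t} : Set G) := by
    rw [Subgroup.mem_centralizer_iff]
    intro y hy
    rw [Set.mem_singleton_iff] at hy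
    subst hy
    exact hcomm.symm
  have hord : orderOf (c⁻¹ * x * c) = orderOf x := by
    have h1 : orderOf (MulAut.conj c⁻¹ x) = orderOf x := MulEquiv.orderOf_eq (MulAut.conj c⁻¹) x
    rw [MulAut.conj_apply, inv_inv] at h1
    exact h1
  rw [← hord, ← d_card_cent t L hL hL']
  exact Subgroup.orderOf_dvd_natCard _ hmem

end Cfsg.Agent.Lib.helper25.B22
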