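import Mathlib
import Cfsg.Agent.Lib.helper9.B22Defs
import Cfsg.Agent.Lib.helper72.B22_C1
import Cfsg.Agent.Lib.helper72.B22_C2
import Cfsg.Agent.Lib.helper72.B22_C3

/-!
# S5005, piece J: the four parity identities from data on representatives
-/

set_option autoImplicit false

namespace Cfsg.Agent.Lib.helper25.B22

open Cfsg Cfsg.Agent.Lib.helper9.B22

universe u

variable {G : Type u} [Group G] [Fintype G] [DecidableEq G]

theorem j_mem_ordF (n : ℕ) (x : G) : x ∈ ordF G n ↔ orderOf x = n := by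
  unfold ordF
  rw [Finset.mem_filter]
  exact ⟨fun h => h.2, fun h => ⟨Finset.mem_univ _, h⟩⟩

omit [Fintype G] [DecidableEq G] in
theorem j_orderOf_conj (g x : G) : orderOf (g * x * g⁻¹) = orderOf x := by
  have h1 : orderOf (MulAut.conj g x) = orderOf x := MulEquiv.orderOf_eq (MulAut.conj g) x
  rw [MulAut.conj_apply] at h1
  exact h1

theorem j_conj_closed (n : ℕ) : ∀ g x : G, x ∈ ordF G n → g * x * g⁻¹ ∈ ordF G n := by
  intro g x hx
  rw [j_mem_ordF] at hx ⊢
  rw [j_orderOf_conj, hx]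

theorem j_inv_closed (n : ℕ) : ∀ x ∈ ordF G n, x⁻¹ ∈ ordF G n := by
  intro x hx
  rw [j_mem_ordF] at hx ⊢
  rw [orderOf_inv, hx]

/-- The odd case: `z = v * v` and `v` is conjugate to a representative or its inverse. -/
theorem j_odd (S : Finset G) (hS : ∀ g x : G, x ∈ S → g * x * g⁻¹ ∈ S) (hSi : ∀ x ∈ S, x⁻¹ ∈ S)
    (R : Finset G) (hR : ∀ v : G, Odd (orderOf v) → v = 1 ∨ ∃ r ∈ R, IsConj r v ∨ IsConj r⁻¹ v)
    (z : G) (hz : Odd (orderOf z)) (hz1 : z ≠ 1) :
    ∃ r ∈ R, orderOf r = orderOf z ∧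
      ((cnt S S z : ℕ) : ZMod 2) = ((Cfsg.Agent.Lib.helper9.B22.sq S r : ℕ) : ZMod 2) := by
  obtain ⟨k, hk⟩ := hz
  have hvv : z ^ (k + 1) * z ^ (k + 1) = z := by
    rw [← pow_add]
    have h2 : k + 1 + (k + 1) = orderOf z + 1 := by omega
    rw [h2, pow_succ, pow_orderOf_eq_one, one_mul]
  have hzv : orderOf (z ^ (k + 1)) = orderOf z := by
    apply Nat.dvd_antisymm (orderOf_pow_dvd (k + 1))
    have h3 := orderOf_pow_dvd (x := z ^ (k + 1)) 2
    rwa [pow_two, hvv] at h3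
  have hv1 : z ^ (k + 1) ≠ 1 := by
    intro h
    rw [h, orderOf_one] at hzv
    exact hz1 (orderOf_eq_one_iff.mp hzv.symm)
  have hvodd : Odd (orderOf (z ^ (k + 1))) := by
    rw [hzv]
    exact ⟨k, hk⟩
  have hcs := Cfsg.Agent.Lib.helper72.B22.cnt_sq S hS (z ^ (k + 1))
  rw [hvv] at hcs
  rcases hR _ hvodd with h | ⟨r, hrR, h | h⟩
  · exact absurd h hv1
  · obtain ⟨c, hc⟩ := isConj_iff.mp h
    refine ⟨r, hrR, ?_, ?_⟩
    · rw [← hzv, ← hc, j_orderOf_conj]
    · rw [hcs, ← hc, Cfsg.Agent.Lib.helper72.B22.sq_conj S hS c r]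
  · obtain ⟨c, hc⟩ := isConj_iff.mp h
    refine ⟨r, hrR, ?_, ?_⟩
    · rw [← hzv, ← hc, j_orderOf_conj, orderOf_inv]
    · rw [hcs, ← hc, Cfsg.Agent.Lib.helper72.B22.sq_conj S hS c r⁻¹,
        Cfsg.Agent.Lib.helper72.B22.sq_inv S hS hSi r]

/-- The case `z = 1`. -/
theorem j_one (S : Finset G) (hS : ∀ g x : G, x ∈ S → g * x * g⁻¹ ∈ S) :
    ((cnt S S 1 : ℕ) : ZMod 2) = ((Cfsg.Agent.Lib.helper9.B22.sq S 1 : ℕ) : ZMod 2) := by
  have h := Cfsg.Agent.Lib.helper72.B22.cnt_sq S hS (1 : G)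
  rwa [one_mul] at h

theorem j_sq_one (n : ℕ) (hn : ¬ n ∣ 2) : Cfsg.Agent.Lib.helper9.B22.sq (ordF G n) 1 = 0 := by
  unfold Cfsg.Agent.Lib.helper9.B22.sq
  rw [Finset.card_eq_zero, Finset.filter_eq_empty_iff]
  rintro a - ⟨haa, ha⟩
  rw [mul_one, j_mem_ordF] at ha
  apply hn
  rw [← ha]
  exact orderOf_dvd_of_pow_eq_one (by rw [pow_two]; exact haa)

theorem j_sq_one_two : Cfsg.Agent.Lib.helper9.B22.sq (ordF G 2) 1 = (ordF G 2).card := by
  unfold Cfsg.Agent.Lib.helper9.B22.sq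
  congr 1
  ext a
  rw [Finset.mem_filter, mul_one]
  constructor
  · intro h
    exact h.2.2
  · intro h
    refine ⟨Finset.mem_univ _, ?_, h⟩
    have h2 := (j_mem_ordF 2 a).mp h
    have h3 := pow_orderOf_eq_one a
    rwa [h2, pow_two] at h3

omit [DecidableEq G] in
/-- An element of even order has a power which is an involution. -/
theorem j_even (z : G) (hz : Even (orderOf z)) :
    ∃ q : G, orderOf q = 2 ∧ q * q = 1 ∧ q * z = z * q := by
  obtain ⟨j, hj⟩ := hz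
  have hpos : 0 < orderOf z := orderOf_pos z
  have hqq : z ^ j * z ^ j = 1 := by
    rw [← pow_add, ← hj, pow_orderOf_eq_one]
  have hq1 : z ^ j ≠ 1 := by
    intro h
    have h2 : orderOf z ∣ j := orderOf_dvd_of_pow_eq_one h
    have h3 : orderOf z ≤ j := Nat.le_of_dvd (by omega) h2
    omega
  refine ⟨z ^ j, orderOf_eq_prime (by rw [pow_two]; exact hqq) hq1, hqq, ?_⟩
  exact (Commute.pow_self z j).eq

theorem j_even_none (n : ℕ) (hn : ¬ n ∣ 384) (t : G)
    (hinv : ∀ q : G, orderOf q = 2 → IsConj t q)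
    (hcent : ∀ q x : G, IsConj t q → x * q = q * x → orderOf x ∣ 384)
    (z : G) (hz : Even (orderOf z)) :
    ((cnt (ordF G n) (ordF G n) z : ℕ) : ZMod 2) = 0 := by
  obtain ⟨q, hq2, hqq, hqz⟩ := j_even z hz
  rw [Cfsg.Agent.Lib.helper72.B22.cnt_comm (ordF G n) (j_conj_closed n) q z hqq hqz]
  have hempty : (ordF G n).filter (fun x => x * q = q * x ∧ x⁻¹ * z ∈ ordF G n) = ∅ := by
    rw [Finset.filter_eq_empty_iff]
    rintro x hx ⟨hxq, -⟩
    apply hn
    rw [← (j_mem_ordF n x).mp hx]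
    exact hcent q x (hinv q hq2) hxq
  rw [hempty, Finset.card_empty, Nat.cast_zero]

theorem j_even_three (t : G)
    (hinv : ∀ q : G, orderOf q = 2 → IsConj t q)
    (hQ : ∀ z : G, z * t = t * z →
      Even (((ordF G 3).filter (fun x => x * t = t * x ∧ x⁻¹ * z ∈ ordF G 3)).card))
    (z : G) (hz : Even (orderOf z)) :
    ((cnt (ordF G 3) (ordF G 3) z : ℕ) : ZMod 2) = 0 := by
  obtain ⟨q, hq2, hqq, hqz⟩ := j_even z hz
  rw [Cfsg.Agent.Lib.helper72.B22.cnt_comm (ordF G 3) (j_conj_closed 3) q z hqq hqz]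
  obtain ⟨c, hc⟩ := isConj_iff.mp (hinv q hq2)
  have hz't : (c⁻¹ * z * c) * t = t * (c⁻¹ * z * c) := by
    rw [← hc] at hqz
    calc c⁻¹ * z * c * t = c⁻¹ * (z * (c * t * c⁻¹)) * c := by group
      _ = c⁻¹ * ((c * t * c⁻¹) * z) * c := by rw [hqz]
      _ = t * (c⁻¹ * z * c) := by group
  have hcard : ((ordF G 3).filter (fun x => x * q = q * x ∧ x⁻¹ * z ∈ ordF G 3)).card
      = ((ordF G 3).filter
          (fun x => x * t = t * x ∧ x⁻¹ * (c⁻¹ * z * c) ∈ ordF G 3)).card := by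
    apply Finset.card_nbij' (fun x => c⁻¹ * x * c) (fun x => c * x * c⁻¹)
    · intro x hx
      rw [Finset.mem_coe, Finset.mem_filter] at hx ⊢
      obtain ⟨hx3, hxq, hxz⟩ := hx
      refine ⟨?_, ?_, ?_⟩
      · have h := j_conj_closed 3 c⁻¹ x hx3
        rwa [inv_inv] at h
      · rw [← hc] at hxq
        calc c⁻¹ * x * c * t = c⁻¹ * (x * (c * t * c⁻¹)) * c := by group
          _ = c⁻¹ * ((c * t * c⁻¹) * x) * c := by rw [hxq]
          _ = t * (c⁻¹ * x * c) := by group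
      · have h := j_conj_closed 3 c⁻¹ _ hxz
        rw [inv_inv] at h
        have e : (c⁻¹ * x * c)⁻¹ * (c⁻¹ * z * c) = c⁻¹ * (x⁻¹ * z) * c := by group
        rw [e]
        exact h
    · intro x hx
      rw [Finset.mem_coe, Finset.mem_filter] at hx ⊢
      obtain ⟨hx3, hxt, hxz⟩ := hx
      refine ⟨j_conj_closed 3 c x hx3, ?_, ?_⟩
      · rw [← hc]
        calc c * x * c⁻¹ * (c * t * c⁻¹) = c * (x * t) * c⁻¹ := by group
          _ = c * (t * x) * c⁻¹ := by rw [hxt]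
          _ = c * t * c⁻¹ * (c * x * c⁻¹) := by group
      · have h := j_conj_closed 3 c _ hxz
        have e : (c * x * c⁻¹)⁻¹ * z = c * (x⁻¹ * (c⁻¹ * z * c)) * c⁻¹ := by group
        rw [e]
        exact h
    · intro x _
      show c * (c⁻¹ * x * c) * c⁻¹ = x
      group
    · intro x _
      show c⁻¹ * (c * x * c⁻¹) * c = x
      group
  rw [hcard]
  exact ZMod.natCast_eq_zero_iff_even.mpr (hQ _ hz't)

theorem parity_all (t : G) (ht : orderOf t = 2)
    (hinv : ∀ q : G, orderOf q = 2 → IsConj t q)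
    (hcent : ∀ q x : G, IsConj t q → x * q = q * x → orderOf x ∣ 384)
    (R : Finset G)
    (hR : ∀ v : G, Odd (orderOf v) → v = 1 ∨ ∃ r ∈ R, IsConj r v ∨ IsConj r⁻¹ v)
    (hodd : Odd (ordF G 2).card)
    (hsqI : ∀ r ∈ R, ((sq (ordF G 2) r : ℕ) : ZMod 2) = if orderOf r = 5 then 1 else 0)
    (hsq5 : ∀ r ∈ R, ((sq (ordF G 5) r : ℕ) : ZMod 2) = 0)
    (hsq3 : ∀ r ∈ R, ((sq (ordF G 3) r : ℕ) : ZMod 2) = if orderOf r = 11 then 1 else 0)
    (hsq11 : ∀ r ∈ R, ((sq (ordF G 11) r : ℕ) : ZMod 2) = 0)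
    (hQ : ∀ z : G, z * t = t * z →
      Even (((ordF G 3).filter (fun x => x * t = t * x ∧ x⁻¹ * z ∈ ordF G 3)).card)) :
    (∀ z : G, ((cnt (ordF G 2) (ordF G 2) z : ℕ) : ZMod 2)
        = if z = 1 ∨ z ∈ ordF G 5 then 1 else 0) ∧
    (∀ z : G, ((cnt (ordF G 5) (ordF G 5) z : ℕ) : ZMod 2) = 0) ∧
    (∀ z : G, ((cnt (ordF G 3) (ordF G 3) z : ℕ) : ZMod 2)
        = if z ∈ ordF G 11 then 1 else 0) ∧
    (∀ z : G, ((cnt (ordF G 11) (ordF G 11) z : ℕ) : ZMod 2) = 0) := by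
  refine ⟨?_, ?_, ?_, ?_⟩
  · intro z
    rcases Nat.even_or_odd (orderOf z) with hz | hz
    · rw [Cfsg.Agent.Lib.helper72.B22.cnt_inv z hz, if_neg]
      rintro (h | h)
      · rw [h, orderOf_one] at hz
        exact absurd hz (by decide)
      · rw [(j_mem_ordF 5 z).mp h] at hz
        exact absurd hz (by decide)
    · by_cases hz1 : z = 1
      · subst hz1
        rw [j_one (ordF G 2) (j_conj_closed 2), j_sq_one_two, if_pos (Or.inl rfl)]
        exact ZMod.natCast_eq_one_iff_odd.mpr hodd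
      · obtain ⟨r, hrR, hro, hcs⟩ := j_odd (ordF G 2) (j_conj_closed 2) (j_inv_closed 2) R hR z
          hz hz1
        rw [hcs, hsqI r hrR, hro]
        by_cases h5 : orderOf z = 5
        · rw [if_pos h5, if_pos (Or.inr ((j_mem_ordF 5 z).mpr h5))]
        · rw [if_neg h5, if_neg]
          rintro (h | h)
          · exact hz1 h
          · exact h5 ((j_mem_ordF 5 z).mp h)
  · intro z
    rcases Nat.even_or_odd (orderOf z) with hz | hz
    · exact j_even_none 5 (by norm_num) t hinv hcent z hz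
    · by_cases hz1 : z = 1
      · subst hz1
        rw [j_one (ordF G 5) (j_conj_closed 5), j_sq_one 5 (by norm_num), Nat.cast_zero]
      · obtain ⟨r, hrR, hro, hcs⟩ := j_odd (ordF G 5) (j_conj_closed 5) (j_inv_closed 5) R hR z
          hz hz1
        rw [hcs, hsq5 r hrR]
  · intro z
    rcases Nat.even_or_odd (orderOf z) with hz | hz
    · rw [j_even_three t hinv hQ z hz, if_neg]
      intro h
      rw [(j_mem_ordF 11 z).mp h] at hz
      exact absurd hz (by decide)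
    · by_cases hz1 : z = 1
      · subst hz1
        rw [j_one (ordF G 3) (j_conj_closed 3), j_sq_one 3 (by norm_num), Nat.cast_zero, if_neg]
        intro h
        have h2 := (j_mem_ordF 11 (1 : G)).mp h
        rw [orderOf_one] at h2
        exact absurd h2 (by norm_num)
      · obtain ⟨r, hrR, hro, hcs⟩ := j_odd (ordF G 3) (j_conj_closed 3) (j_inv_closed 3) R hR z
          hz hz1
        rw [hcs, hsq3 r hrR, hro]
        by_cases h11 : orderOf z = 11
        · rw [if_pos h11, if_pos ((j_mem_ordF 11 z).mpr h11)]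
        · rw [if_neg h11, if_neg (fun h => h11 ((j_mem_ordF 11 z).mp h))]
  · intro z
    rcases Nat.even_or_odd (orderOf z) with hz | hz
    · exact j_even_none 11 (by norm_num) t hinv hcent z hz
    · by_cases hz1 : z = 1
      · subst hz1
        rw [j_one (ordF G 11) (j_conj_closed 11), j_sq_one 11 (by norm_num), Nat.cast_zero]
      · obtain ⟨r, hrR, hro, hcs⟩ := j_odd (ordF G 11) (j_conj_closed 11) (j_inv_closed 11) R hR
          z hz hz1
        rw [hcs, hsq11 r hrR]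

end Cfsg.Agent.Lib.helper25.B22
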