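import Mathlib
import Cfsg.Prelude.Def_Blocks
import Cfsg.Agent.Lib.helper20.ClassNil
import Cfsg.Agent.Lib.helper9.B22Defs
import Cfsg.Agent.Lib.helper25.B22_A

/-!
# S5005, piece K (core): assembly of the abstract theorem, against the statements of F1 and F2
-/

set_option autoImplicit false

namespace Cfsg.Agent.Lib.helper25.B22

open Cfsg Cfsg.Agent.Lib.helper9.B22

universe u

variable {G : Type u} [Group G] [Fintype G] [DecidableEq G]

omit [Fintype G] [DecidableEq G] in
theorem k_orderOf_of_isConj {a b : G} (h : IsConj a b) : orderOf b = orderOf a := by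
  obtain ⟨c, hc⟩ := isConj_iff.mp h
  have h1 : orderOf (MulAut.conj c a) = orderOf a := MulEquiv.orderOf_eq (MulAut.conj c) a
  rw [MulAut.conj_apply, hc] at h1
  exact h1

theorem k_mem_ordF (n : ℕ) (x : G) : x ∈ ordF G n ↔ orderOf x = n := by
  unfold ordF
  rw [Finset.mem_filter]
  exact ⟨fun h => h.2, fun h => ⟨Finset.mem_univ _, h⟩⟩

/-- Piece K, with the statements of the pieces F1 (`defect_one`) and F2 (`single_of_defect_one`)
as hypotheses. -/
theorem main_abstract_core
    (hF1 : ∀ (t : G), orderOf t = 2 →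
      IsNilpotent (Cfsg.Agent.Lib.helper20.classSumF (ZMod 2) t - 1) →
      (∀ g : G, g ≠ 1 → Odd (orderOf g) →
        IsNilpotent (Cfsg.Agent.Lib.helper20.classSumF (ZMod 2) g) ∨
          Odd (Nat.card (Subgroup.centralizer ({g} : Set G)))) →
      ∀ (M : Ideal AlgInt), IsPModular 2 M → ∀ (B : Set (IrrCharacter G)), IsPBlock M B →
        IsDefectClass M B (1 : G))
    (hF2 : ∀ (P : Subgroup G), Nat.card P = 128 → Fintype.card G = 443520 →
      (∀ g : G, (∀ x ∈ P, g * x * g⁻¹ ∈ P) → g ∈ P) →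
      ∀ (M : Ideal AlgInt), IsPModular 2 M →
      (∀ B : Set (IrrCharacter G), IsPBlock M B → IsDefectClass M B (1 : G)) →
      ∀ (χ ψ : IrrCharacter G), SameBlock M (χ : G → ℂ) (ψ : G → ℂ))
    (P : Subgroup G) (hP : Nat.card P = 128) (hG : Fintype.card G = 443520)
    (hN : ∀ g : G, (∀ x ∈ P, g * x * g⁻¹ ∈ P) → g ∈ P)
    (t : G) (ht : orderOf t = 2) (hinv : ∀ q : G, orderOf q = 2 → IsConj t q)
    (hcent : ∀ q x : G, IsConj t q → x * q = q * x → orderOf x ∣ 384)
    (h3 : ∀ x y : G, orderOf x = 3 → orderOf y = 3 → IsConj x y)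
    (ha : ∀ z : G, ((cnt (ordF G 2) (ordF G 2) z : ℕ) : ZMod 2)
        = if z = 1 ∨ z ∈ ordF G 5 then 1 else 0)
    (hb : ∀ z : G, ((cnt (ordF G 5) (ordF G 5) z : ℕ) : ZMod 2) = 0)
    (hc : ∀ z : G, ((cnt (ordF G 3) (ordF G 3) z : ℕ) : ZMod 2)
        = if z ∈ ordF G 11 then 1 else 0)
    (hd : ∀ z : G, ((cnt (ordF G 11) (ordF G 11) z : ℕ) : ZMod 2) = 0)
    (M : Ideal AlgInt) (hM : IsPModular 2 M) (χ ψ : IrrCharacter G) :
    SameBlock M (χ : G → ℂ) (ψ : G → ℂ) := by
  classical
  have htsum : Cfsg.Agent.Lib.helper20.classSumF (ZMod 2) t = sg (ordF G 2) := by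
    apply classSumF_eq_sg
    intro x
    rw [k_mem_ordF]
    constructor
    · intro hx
      exact hinv x hx
    · intro hx
      rw [k_orderOf_of_isConj hx, ht]
  have h15 : (1 : G) ∉ ordF G 5 := by
    rw [k_mem_ordF, orderOf_one]
    norm_num
  have htnil : IsNilpotent (Cfsg.Agent.Lib.helper20.classSumF (ZMod 2) t - 1) := by
    rw [htsum]
    exact nil_I (ordF G 2) (ordF G 5) h15 ha hb
  have hodd : ∀ g : G, g ≠ 1 → Odd (orderOf g) →
      IsNilpotent (Cfsg.Agent.Lib.helper20.classSumF (ZMod 2) g) ∨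
        Odd (Nat.card (Subgroup.centralizer ({g} : Set G))) := by
    intro g hg1 hgodd
    by_cases hg3 : orderOf g = 3
    · left
      have hgsum : Cfsg.Agent.Lib.helper20.classSumF (ZMod 2) g = sg (ordF G 3) := by
        apply classSumF_eq_sg
        intro x
        rw [k_mem_ordF]
        constructor
        · intro hx
          exact h3 g x hg3 hx
        · intro hx
          rw [k_orderOf_of_isConj hx, hg3]
      rw [hgsum]
      exact nil_3 (ordF G 3) (ordF G 11) hc hd
    · right
      by_contra hnodd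
      have heven : Even (Nat.card (Subgroup.centralizer ({g} : Set G))) :=
        Nat.not_odd_iff_even.mp hnodd
      have hdvd : 2 ∣ Nat.card (Subgroup.centralizer ({g} : Set G)) := heven.two_dvd
      have hfact : Fact (Nat.Prime 2) := ⟨Nat.prime_two⟩
      obtain ⟨q, hq⟩ := exists_prime_orderOf_dvd_card' 2 hdvd
      have hq2 : orderOf (q : G) = 2 := by rw [Subgroup.orderOf_coe, hq]
      have hcomm : g * (q : G) = (q : G) * g := by
        have h1 := Subgroup.mem_centralizer_iff.mp q.2 g rfl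
        exact h1
      have h384 : orderOf g ∣ 384 := hcent (q : G) g (hinv _ hq2) hcomm
      have hcop : Nat.Coprime (orderOf g) (2 ^ 7) :=
        Nat.Coprime.pow_right 7 (Nat.coprime_two_right.mpr hgodd)
      have h384' : orderOf g ∣ 2 ^ 7 * 3 := by
        have e : (2 : ℕ) ^ 7 * 3 = 384 := by norm_num
        rw [e]
        exact h384
      have hd3 : orderOf g ∣ 3 := Nat.Coprime.dvd_of_dvd_mul_left hcop h384'
      rcases (Nat.dvd_prime Nat.prime_three).mp hd3 with h | h
      · exact hg1 (orderOf_eq_one_iff.mp h)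
      · exact hg3 h
  exact hF2 P hP hG hN M hM (fun B hB => hF1 t ht htnil hodd M hM B hB) χ ψ

end Cfsg.Agent.Lib.helper25.B22
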