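import Mathlib
import Cfsg.Prelude.Def_Blocks
import Cfsg.Agent.Lib.helper20.ClassNil
import Cfsg.Agent.Lib.helper9.B22Defs
import Cfsg.Agent.Lib.helper25.B22_Kcore
import Cfsg.Agent.Lib.helper80.B22_F1
import Cfsg.Agent.Lib.helper80.B22_F2

/-!
# S5005, piece K: the abstract theorem (assembly of the pieces A, D, J, F1, F2)
-/

set_option autoImplicit false

namespace Cfsg.Agent.Lib.helper25.B22

open Cfsg Cfsg.Agent.Lib.helper9.B22

universe u

variable {G : Type u} [Group G] [Fintype G] [DecidableEq G]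

/-- PIECE K. -/
theorem main_abstract (P : Subgroup G) (hP : Nat.card P = 128) (hG : Fintype.card G = 443520)
    (hN : ∀ g : G, (∀ x ∈ P, g * x * g⁻¹ ∈ P) → g ∈ P)
    (t : G) (ht : orderOf t = 2) (hinv : ∀ q : G, orderOf q = 2 → IsConj t q)
    (hcent : ∀ q x : G, IsConj t q → x * q = q * x → orderOf x ∣ 384)
    (h3 : ∀ x y : G, orderOf x = 3 → orderOf y = 3 → IsConj x y)
    (ha : ∀ z : G, ((cnt (ordF G 2) (ordF G 2) z : ℕ) : ZMod 2)
        = if z = 1 ∨ z ∈ ordF G 5 then 1 else 0)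
    (hb : ∀ z : G, ((cnt (ordF G 5) (ordF G 5) z : ℕ) : ZMod 2) = 0)
    (hc : ∀ z : G, ((cnt (ordF G 3) (ordF G 3) z : ℕ) : ZMod 2)
        = if z ∈ ordF G 11 then 1 else 0)
    (hd : ∀ z : G, ((cnt (ordF G 11) (ordF G 11) z : ℕ) : ZMod 2) = 0)
    (M : Ideal AlgInt) (hM : IsPModular 2 M) (χ ψ : IrrCharacter G) :
    SameBlock M (χ : G → ℂ) (ψ : G → ℂ) :=
  main_abstract_core
    (fun t ht2 ht h M hM B hB => Cfsg.Agent.Lib.helper80.B22.defect_one t ht2 ht h M hM B hB)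
    (fun P hP hG hN M hM hall χ ψ =>
      Cfsg.Agent.Lib.helper80.B22.single_of_defect_one P hP hG hN M hM hall χ ψ)
    P hP hG hN t ht hinv hcent h3 ha hb hc hd M hM χ ψ

end Cfsg.Agent.Lib.helper25.B22
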