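import Mathlib
import Cfsg.Agent.Lib.helper81.BLF1
import Cfsg.Agent.Lib.helper81.BLF3
import Cfsg.Agent.Lib.helper21.BLF4

/-!
# S4471 piece FB (helper25, racing copy): Frobenius–Blichfeldt for a two-eigenvalue element

In a finite group of unitary matrices, an element `U z` with `(U z - 1)(U z - ω) = 0`, `|ω| = 1`,
`|ω - 1| < 1` commutes with its conjugates.
-/

set_option autoImplicit false

namespace Cfsg.Agent.Lib.helper68.BL

open scoped ComplexConjugate Matrix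

universe u

/-! ### The trace form -/

theorem helper25_nu_smul {n : ℕ} (c : ℂ) (A : Matrix (Fin n) (Fin n) ℂ) :
    (((c • A)ᴴ * (c • A)).trace).re = Complex.normSq c * ((Aᴴ * A).trace).re := by
  have e : (c • A)ᴴ * (c • A) = ((Complex.normSq c : ℝ) : ℂ) • (Aᴴ * A) := by
    rw [Matrix.conjTranspose_smul, Matrix.smul_mul, Matrix.mul_smul, smul_smul,
      Complex.normSq_eq_conj_mul_self, Complex.star_def]
  rw [e, Matrix.trace_smul, smul_eq_mul, Complex.re_ofReal_mul]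

theorem helper25_nu_mul_unitary {n : ℕ} (A W : Matrix (Fin n) (Fin n) ℂ) (hW : W * Wᴴ = 1) :
    (((A * W)ᴴ * (A * W)).trace).re = ((Aᴴ * A).trace).re := by
  have e : ((A * W)ᴴ * (A * W)).trace = (Aᴴ * A).trace := by
    rw [Matrix.conjTranspose_mul, Matrix.mul_assoc, Matrix.trace_mul_comm, Matrix.mul_assoc,
      Matrix.mul_assoc, hW, Matrix.mul_one]
  rw [e]

theorem helper25_eq_zero_of_nu {n : ℕ} (Y : Matrix (Fin n) (Fin n) ℂ)
    (h : ((Yᴴ * Y).trace).re ≤ 0) : Y = 0 := by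
  have h1 : (Yᴴ * Y).trace = ∑ i, ∑ j, ((Complex.normSq (Y j i) : ℝ) : ℂ) := by
    rw [Matrix.trace]
    refine Finset.sum_congr rfl fun i _ => ?_
    rw [Matrix.diag_apply, Matrix.mul_apply]
    refine Finset.sum_congr rfl fun j _ => ?_
    rw [Matrix.conjTranspose_apply, Complex.star_def, Complex.normSq_eq_conj_mul_self]
  rw [h1] at h
  simp only [Complex.re_sum, Complex.ofReal_re] at h
  have h2 : ∑ i : Fin n, ∑ j : Fin n, Complex.normSq (Y j i) = 0 :=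
    le_antisymm h (Finset.sum_nonneg fun i _ => Finset.sum_nonneg fun j _ =>
      Complex.normSq_nonneg _)
  ext j i
  have h3 := (Finset.sum_eq_zero_iff_of_nonneg (fun i _ => Finset.sum_nonneg fun j _ =>
    Complex.normSq_nonneg (Y j i))).1 h2 i (Finset.mem_univ i)
  have h4 := (Finset.sum_eq_zero_iff_of_nonneg (fun j _ =>
    Complex.normSq_nonneg (Y j i))).1 h3 j (Finset.mem_univ j)
  rw [Matrix.zero_apply]
  exact Complex.normSq_eq_zero.mp h4

/-! ### Vectors -/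

theorem helper25_herm_dot {n : ℕ} (E : Matrix (Fin n) (Fin n) ℂ) (hEh : Eᴴ = E)
    (a b : Fin n → ℂ) : star (E *ᵥ a) ⬝ᵥ b = star a ⬝ᵥ (E *ᵥ b) := by
  rw [Matrix.star_mulVec, hEh, Matrix.dotProduct_mulVec]

theorem helper25_unitary_dot {n : ℕ} (y : Matrix (Fin n) (Fin n) ℂ) (hy : yᴴ * y = 1)
    (w : Fin n → ℂ) : star (y *ᵥ w) ⬝ᵥ (y *ᵥ w) = star w ⬝ᵥ w := by
  rw [Matrix.star_mulVec, ← Matrix.dotProduct_mulVec, Matrix.mulVec_mulVec, hy,
    Matrix.one_mulVec]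

/-- Case A of `(*)`: `y' = 1 + c E₁`. -/
theorem helper25_star_A {n : ℕ} (E E₁ : Matrix (Fin n) (Fin n) ℂ) (hEh : Eᴴ = E)
    (hE₁ : E₁ * E₁ = E₁) (hE₁h : E₁ᴴ = E₁) (c : ℂ) (hc : ‖c‖ < 1)
    (hy : (1 + c • E₁)ᴴ * (1 + c • E₁) = 1) (w : Fin n → ℂ) (hw1 : E *ᵥ w = w)
    (hw2 : E *ᵥ ((1 + c • E₁) *ᵥ w) = 0) : w = 0 := by
  have horth : star w ⬝ᵥ ((1 + c • E₁) *ᵥ w) = 0 := by
    have h1 := helper25_herm_dot E hEh w ((1 + c • E₁) *ᵥ w)
    rw [hw1, hw2, dotProduct_zero] at h1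
    exact h1
  have hnorm := helper25_unitary_dot (1 + c • E₁) hy w
  have h : (1 + c • E₁) *ᵥ w - w = c • (E₁ *ᵥ w) := by
    rw [Matrix.add_mulVec, Matrix.one_mulVec, Matrix.smul_mulVec, add_sub_cancel_left]
  exact orth_vec_zero E₁ hE₁ hE₁h w ((1 + c • E₁) *ᵥ w) horth hnorm c hc h

theorem helper25_left_inv {n : ℕ} (S : Matrix (Fin n) (Fin n) ℂ) (hS : Sᴴ * S = 1)
    (x : Fin n → ℂ) : Sᴴ *ᵥ (S *ᵥ x) = x := by
  rw [Matrix.mulVec_mulVec, hS, Matrix.one_mulVec]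

/-- Case B of `(*)`: `y' = s t'ᴴ`, `s = 1 + c E`, `t' = 1 + c E₂`. -/
theorem helper25_star_B {n : ℕ} (E E₂ S T : Matrix (Fin n) (Fin n) ℂ) (hEh : Eᴴ = E)
    (hE₂ : E₂ * E₂ = E₂) (hE₂h : E₂ᴴ = E₂) (c : ℂ) (hc : ‖c‖ < 1)
    (hSE : S = 1 + c • E) (hTE : T = 1 + c • E₂)
    (hs : Sᴴ * S = 1) (ht : Tᴴ * T = 1)
    (w : Fin n → ℂ) (hw1 : E *ᵥ w = w)
    (hw2 : E *ᵥ ((S * Tᴴ) *ᵥ w) = 0) : w = 0 := by
  have ht' : T * Tᴴ = 1 := mul_eq_one_comm.mp ht
  -- `u := y' w = S (Tᴴ w)`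
  have hu_def : (S * Tᴴ) *ᵥ w = S *ᵥ (Tᴴ *ᵥ w) := by
    rw [Matrix.mulVec_mulVec]
  -- `S u = u`
  have hsu : S *ᵥ ((S * Tᴴ) *ᵥ w) = (S * Tᴴ) *ᵥ w := by
    rw [hSE, Matrix.add_mulVec, Matrix.one_mulVec, Matrix.smul_mulVec, ← hSE, hw2, smul_zero,
      add_zero]
  -- `Tᴴ w = u`
  have htw : Tᴴ *ᵥ w = (S * Tᴴ) *ᵥ w := by
    have h1 : Sᴴ *ᵥ (S *ᵥ ((S * Tᴴ) *ᵥ w)) = Sᴴ *ᵥ ((S * Tᴴ) *ᵥ w) :=
      congrArg (fun x => Sᴴ *ᵥ x) hsu
    rw [helper25_left_inv S hs, hu_def, helper25_left_inv S hs] at h1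
    rw [hu_def]
    exact h1.symm
  -- `w = T u`
  have hw : w = T *ᵥ ((S * Tᴴ) *ᵥ w) := by
    rw [← htw, Matrix.mulVec_mulVec, ht', Matrix.one_mulVec]
  have horth : star ((S * Tᴴ) *ᵥ w) ⬝ᵥ w = 0 := by
    have h1 := helper25_herm_dot E hEh ((S * Tᴴ) *ᵥ w) w
    rw [hw1, hw2, star_zero, zero_dotProduct] at h1
    exact h1.symm
  have hyu : (S * Tᴴ)ᴴ * (S * Tᴴ) = 1 := by
    rw [Matrix.conjTranspose_mul, Matrix.conjTranspose_conjTranspose, Matrix.mul_assoc,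
      ← Matrix.mul_assoc Sᴴ, hs, Matrix.one_mul, ht']
  have hnorm := (helper25_unitary_dot _ hyu w).symm
  have h : w - (S * Tᴴ) *ᵥ w = c • (E₂ *ᵥ ((S * Tᴴ) *ᵥ w)) := by
    nth_rewrite 1 [hw]
    rw [hTE, Matrix.add_mulVec, Matrix.one_mulVec, Matrix.smul_mulVec, add_sub_cancel_left]
  have hu0 := orth_vec_zero E₂ hE₂ hE₂h ((S * Tᴴ) *ᵥ w) w horth hnorm c hc h
  rw [hw, hu0, Matrix.mulVec_zero]

/-! ### The projection of a two-eigenvalue unitary matrix -/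

theorem helper25_E_facts {n : ℕ} (s : Matrix (Fin n) (Fin n) ℂ) (hs : sᴴ * s = 1) (ω : ℂ)
    (hω : star ω * ω = 1) (hω1 : ω ≠ 1)
    (hz : (s - 1) * (s - ω • (1 : Matrix (Fin n) (Fin n) ℂ)) = 0) :
    s = 1 + (ω - 1) • ((ω - 1)⁻¹ • (s - 1)) ∧
    ((ω - 1)⁻¹ • (s - 1)) * ((ω - 1)⁻¹ • (s - 1)) = (ω - 1)⁻¹ • (s - 1) ∧
    ((ω - 1)⁻¹ • (s - 1))ᴴ = (ω - 1)⁻¹ • (s - 1) := by
  have hc0 : ω - 1 ≠ 0 := sub_ne_zero.mpr hω1
  have hσ1 : star ω - 1 ≠ 0 := by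
    intro h
    have h' : star ω = 1 := sub_eq_zero.mp h
    rw [h', one_mul] at hω
    exact hω1 hω
  refine ⟨?_, ?_, ?_⟩
  · rw [smul_smul, mul_inv_cancel₀ hc0, one_smul]
    abel
  · have h1 : (s - 1) * (s - 1) = (ω - 1) • (s - 1) := by
      have e : s - 1 = (s - ω • (1 : Matrix (Fin n) (Fin n) ℂ)) +
          (ω - 1) • (1 : Matrix (Fin n) (Fin n) ℂ) := by
        rw [sub_smul, one_smul]
        abel
      calc (s - 1) * (s - 1)
          = (s - 1) * ((s - ω • (1 : Matrix (Fin n) (Fin n) ℂ)) +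
              (ω - 1) • (1 : Matrix (Fin n) (Fin n) ℂ)) := by rw [← e]
        _ = (s - 1) * (s - ω • (1 : Matrix (Fin n) (Fin n) ℂ)) +
              (s - 1) * ((ω - 1) • (1 : Matrix (Fin n) (Fin n) ℂ)) := mul_add _ _ _
        _ = (ω - 1) • (s - 1) := by rw [hz, zero_add, Matrix.mul_smul, mul_one]
    rw [Matrix.smul_mul, Matrix.mul_smul, h1, smul_smul, smul_smul]
    congr 1
    field_simp
  · have e2 : sᴴ * ((s - 1) * (s - ω • (1 : Matrix (Fin n) (Fin n) ℂ))) =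
        s - ω • (1 : Matrix (Fin n) (Fin n) ℂ) - 1 + ω • sᴴ := by
      have a1 : sᴴ * (s - 1) = 1 - sᴴ := by rw [mul_sub, mul_one, hs]
      have a2 : sᴴ * (s - ω • (1 : Matrix (Fin n) (Fin n) ℂ)) = 1 - ω • sᴴ := by
        rw [mul_sub, hs, Matrix.mul_smul, mul_one]
      rw [← mul_assoc, a1, sub_mul, one_mul, a2]
      abel
    rw [hz, mul_zero] at e2
    have e3 : ω • (sᴴ - 1) = -(s - 1) := by
      rw [smul_sub]
      have : ω • sᴴ = -(s - ω • (1 : Matrix (Fin n) (Fin n) ℂ) - 1) := by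
        rw [eq_neg_iff_add_eq_zero, add_comm]
        exact e2.symm
      rw [this]
      abel
    have e4 : sᴴ - 1 = (-star ω) • (s - 1) := by
      have h2 := congrArg (fun M => star ω • M) e3
      simp only [smul_smul, hω, one_smul] at h2
      rw [h2, smul_neg, neg_smul]
    rw [Matrix.conjTranspose_smul, Matrix.conjTranspose_sub, Matrix.conjTranspose_one, e4,
      smul_smul]
    congr 1
    rw [star_inv₀, star_sub, star_one]
    field_simp
    linear_combination (-1 : ℂ) * hω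

theorem helper25_conj_facts {n : ℕ} (E V : Matrix (Fin n) (Fin n) ℂ) (hE : E * E = E)
    (hEh : Eᴴ = E) (hV : Vᴴ * V = 1) :
    (V * E * Vᴴ) * (V * E * Vᴴ) = V * E * Vᴴ ∧ (V * E * Vᴴ)ᴴ = V * E * Vᴴ := by
  constructor
  · calc (V * E * Vᴴ) * (V * E * Vᴴ) = V * E * (Vᴴ * V) * E * Vᴴ := by
          simp only [Matrix.mul_assoc]
      _ = V * E * Vᴴ := by rw [hV, Matrix.mul_one, Matrix.mul_assoc V E E, hE]
  · rw [Matrix.conjTranspose_mul, Matrix.conjTranspose_mul, Matrix.conjTranspose_conjTranspose,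
      hEh, Matrix.mul_assoc]

theorem helper25_conj_s {n : ℕ} (E V : Matrix (Fin n) (Fin n) ℂ) (c : ℂ) (hV : V * Vᴴ = 1) :
    V * (1 + c • E) * Vᴴ = 1 + c • (V * E * Vᴴ) := by
  rw [mul_add, mul_one, add_mul, hV, Matrix.mul_smul, Matrix.smul_mul]

/-! ### Commutation lemmas for unitary matrices -/

theorem helper25_comm_of_commutator {n : ℕ} (a b : Matrix (Fin n) (Fin n) ℂ) (ha : aᴴ * a = 1)
    (hb : bᴴ * b = 1) (h : a * b * aᴴ * bᴴ = 1) : a * b = b * a := by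
  calc a * b = a * b * (aᴴ * (bᴴ * b) * a) := by rw [hb, Matrix.mul_one, ha, Matrix.mul_one]
    _ = (a * b * aᴴ * bᴴ) * (b * a) := by simp only [Matrix.mul_assoc]
    _ = b * a := by rw [h, Matrix.one_mul]

theorem helper25_comm_of_comm_star {n : ℕ} (s t : Matrix (Fin n) (Fin n) ℂ) (hs : sᴴ * s = 1)
    (ht : tᴴ * t = 1) (h : s * (s * tᴴ) = (s * tᴴ) * s) : s * t = t * s := by
  have ht' : t * tᴴ = 1 := mul_eq_one_comm.mp ht
  have h1 : s * tᴴ = tᴴ * s := by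
    calc s * tᴴ = (sᴴ * s) * (s * tᴴ) := by rw [hs, Matrix.one_mul]
      _ = sᴴ * (s * (s * tᴴ)) := by rw [Matrix.mul_assoc]
      _ = sᴴ * ((s * tᴴ) * s) := by rw [h]
      _ = (sᴴ * s) * tᴴ * s := by simp only [Matrix.mul_assoc]
      _ = tᴴ * s := by rw [hs, Matrix.one_mul]
  calc s * t = (t * tᴴ) * s * t := by rw [ht', Matrix.one_mul]
    _ = t * (tᴴ * s) * t := by simp only [Matrix.mul_assoc]
    _ = t * (s * tᴴ) * t := by rw [h1]
    _ = t * s * (tᴴ * t) := by simp only [Matrix.mul_assoc]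
    _ = t * s := by rw [ht, Matrix.mul_one]

theorem helper25_comm_of_smul {n : ℕ} (A B : Matrix (Fin n) (Fin n) ℂ) (c : ℂ) (hc0 : c ≠ 0)
    (h : (1 + c • A) * (1 + c • B) = (1 + c • B) * (1 + c • A)) : A * B = B * A := by
  have e1 : (1 + c • A) * (1 + c • B) = 1 + c • A + c • B + (c * c) • (A * B) := by
    simp only [mul_add, add_mul, mul_one, one_mul, Matrix.smul_mul, Matrix.mul_smul, smul_smul]
    abel
  have e2 : (1 + c • B) * (1 + c • A) = 1 + c • A + c • B + (c * c) • (B * A) := by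
    simp only [mul_add, add_mul, mul_one, one_mul, Matrix.smul_mul, Matrix.mul_smul, smul_smul]
    abel
  rw [e1, e2] at h
  have h2 : (c * c) • (A * B) = (c * c) • (B * A) := add_left_cancel h
  exact smul_right_injective _ (mul_ne_zero hc0 hc0) h2

/-! ### Contraction and descent -/

theorem helper25_contract {n : ℕ} (E s y : Matrix (Fin n) (Fin n) ℂ) (hE : E * E = E)
    (hEh : Eᴴ = E) (c : ℂ) (hsE : s = 1 + c • E) (hs : sᴴ * s = 1) (hy : yᴴ * y = 1) :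
    (((s * y * sᴴ * yᴴ - 1)ᴴ * (s * y * sᴴ * yᴴ - 1)).trace).re ≤
      Complex.normSq c * (((y - 1)ᴴ * (y - 1)).trace).re := by
  have hs' : s * sᴴ = 1 := mul_eq_one_comm.mp hs
  have hy' : y * yᴴ = 1 := mul_eq_one_comm.mp hy
  have e1 : s * y * sᴴ * yᴴ - 1 = (s * y - y * s) * (sᴴ * yᴴ) := by
    have h1 : y * s * (sᴴ * yᴴ) = 1 := by
      rw [Matrix.mul_assoc y s, ← Matrix.mul_assoc s sᴴ, hs', Matrix.one_mul, hy']
    rw [sub_mul, h1]
    simp only [Matrix.mul_assoc]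
  have e2 : s * y - y * s = c • (E * (y - 1) - (y - 1) * E) := by
    rw [hsE]
    simp only [add_mul, mul_add, one_mul, mul_one, Matrix.smul_mul, Matrix.mul_smul, mul_sub,
      sub_mul, smul_sub]
    abel
  have hW : (sᴴ * yᴴ) * (sᴴ * yᴴ)ᴴ = 1 := by
    rw [Matrix.conjTranspose_mul, Matrix.conjTranspose_conjTranspose,
      Matrix.conjTranspose_conjTranspose, Matrix.mul_assoc, ← Matrix.mul_assoc yᴴ, hy,
      Matrix.one_mul, hs]
  rw [e1, helper25_nu_mul_unitary _ _ hW, e2, helper25_nu_smul]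
  exact mul_le_mul_of_nonneg_left (herm_idem_comm_le E (y - 1) hE hEh) (Complex.normSq_nonneg c)

theorem helper25_descent {n : ℕ} (E s y' : Matrix (Fin n) (Fin n) ℂ) (hE : E * E = E)
    (hEh : Eᴴ = E) (c : ℂ) (hc0 : c ≠ 0) (hsE : s = 1 + c • E) (hs : sᴴ * s = 1)
    (hy' : y'ᴴ * y' = 1)
    (hstar : ∀ w : Fin n → ℂ, E *ᵥ w = w → E *ᵥ (y' *ᵥ w) = 0 → w = 0)
    (h1 : s * (s * y' * sᴴ * y'ᴴ) * sᴴ * (s * y' * sᴴ * y'ᴴ)ᴴ = 1) :
    s * y' * sᴴ * y'ᴴ = 1 := by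
  have hs' : s * sᴴ = 1 := mul_eq_one_comm.mp hs
  have hyy : y' * y'ᴴ = 1 := mul_eq_one_comm.mp hy'
  obtain ⟨t, ht_def⟩ : ∃ t, t = y' * s * y'ᴴ := ⟨_, rfl⟩
  have htH : tᴴ = y' * sᴴ * y'ᴴ := by
    rw [ht_def, Matrix.conjTranspose_mul, Matrix.conjTranspose_mul,
      Matrix.conjTranspose_conjTranspose, Matrix.mul_assoc]
  have ht : tᴴ * t = 1 := by
    rw [htH, ht_def]
    calc y' * sᴴ * y'ᴴ * (y' * s * y'ᴴ) = y' * sᴴ * (y'ᴴ * y') * s * y'ᴴ := by
          simp only [Matrix.mul_assoc]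
      _ = 1 := by rw [hy', Matrix.mul_one, Matrix.mul_assoc y' sᴴ s, hs, Matrix.mul_one, hyy]
  have ht' : t * tᴴ = 1 := mul_eq_one_comm.mp ht
  have hy_eq : s * y' * sᴴ * y'ᴴ = s * tᴴ := by
    rw [htH]
    simp only [Matrix.mul_assoc]
  rw [hy_eq] at h1 ⊢
  have hyu : (s * tᴴ)ᴴ * (s * tᴴ) = 1 := by
    rw [Matrix.conjTranspose_mul, Matrix.conjTranspose_conjTranspose, Matrix.mul_assoc,
      ← Matrix.mul_assoc sᴴ, hs, Matrix.one_mul, ht']
  have hc1 := helper25_comm_of_commutator s (s * tᴴ) hs hyu h1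
  have hc2 := helper25_comm_of_comm_star s t hs ht hc1
  -- `t = 1 + c E'`
  have hE' := helper25_conj_facts E y' hE hEh hy'
  have htE : t = 1 + c • (y' * E * y'ᴴ) := by
    rw [ht_def, hsE, helper25_conj_s E y' c hyy]
  have hcomm : E * (y' * E * y'ᴴ) = (y' * E * y'ᴴ) * E := by
    apply helper25_comm_of_smul E (y' * E * y'ᴴ) c hc0
    rw [← hsE, ← htE]
    exact hc2
  have hEE := proj_eq_of_commute E (y' * E * y'ᴴ) y' y'ᴴ hE hEh hE'.2 hyy rfl hcomm hstar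
  have hts : t = s := by rw [htE, hEE, ← hsE]
  rw [hts, hs']

/-! ### The theorem -/

/-- FB (Frobenius–Blichfeldt for a two-eigenvalue element), racing copy of `fb_commute`. -/
theorem helper25_fb_commute {G : Type u} [Group G] [Finite G] {n : ℕ}
    (U : G →* Matrix (Fin n) (Fin n) ℂ)
    (hU : ∀ g : G, (U g)ᴴ * U g = 1) (z : G) (ω : ℂ) (hω : star ω * ω = 1) (hω1 : ω ≠ 1)
    (hr : ‖ω - 1‖ < 1) (hz : (U z - 1) * (U z - ω • (1 : Matrix (Fin n) (Fin n) ℂ)) = 0) (g : G) :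
    U z * U (g * z * g⁻¹) = U (g * z * g⁻¹) * U z := by
  have hc0 : ω - 1 ≠ 0 := sub_ne_zero.mpr hω1
  obtain ⟨hsE, hE, hEh⟩ := helper25_E_facts (U z) (hU z) ω hω hω1 hz
  obtain ⟨E, hE_def⟩ : ∃ E, E = (ω - 1)⁻¹ • (U z - 1) := ⟨_, rfl⟩
  rw [← hE_def] at hsE hE hEh
  have hU' : ∀ x : G, U x * (U x)ᴴ = 1 := fun x => mul_eq_one_comm.mp (hU x)
  have hUi : ∀ x : G, U x⁻¹ = (U x)ᴴ := by
    intro x
    have h1 : U x * U x⁻¹ = 1 := by rw [← map_mul, mul_inv_cancel, map_one]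
    calc U x⁻¹ = ((U x)ᴴ * U x) * U x⁻¹ := by rw [hU x, Matrix.one_mul]
      _ = (U x)ᴴ * (U x * U x⁻¹) := by rw [Matrix.mul_assoc]
      _ = (U x)ᴴ := by rw [h1, Matrix.mul_one]
  -- conjugates of `z`
  have hconj : ∀ x : G, U (x * z * x⁻¹) = 1 + (ω - 1) • (U x * E * (U x)ᴴ) := by
    intro x
    rw [map_mul, map_mul, hUi]
    nth_rewrite 1 [hsE]
    exact helper25_conj_s E (U x) (ω - 1) (hU' x)
  -- the sequence of iterated commutators
  obtain ⟨cs, hcs0, hcs⟩ : ∃ cs : ℕ → G, cs 0 = g * z * g⁻¹ ∧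
      ∀ k, cs (k + 1) = z * cs k * z⁻¹ * (cs k)⁻¹ :=
    ⟨fun k => Nat.rec (g * z * g⁻¹) (fun _ c => z * c * z⁻¹ * c⁻¹) k, rfl, fun _ => rfl⟩
  have hy : ∀ k, U (cs (k + 1)) = U z * U (cs k) * (U z)ᴴ * (U (cs k))ᴴ := by
    intro k
    rw [hcs, map_mul, map_mul, map_mul, hUi, hUi]
  -- contraction
  have hρ0 : 0 ≤ Complex.normSq (ω - 1) := Complex.normSq_nonneg _
  have hρ1 : Complex.normSq (ω - 1) < 1 := by
    rw [Complex.normSq_eq_norm_sq]
    have := norm_nonneg (ω - 1)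
    nlinarith
  have hf : ∀ k, (((U (cs (k + 1)) - 1)ᴴ * (U (cs (k + 1)) - 1)).trace).re ≤
      Complex.normSq (ω - 1) * (((U (cs k) - 1)ᴴ * (U (cs k) - 1)).trace).re := by
    intro k
    rw [hy k]
    exact helper25_contract E (U z) (U (cs k)) hE hEh (ω - 1) hsE (hU z) (hU (cs k))
  have hf0 : ∀ k, 0 ≤ (((U (cs k) - 1)ᴴ * (U (cs k) - 1)).trace).re :=
    fun k => helper81_nu_nonneg _
  -- repetition
  obtain ⟨i, j, hij, hcij⟩ : ∃ i j, i < j ∧ cs i = cs j := by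
    obtain ⟨a, b, hab, he⟩ := Finite.exists_ne_map_eq_of_infinite cs
    rcases lt_or_gt_of_ne hab with h | h
    · exact ⟨a, b, h, he⟩
    · exact ⟨b, a, h, he.symm⟩
  have hpow : ∀ d, (((U (cs (i + d)) - 1)ᴴ * (U (cs (i + d)) - 1)).trace).re ≤
      Complex.normSq (ω - 1) ^ d * (((U (cs i) - 1)ᴴ * (U (cs i) - 1)).trace).re := by
    intro d
    induction d with
    | zero => simp
    | succ d ih =>
      calc (((U (cs (i + (d + 1))) - 1)ᴴ * (U (cs (i + (d + 1))) - 1)).trace).re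
          ≤ Complex.normSq (ω - 1) *
              (((U (cs (i + d)) - 1)ᴴ * (U (cs (i + d)) - 1)).trace).re := hf (i + d)
        _ ≤ Complex.normSq (ω - 1) * (Complex.normSq (ω - 1) ^ d *
              (((U (cs i) - 1)ᴴ * (U (cs i) - 1)).trace).re) :=
            mul_le_mul_of_nonneg_left ih hρ0
        _ = Complex.normSq (ω - 1) ^ (d + 1) *
              (((U (cs i) - 1)ᴴ * (U (cs i) - 1)).trace).re := by ring
  have hK : U (cs i) = 1 := by
    have h1 := hpow (j - i)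
    have e : i + (j - i) = j := by omega
    rw [e, ← hcij] at h1
    have h3 : Complex.normSq (ω - 1) ^ (j - i) ≤ Complex.normSq (ω - 1) := by
      calc Complex.normSq (ω - 1) ^ (j - i) ≤ Complex.normSq (ω - 1) ^ 1 :=
            pow_le_pow_of_le_one hρ0 hρ1.le (by omega)
        _ = Complex.normSq (ω - 1) := pow_one _
    have h4 := hf0 i
    have h5 : (((U (cs i) - 1)ᴴ * (U (cs i) - 1)).trace).re ≤ 0 := by nlinarith
    exact sub_eq_zero.mp (helper25_eq_zero_of_nu _ h5)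
  -- descent
  have hdesc : ∀ k, U (cs (k + 1 + 1)) = 1 → U (cs (k + 1)) = 1 := by
    intro k h1
    rw [hy (k + 1), hy k] at h1
    rw [hy k]
    apply helper25_descent E (U z) (U (cs k)) hE hEh (ω - 1) hc0 hsE (hU z) (hU (cs k)) ?_ h1
    intro w hw1 hw2
    cases k with
    | zero =>
      rw [hcs0, hconj g] at hw2
      have hEg := helper25_conj_facts E (U g) hE hEh (hU g)
      have hyg : (1 + (ω - 1) • (U g * E * (U g)ᴴ))ᴴ * (1 + (ω - 1) • (U g * E * (U g)ᴴ)) = 1 := by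
        rw [← hconj g]
        exact hU _
      exact helper25_star_A E (U g * E * (U g)ᴴ) hEh hEg.1 hEg.2 (ω - 1) hr hyg w hw1 hw2
    | succ k =>
      have hE2 := helper25_conj_facts E (U (cs k)) hE hEh (hU (cs k))
      obtain ⟨T, hT_def⟩ : ∃ T, T = U (cs k) * U z * (U (cs k))ᴴ := ⟨_, rfl⟩
      have hTE : T = 1 + (ω - 1) • (U (cs k) * E * (U (cs k))ᴴ) := by
        rw [hT_def]
        nth_rewrite 1 [hsE]
        exact helper25_conj_s E (U (cs k)) (ω - 1) (hU' (cs k))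
      have hTH : Tᴴ = U (cs k) * (U z)ᴴ * (U (cs k))ᴴ := by
        rw [hT_def, Matrix.conjTranspose_mul, Matrix.conjTranspose_mul,
          Matrix.conjTranspose_conjTranspose, Matrix.mul_assoc]
      have hT : Tᴴ * T = 1 := by
        rw [hTH, hT_def]
        calc U (cs k) * (U z)ᴴ * (U (cs k))ᴴ * (U (cs k) * U z * (U (cs k))ᴴ)
            = U (cs k) * (U z)ᴴ * ((U (cs k))ᴴ * U (cs k)) * U z * (U (cs k))ᴴ := by
              simp only [Matrix.mul_assoc]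
          _ = 1 := by
              rw [hU (cs k), Matrix.mul_one, Matrix.mul_assoc (U (cs k)) (U z)ᴴ (U z), hU z,
                Matrix.mul_one, hU' (cs k)]
      have hyk : U (cs (k + 1)) = U z * Tᴴ := by
        rw [hy k, hTH]
        simp only [Matrix.mul_assoc]
      rw [hyk] at hw2
      exact helper25_star_B E (U (cs k) * E * (U (cs k))ᴴ) (U z) T hEh hE2.1 hE2.2 (ω - 1) hr
        hsE hTE (hU z) hT w hw1 hw2
  -- conclusion
  by_cases hi0 : i = 0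
  · rw [hi0, hcs0] at hK
    rw [hK, Matrix.mul_one, Matrix.one_mul]
  · have hall : ∀ d, d < i → U (cs (i - d)) = 1 := by
      intro d
      induction d with
      | zero =>
        intro _
        simpa using hK
      | succ d ih =>
        intro hd
        have h1 := ih (by omega)
        have e : i - d = (i - (d + 1) - 1) + 1 + 1 := by omega
        have e' : i - (d + 1) = (i - (d + 1) - 1) + 1 := by omega
        rw [e] at h1
        rw [e']
        exact hdesc _ h1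
    have h1 := hall (i - 1) (by omega)
    have e : i - (i - 1) = 0 + 1 := by omega
    rw [e, hy 0, hcs0] at h1
    exact helper25_comm_of_commutator (U z) (U (g * z * g⁻¹)) (hU z) (hU _) h1

end Cfsg.Agent.Lib.helper68.BL
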