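import Mathlib
import Cfsg.Prelude.Def_Characters
import Cfsg.Prelude.Def_Blocks
import Cfsg.Agent.S0948
import Cfsg.Agent.S4479
import Cfsg.Agent.S4480
import Cfsg.Agent.Lib.helper76.KazCore
import Cfsg.Agent.Lib.helper81.CharOrtho

/-! S4501 split, piece SET: the principal 2-block `{1, ζ₂, ζ₃, ζ₄}` of a simple group with Klein
four Sylow 2-subgroups (landed S0948) and Brauer's order formulas (landed S4479, S4480), in `ℕ`. -/

set_option autoImplicit false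

namespace Cfsg.Agent.Lib.helper25.BW

open Cfsg

universe u

variable {G : Type u} [Group G] [Finite G]

/-- SET : the principal 2-block `{1, ζ₂, ζ₃, ζ₄}` (landed S0948) and Brauer's order formulas
(landed S4479, S4480), in `ℕ`; `cJ = |C(J)|`, `cP = |C(P)|`. -/
theorem k4_setup [IsSimpleGroup G] (hna : ∃ x y : G, x * y ≠ y * x) (g₀ : ℕ) (hodd : Odd g₀)
    (hG : Nat.card G = 4 * g₀) (P : Sylow 2 G) (hP : IsKleinFour (P : Subgroup G))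
    (hone : ∀ s t : G, orderOf s = 2 → orderOf t = 2 → IsConj s t) :
    ∃ (ζ₂ ζ₃ ζ₄ : IrrCharacter G) (cJ cP : ℕ),
      (ζ₂ : G → ℂ) ≠ (fun _ => 1) ∧ (ζ₃ : G → ℂ) ≠ (fun _ => 1) ∧
      (ζ₄ : G → ℂ) ≠ (fun _ => 1) ∧ cJ ∣ 4 * g₀ ∧ 4 ∣ cP ∧
      ((charDegree (ζ₂ : G → ℂ) % 4 = 1 ∧ charDegree (ζ₃ : G → ℂ) % 4 = 1 ∧
          charDegree (ζ₄ : G → ℂ) % 4 = 3 ∧
          charDegree (ζ₄ : G → ℂ) = 1 + charDegree (ζ₂ : G → ℂ) + charDegree (ζ₃ : G → ℂ) ∧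
          ∃ m : ℕ, 4 * cJ = m * cP * (charDegree (ζ₄ : G → ℂ) + 1) ∧
            8 * (4 * g₀) = m ^ 3 * cP *
              (charDegree (ζ₄ : G → ℂ) ^ 3 - charDegree (ζ₄ : G → ℂ))) ∨
        (charDegree (ζ₂ : G → ℂ) % 4 = 1 ∧ charDegree (ζ₃ : G → ℂ) % 4 = 3 ∧
          charDegree (ζ₄ : G → ℂ) % 4 = 3 ∧
          1 + charDegree (ζ₂ : G → ℂ) = charDegree (ζ₃ : G → ℂ) + charDegree (ζ₄ : G → ℂ) ∧
          (4 * g₀) * ((charDegree (ζ₂ : G → ℂ) + 1) * (charDegree (ζ₃ : G → ℂ) - 1) *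
              (charDegree (ζ₄ : G → ℂ) - 1)) * cP ^ 2
            = 8 * (charDegree (ζ₂ : G → ℂ) * charDegree (ζ₃ : G → ℂ) *
              charDegree (ζ₄ : G → ℂ)) * cJ ^ 3)) := by
  classical
  obtain ⟨M, hM⟩ := Cfsg.Agent.Lib.helper76.exists_isPModular 2 Nat.prime_two
  obtain ⟨ζ₂, ζ₃, ζ₄, ε, hε, h2ne, h3ne, h23, h24, h34, hB, hval, hA4, hB4, hC4, hrel⟩ :=
    Cfsg.Agent.S0948.result M hM P hP hone
  -- an involution of `P`
  have hP4 : Nat.card (P : Subgroup G) = 4 := hP.card_four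
  obtain ⟨J, hJP, hJ1⟩ : ∃ z ∈ (P : Subgroup G), z ≠ 1 := by
    by_contra hcon
    push Not at hcon
    have hbot : (P : Subgroup G) = ⊥ := (Subgroup.eq_bot_iff_forall _).mpr hcon
    rw [hbot, Subgroup.card_bot] at hP4
    omega
  have hJ2 : orderOf J = 2 :=
    orderOf_eq_prime (by rw [pow_two]; exact Cfsg.Agent.Lib.helper4.klein_mul_self _ hP J hJP) hJ1
  obtain ⟨hv2, hv3, hv4⟩ := hval J hJ2
  have h4ne : (ζ₄ : G → ℂ) ≠ fun _ => 1 := by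
    intro h
    rw [h] at hv4
    norm_num at hv4
  -- no normal complement
  have hnc : ¬ ∃ N : Subgroup G, N.Normal ∧ Nat.card N = g₀ := by
    rintro ⟨N, hN, hNc⟩
    have hpos : 0 < Nat.card G := Nat.card_pos
    rcases hN.eq_bot_or_eq_top with h | h
    · rw [h, Subgroup.card_bot] at hNc
      have h4 : Nat.card G = 2 ^ 2 := by rw [hG, ← hNc]; norm_num
      have : Fact (Nat.Prime 2) := ⟨Nat.prime_two⟩
      obtain ⟨x, y, hxy⟩ := hna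
      exact hxy ((IsPGroup.isMulCommutative_of_card_eq_prime_sq h4).is_comm.comm x y)
    · rw [h, Subgroup.card_top, hG] at hNc
      omega
  -- the degrees
  obtain ⟨A, hA⟩ : ∃ A : ℕ, A = charDegree (ζ₂ : G → ℂ) := ⟨_, rfl⟩
  obtain ⟨B, hB'⟩ : ∃ B : ℕ, B = charDegree (ζ₃ : G → ℂ) := ⟨_, rfl⟩
  obtain ⟨C, hC⟩ : ∃ C : ℕ, C = charDegree (ζ₄ : G → ℂ) := ⟨_, rfl⟩
  have hdeg : ∀ ζ : IrrCharacter G, (ζ : G → ℂ) 1 = (charDegree (ζ : G → ℂ) : ℂ) :=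
    Cfsg.Agent.Lib.helper81.irr_one_eq_charDegree
  have hrel1 : (1 : ℤ) + A + ε * B - C = 0 := by
    have h := hrel 1 (by rw [orderOf_one]; exact odd_one)
    rw [hdeg, hdeg, hdeg, ← hA, ← hB', ← hC] at h
    have h' : (((1 : ℤ) + A + ε * B - C : ℤ) : ℂ) = 0 := by
      push_cast
      exact h
    exact_mod_cast h'
  obtain ⟨cJ, hcJ⟩ : ∃ cJ : ℕ, cJ = Nat.card (Subgroup.centralizer ({J} : Set G)) := ⟨_, rfl⟩
  obtain ⟨cP, hcP⟩ : ∃ cP : ℕ,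
      cP = Nat.card (Subgroup.centralizer ((P : Subgroup G) : Set G)) := ⟨_, rfl⟩
  have hcJd : cJ ∣ 4 * g₀ := by
    rw [hcJ, ← hG]
    exact Subgroup.card_subgroup_dvd_card _
  have hcPd : 4 ∣ cP := by
    rw [hcP, ← hP4]
    apply Subgroup.card_dvd_of_le
    intro x hx
    rw [Subgroup.mem_centralizer_iff]
    intro y hy
    have hxx := Cfsg.Agent.Lib.helper4.klein_mul_self _ hP x hx
    have hyy := Cfsg.Agent.Lib.helper4.klein_mul_self _ hP y hy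
    have hxy := Cfsg.Agent.Lib.helper4.klein_mul_self _ hP (x * y)
      ((P : Subgroup G).mul_mem hx hy)
    have hxi : x⁻¹ = x := inv_eq_of_mul_eq_one_left hxx
    have hyi : y⁻¹ = y := inv_eq_of_mul_eq_one_left hyy
    have hxyi : (x * y)⁻¹ = x * y := inv_eq_of_mul_eq_one_left hxy
    calc y * x = y⁻¹ * x⁻¹ := by rw [hxi, hyi]
      _ = (x * y)⁻¹ := (mul_inv_rev x y).symm
      _ = x * y := hxyi
  have hcP0 : 0 < cP := by
    rw [hcP]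
    exact Nat.card_pos
  have hAm : A % 4 = 1 := by
    rw [← hA] at hA4
    obtain ⟨k, hk⟩ := hA4
    omega
  have hCm : C % 4 = 3 := by
    rw [← hC] at hC4
    obtain ⟨k, hk⟩ := hC4
    omega
  rw [← hB'] at hB4
  refine ⟨ζ₂, ζ₃, ζ₄, cJ, cP, h2ne, h3ne, h4ne, hcJd, hcPd, ?_⟩
  rw [← hA, ← hB', ← hC]
  rcases hε with rfl | rfl
  · -- sign `+`
    left
    have hBm : B % 4 = 1 := by
      obtain ⟨k, hk⟩ := hB4
      omega
    obtain ⟨m, hm1, hm2⟩ := Cfsg.Agent.S4480.result M hM g₀ hodd hG hnc P J hJP hJ2 ζ₂ ζ₃ ζ₄ 1 1 (-1)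
      hB ⟨h2ne, h3ne, h4ne, h23, h24, h34⟩ ⟨Or.inl rfl, Or.inl rfl, Or.inr rfl⟩
      ⟨by rw [hv2]; norm_num, hv3, by rw [hv4]; norm_num⟩ (by norm_num) rfl
    rw [← hcJ, ← hcP, ← hC] at hm1
    rw [← hcP, ← hC, hG] at hm2
    exact ⟨hAm, hBm, hCm, by omega, m, hm1, hm2⟩
  · -- sign `-`
    right
    have hBm : B % 4 = 3 := by
      obtain ⟨k, hk⟩ := hB4
      omega
    have hS := Cfsg.Agent.S4479.result M hM g₀ hodd hG hnc P J hJP hJ2 ζ₂ ζ₃ ζ₄ 1 (-1) (-1)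
      hB ⟨h2ne, h3ne, h4ne, h23, h24, h34⟩ ⟨Or.inl rfl, Or.inr rfl, Or.inr rfl⟩
      ⟨by rw [hv2]; norm_num, hv3, by rw [hv4]; norm_num⟩
    rw [← hcJ, ← hcP, ← hA, ← hB', ← hC, hG] at hS
    push_cast at hS
    refine ⟨hAm, hBm, hCm, by omega, ?_⟩
    have hA0 : ((A : ℚ) + 1) ≠ 0 := by positivity
    have hB0 : ((B : ℚ) + -1) ≠ 0 := by
      have : (3 : ℚ) ≤ (B : ℚ) := by exact_mod_cast (by omega : 3 ≤ B)
      linarith
    have hC0 : ((C : ℚ) + -1) ≠ 0 := by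
      have : (3 : ℚ) ≤ (C : ℚ) := by exact_mod_cast (by omega : 3 ≤ C)
      linarith
    have hP0 : (cP : ℚ) ≠ 0 := by exact_mod_cast hcP0.ne'
    have e : (4 * (g₀ : ℚ)) * (((A : ℚ) + 1) * ((B : ℚ) + -1) * ((C : ℚ) + -1)) * (cP : ℚ) ^ 2
        = 8 * ((A : ℚ) * B * C) * (cJ : ℚ) ^ 3 := by
      rw [hS]
      field_simp
    have hBc : ((B - 1 : ℕ) : ℚ) = (B : ℚ) - 1 := by
      rw [Nat.cast_sub (by omega)]
      simp
    have hCc : ((C - 1 : ℕ) : ℚ) = (C : ℚ) - 1 := by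
      rw [Nat.cast_sub (by omega)]
      simp
    apply Nat.cast_injective (R := ℚ)
    push_cast
    rw [hBc, hCc]
    linear_combination e

end Cfsg.Agent.Lib.helper25.BW
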