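import Mathlib
import Cfsg.Agent.Lib.helper82.CharInt

/-!
Piece P5 for S4427: the class function `cf ι` attached to an idempotent `ι` of the complex group
algebra is the character of the left ideal `ℂG ι` (up to inversion): `cf ι g⁻¹ = conj (cf ι g)`,
and `cf ι g = cf ι 1` iff `g` acts trivially on `ℂG ι`.
-/

set_option autoImplicit false

namespace Cfsg.Agent.Lib.helper25

open scoped ComplexConjugate

noncomputable def cf {G : Type*} [Group G] [Fintype G] (ι : MonoidAlgebra ℂ G) (g : G) : ℂ :=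
  ∑ h : G, ι.coeff (h⁻¹ * g * h)

section

variable {G : Type*} [Group G] [Fintype G]

/-- The representation `x ↦ g x ι + x (1 - ι)` of `G` on `ℂG`. -/
noncomputable def idemRep (ι : MonoidAlgebra ℂ G) (hidem : ι * ι = ι) :
    Representation ℂ G (MonoidAlgebra ℂ G) where
  toFun g := LinearMap.mulLeft ℂ (MonoidAlgebra.single g (1 : ℂ)) ∘ₗ LinearMap.mulRight ℂ ι +
    LinearMap.mulRight ℂ (1 - ι)
  map_one' := by
    apply LinearMap.ext
    intro x
    simp only [LinearMap.add_apply, LinearMap.comp_apply, LinearMap.mulLeft_apply,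
      LinearMap.mulRight_apply, Module.End.one_apply]
    rw [← MonoidAlgebra.one_def, one_mul, mul_sub, mul_one]
    abel
  map_mul' g h := by
    apply LinearMap.ext
    intro x
    simp only [LinearMap.add_apply, LinearMap.comp_apply, LinearMap.mulLeft_apply,
      LinearMap.mulRight_apply, Module.End.mul_apply]
    have h1 : MonoidAlgebra.single (g * h) (1 : ℂ) =
        MonoidAlgebra.single g (1 : ℂ) * MonoidAlgebra.single h (1 : ℂ) := by
      rw [MonoidAlgebra.single_mul_single, one_mul]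
    have h2 : (1 - ι) * ι = 0 := by rw [sub_mul, one_mul, hidem, sub_self]
    have h3 : ι * (1 - ι) = 0 := by rw [mul_sub, mul_one, hidem, sub_self]
    have h4 : (1 - ι) * (1 - ι) = 1 - ι := by rw [mul_sub, mul_one, h2, sub_zero]
    rw [h1]
    simp only [add_mul, mul_assoc, hidem, h2, h3, h4, mul_zero, add_zero, zero_add]

omit [Fintype G] in
theorem idemRep_apply (ι : MonoidAlgebra ℂ G) (hidem : ι * ι = ι) (g : G)
    (x : MonoidAlgebra ℂ G) :
    idemRep ι hidem g x = MonoidAlgebra.single g (1 : ℂ) * (x * ι) + x * (1 - ι) := rfl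

theorem idemRep_character (ι : MonoidAlgebra ℂ G) (hidem : ι * ι = ι) (g : G) :
    (idemRep ι hidem).character g = cf ι g⁻¹ +
      LinearMap.trace ℂ (MonoidAlgebra ℂ G) (LinearMap.mulRight ℂ (1 - ι)) := by
  classical
  have hdef : (idemRep ι hidem).character g = LinearMap.trace ℂ (MonoidAlgebra ℂ G)
      (LinearMap.mulLeft ℂ (MonoidAlgebra.single g (1 : ℂ)) ∘ₗ LinearMap.mulRight ℂ ι +
        LinearMap.mulRight ℂ (1 - ι)) := rfl
  rw [hdef, map_add]
  congr 1
  rw [LinearMap.trace_eq_matrix_trace ℂ (MonoidAlgebra.basis G ℂ), Matrix.trace, cf]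
  apply Finset.sum_congr rfl
  intro h _
  rw [Matrix.diag_apply, LinearMap.toMatrix_apply, MonoidAlgebra.basis_apply,
    LinearMap.comp_apply, LinearMap.mulLeft_apply, LinearMap.mulRight_apply]
  show (MonoidAlgebra.single g (1 : ℂ) * (MonoidAlgebra.single h (1 : ℂ) * ι)).coeff h = _
  rw [MonoidAlgebra.coeff_single_mul_apply, one_mul, MonoidAlgebra.coeff_single_mul_apply, one_mul,
    ← mul_assoc]

theorem trace_mulRight_conj (ι : MonoidAlgebra ℂ G) (hidem : ι * ι = ι) :
    conj (LinearMap.trace ℂ (MonoidAlgebra ℂ G) (LinearMap.mulRight ℂ (1 - ι))) =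
      LinearMap.trace ℂ (MonoidAlgebra ℂ G) (LinearMap.mulRight ℂ (1 - ι)) := by
  have hfd : Module.Finite ℂ (MonoidAlgebra ℂ G) := Module.Finite.of_basis (MonoidAlgebra.basis G ℂ)
  have h2 : (1 - ι) * ι = 0 := by rw [sub_mul, one_mul, hidem, sub_self]
  have h4 : (1 - ι) * (1 - ι) = 1 - ι := by rw [mul_sub, mul_one, h2, sub_zero]
  have hLidem : IsIdempotentElem (LinearMap.mulRight ℂ (1 - ι) : Module.End ℂ (MonoidAlgebra ℂ G)) := by
    show LinearMap.mulRight ℂ (1 - ι) * LinearMap.mulRight ℂ (1 - ι) = LinearMap.mulRight ℂ (1 - ι)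
    apply LinearMap.ext
    intro x
    simp only [Module.End.mul_apply, LinearMap.mulRight_apply, mul_assoc, h4]
  have hproj := LinearMap.IsIdempotentElem.isProj_range _ hLidem
  have htr := LinearMap.IsProj.trace hproj
  rw [htr]
  simp

theorem cf_inv (ι : MonoidAlgebra ℂ G) (hidem : ι * ι = ι) (g : G) :
    cf ι g⁻¹ = conj (cf ι g) := by
  have hfd : Module.Finite ℂ (MonoidAlgebra ℂ G) := Module.Finite.of_basis (MonoidAlgebra.basis G ℂ)
  have h1 := Cfsg.Agent.Lib.helper82.char_inv (idemRep ι hidem) g⁻¹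
  rw [idemRep_character, idemRep_character, map_add, trace_mulRight_conj ι hidem] at h1
  simp only [inv_inv] at h1
  exact add_right_cancel h1

theorem cf_eq_one_iff (ι : MonoidAlgebra ℂ G) (hidem : ι * ι = ι) (g : G) :
    cf ι g = cf ι 1 ↔ ∀ x : MonoidAlgebra ℂ G, MonoidAlgebra.single g 1 * (x * ι) = x * ι := by
  have hfd : Module.Finite ℂ (MonoidAlgebra ℂ G) := Module.Finite.of_basis (MonoidAlgebra.basis G ℂ)
  have h1 := Cfsg.Agent.Lib.helper82.char_eq_finrank_iff (idemRep ι hidem) g⁻¹
  have h2 : ((Module.finrank ℂ (MonoidAlgebra ℂ G) : ℕ) : ℂ) = cf ι 1 +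
      LinearMap.trace ℂ (MonoidAlgebra ℂ G) (LinearMap.mulRight ℂ (1 - ι)) := by
    rw [← Representation.char_one (idemRep ι hidem), idemRep_character, inv_one]
  rw [idemRep_character, inv_inv, h2, add_left_inj] at h1
  rw [h1]
  have hmul : idemRep ι hidem g * idemRep ι hidem g⁻¹ = 1 := by
    rw [← map_mul, mul_inv_cancel, map_one]
  constructor
  · intro hg x
    have h3 : idemRep ι hidem g = 1 := by
      rw [hg, mul_one] at hmul
      exact hmul
    have h4 := congrArg (fun φ : Module.End ℂ (MonoidAlgebra ℂ G) => φ x) h3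
    simp only [idemRep_apply, Module.End.one_apply] at h4
    have h5 : x * (1 - ι) = x - x * ι := by rw [mul_sub, mul_one]
    rw [h5] at h4
    have h6 : MonoidAlgebra.single g (1 : ℂ) * (x * ι) = x - (x - x * ι) := eq_sub_of_add_eq h4
    rw [h6]; abel
  · intro hx
    have h3 : idemRep ι hidem g = 1 := by
      apply LinearMap.ext
      intro x
      rw [idemRep_apply, hx x, Module.End.one_apply, mul_sub, mul_one]
      abel
    rw [h3, one_mul] at hmul
    exact hmul

end

end Cfsg.Agent.Lib.helper25
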