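import Mathlib
import Cfsg.Agent.Lib.helper3.GfDefs

/-!
# S4395 piece EXPN (helper25): in a cover with `N` generated by commutators and `p`-th powers of
`P`, the subgroup `N` has exponent `p`.
-/

set_option autoImplicit false

namespace Cfsg.Agent.Lib.helper3.Gf

/-- EXPN -/
theorem expn (p q r : ℕ) [Fact p.Prime] [Fact q.Prime] (hpq : p ≠ q) {K : Type*} [Group K]
    [Finite K] (N P : Subgroup K) (y : K) (h : Cov p q r N P y)
    (hgen : N ≤ Subgroup.closure (CP p P)) :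
    ∀ n ∈ N, n ^ p = 1 := by
  classical
  have hNc : ∀ n ∈ N, ∀ g : K, g * n = n * g := fun n hn g =>
    (Subgroup.mem_center_iff.1 (h.N_central hn)) g
  -- (1) commutator power formula
  have hcp : ∀ u ∈ P, ∀ v ∈ P, ∀ k : ℕ,
      u ^ k * v * (u ^ k)⁻¹ * v⁻¹ = (u * v * u⁻¹ * v⁻¹) ^ k := by
    intro u hu v hv k
    induction k with
    | zero => simp
    | succ k ih =>
      have hc := h.comm_mem u hu v hv
      have hck : (u * v * u⁻¹ * v⁻¹) ^ k ∈ N := N.pow_mem hc k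
      calc u ^ (k + 1) * v * (u ^ (k + 1))⁻¹ * v⁻¹
          = u * (u ^ k * v * (u ^ k)⁻¹ * v⁻¹) * v * u⁻¹ * v⁻¹ := by
            rw [pow_succ']
            group
        _ = u * (u * v * u⁻¹ * v⁻¹) ^ k * v * u⁻¹ * v⁻¹ := by rw [ih]
        _ = (u * v * u⁻¹ * v⁻¹) ^ k * u * v * u⁻¹ * v⁻¹ := by rw [hNc _ hck u]
        _ = (u * v * u⁻¹ * v⁻¹) ^ (k + 1) := by
            rw [pow_succ]
            simp only [mul_assoc]
  have hcp1 : ∀ u ∈ P, ∀ v ∈ P, (u * v * u⁻¹ * v⁻¹) ^ p = 1 := by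
    intro u hu v hv
    rw [← hcp u hu v hv p]
    have hup := h.pow_mem u hu
    rw [← hNc _ hup v, mul_inv_cancel_right, mul_inv_cancel]
  -- (2) power of a product
  have hpow : ∀ u ∈ P, ∀ v ∈ P, ∀ n : ℕ, ∃ k : ℕ,
      (u * v) ^ n = u ^ n * v ^ n * (v * u * v⁻¹ * u⁻¹) ^ k := by
    intro u hu v hv n
    induction n with
    | zero => exact ⟨0, by simp⟩
    | succ n ih =>
      obtain ⟨k, hk⟩ := ih
      refine ⟨n + k, ?_⟩
      have hc := h.comm_mem v hv u hu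
      obtain ⟨c, hcdef⟩ : ∃ c, c = v * u * v⁻¹ * u⁻¹ := ⟨_, rfl⟩
      rw [← hcdef] at hk hc ⊢
      have hck : c ^ k ∈ N := N.pow_mem hc k
      have hcn : c ^ n ∈ N := N.pow_mem hc n
      have e1 : v ^ n * u = c ^ n * u * v ^ n := by
        have h1 := hcp v hv u hu n
        rw [← hcdef] at h1
        calc v ^ n * u = (v ^ n * u * (v ^ n)⁻¹ * u⁻¹) * u * v ^ n := by group
          _ = c ^ n * u * v ^ n := by rw [h1]
      have e2 : c ^ k * (u * v) = (u * v) * c ^ k := (hNc _ hck (u * v)).symm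
      have e3 : u ^ n * c ^ n = c ^ n * u ^ n := hNc _ hcn (u ^ n)
      calc (u * v) ^ (n + 1) = (u * v) ^ n * (u * v) := pow_succ _ _
        _ = u ^ n * v ^ n * c ^ k * (u * v) := by rw [hk]
        _ = u ^ n * v ^ n * (c ^ k * (u * v)) := by simp only [mul_assoc]
        _ = u ^ n * v ^ n * ((u * v) * c ^ k) := by rw [e2]
        _ = u ^ n * (v ^ n * u) * v * c ^ k := by simp only [mul_assoc]
        _ = u ^ n * (c ^ n * u * v ^ n) * v * c ^ k := by rw [e1]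
        _ = (u ^ n * c ^ n) * u * v ^ n * v * c ^ k := by simp only [mul_assoc]
        _ = (c ^ n * u ^ n) * u * v ^ n * v * c ^ k := by rw [e3]
        _ = c ^ n * ((u ^ n * u) * (v ^ n * v) * c ^ k) := by simp only [mul_assoc]
        _ = ((u ^ n * u) * (v ^ n * v) * c ^ k) * c ^ n := (hNc _ hcn _).symm
        _ = u ^ (n + 1) * v ^ (n + 1) * c ^ (n + k) := by
            rw [← pow_succ, ← pow_succ, mul_assoc, ← pow_add, add_comm k n]
  -- (3) `u ↦ (u ^ p) ^ p` is multiplicative on `P`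
  have hρ : ∀ u ∈ P, ∀ v ∈ P, ((u * v) ^ p) ^ p = (u ^ p) ^ p * (v ^ p) ^ p := by
    intro u hu v hv
    obtain ⟨k, hk⟩ := hpow u hu v hv p
    have hc := h.comm_mem v hv u hu
    have hck : (v * u * v⁻¹ * u⁻¹) ^ k ∈ N := N.pow_mem hc k
    have hup := h.pow_mem u hu
    have hvp := h.pow_mem v hv
    have c1 : Commute (u ^ p) (v ^ p) := hNc _ hvp (u ^ p)
    have c2 : Commute (u ^ p * v ^ p) ((v * u * v⁻¹ * u⁻¹) ^ k) := hNc _ hck _
    rw [hk, c2.mul_pow, c1.mul_pow, ← pow_mul (v * u * v⁻¹ * u⁻¹) k p, mul_comm k p,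
      pow_mul (v * u * v⁻¹ * u⁻¹) p k, hcp1 v hv u hu, one_pow, mul_one]
  -- (4) the subgroup `W`
  let W : Subgroup K :=
    { carrier := {u | u ∈ P ∧ ∃ n ∈ N, (u ^ p) ^ p = (n ^ p) ^ p}
      mul_mem' := by
        rintro u v ⟨hu, n, hn, e⟩ ⟨hv, n', hn', e'⟩
        exact ⟨P.mul_mem hu hv, n * n', N.mul_mem hn hn', by
          rw [hρ u hu v hv, e, e', hρ n (h.N_le_P hn) n' (h.N_le_P hn')]⟩
      one_mem' := ⟨P.one_mem, 1, N.one_mem, rfl⟩
      inv_mem' := by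
        rintro u ⟨hu, n, hn, e⟩
        exact ⟨P.inv_mem hu, n⁻¹, N.inv_mem hn, by simp only [inv_pow, e]⟩ }
  have hWmem : ∀ u, u ∈ W ↔ (u ∈ P ∧ ∃ n ∈ N, (u ^ p) ^ p = (n ^ p) ^ p) := fun u => Iff.rfl
  have hNW : N ≤ W := fun n hn => (hWmem n).2 ⟨h.N_le_P hn, n, hn, rfl⟩
  have hWP : W ≤ P := fun u hu => ((hWmem u).1 hu).1
  have hWy : ∀ w ∈ W, y * w * y⁻¹ ∈ W := by
    intro w hw
    obtain ⟨hwP, n, hn, e⟩ := (hWmem w).1 hw
    refine (hWmem _).2 ⟨h.P_normal.conj_mem w hwP y, n, hn, ?_⟩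
    have hz : (n ^ p) ^ p ∈ N := N.pow_mem (N.pow_mem hn p) p
    rw [conj_pow, conj_pow, e, hNc _ hz y, mul_inv_cancel_right]
  have hW : ∀ u ∈ P, ∃ n ∈ N, (u ^ p) ^ p = (n ^ p) ^ p := by
    rcases h.irr W hNW hWP hWy with hWN | hWP'
    · exfalso
      obtain ⟨u, hu, hnot⟩ := h.nontriv
      apply hnot
      have hyu : y * u * y⁻¹ ∈ P := h.P_normal.conj_mem u hu y
      have hmem : y * u * y⁻¹ * u⁻¹ ∈ W := by
        refine (hWmem _).2 ⟨P.mul_mem hyu (P.inv_mem hu), 1, N.one_mem, ?_⟩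
        have hz : (u ^ p) ^ p ∈ N := N.pow_mem (h.pow_mem u hu) p
        rw [hρ _ hyu _ (P.inv_mem hu), conj_pow, conj_pow, hNc _ hz y, mul_inv_cancel_right,
          inv_pow, inv_pow, mul_inv_cancel, one_pow, one_pow]
      rw [hWN] at hmem
      exact hmem
    · intro u hu
      have hu' : u ∈ W := by rw [hWP']; exact hu
      exact ((hWmem u).1 hu').2
  -- (5) every `p`-th power of `N` is a `p²`-th power of `N`
  have star : ∀ n ∈ N, ∃ m ∈ N, n ^ p = (m ^ p) ^ p := by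
    have key : ∀ g ∈ Subgroup.closure (CP p P), g ∈ N ∧ ∃ m ∈ N, g ^ p = (m ^ p) ^ p := by
      intro g hg
      induction hg using Subgroup.closure_induction with
      | mem g hg =>
        rcases hg with ⟨u, hu, v, hv, rfl⟩ | ⟨u, hu, rfl⟩
        · exact ⟨h.comm_mem u hu v hv, 1, N.one_mem, by rw [hcp1 u hu v hv, one_pow, one_pow]⟩
        · obtain ⟨m, hm, e⟩ := hW u hu
          exact ⟨h.pow_mem u hu, m, hm, e⟩
      | one => exact ⟨N.one_mem, 1, N.one_mem, by simp⟩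
      | mul g g' _ _ ih ih' =>
        obtain ⟨hg, m, hm, e⟩ := ih
        obtain ⟨hg', m', hm', e'⟩ := ih'
        refine ⟨N.mul_mem hg hg', m * m', N.mul_mem hm hm', ?_⟩
        have c1 : Commute g g' := hNc _ hg' g
        rw [c1.mul_pow, e, e', hρ m (h.N_le_P hm) m' (h.N_le_P hm')]
      | inv g _ ih =>
        obtain ⟨hg, m, hm, e⟩ := ih
        exact ⟨N.inv_mem hg, m⁻¹, N.inv_mem hm, by simp only [inv_pow, e]⟩
    intro n hn
    exact (key n (hgen hn)).2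
  -- (6) the exponent of `N`
  have hex : ∃ k, ∀ n ∈ N, n ^ (p ^ k) = 1 := by
    obtain ⟨t, ht⟩ := IsPGroup.iff_card.1 h.P_pgroup
    refine ⟨t, fun n hn => ?_⟩
    have h1 : (⟨n, h.N_le_P hn⟩ : ↥P) ^ (p ^ t) = 1 := by
      rw [← ht]
      exact pow_card_eq_one'
    exact congrArg Subtype.val h1
  have hk := Nat.find_spec hex
  by_cases hk1 : Nat.find hex ≤ 1
  · intro n hn
    have h1 := hk n hn
    rcases Nat.le_one_iff_eq_zero_or_eq_one.1 hk1 with h0 | h0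
    · rw [h0, pow_zero, pow_one] at h1
      rw [h1, one_pow]
    · rw [h0, pow_one] at h1
      exact h1
  · exfalso
    push Not at hk1
    apply Nat.find_min hex (m := Nat.find hex - 1) (by omega)
    intro n hn
    obtain ⟨m, hm, hnm⟩ := star n hn
    obtain ⟨j, hj⟩ : ∃ j, Nat.find hex = j + 2 := ⟨Nat.find hex - 2, by omega⟩
    have h1 := hk m hm
    rw [hj] at h1
    rw [hj]
    have e1 : j + 2 - 1 = j + 1 := by omega
    rw [e1]
    calc n ^ (p ^ (j + 1)) = (n ^ p) ^ (p ^ j) := by rw [← pow_mul, ← pow_succ']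
      _ = ((m ^ p) ^ p) ^ (p ^ j) := by rw [hnm]
      _ = m ^ (p ^ (j + 2)) := by
          rw [← pow_mul, ← pow_mul]
          congr 1
          ring
      _ = 1 := h1

end Cfsg.Agent.Lib.helper3.Gf
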