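import Mathlib
import Cfsg.Agent.Lib.helper3.GfDefs
import Cfsg.Agent.Lib.helper57.PNil

/-!
# S4395 piece MNPC (helper25): a cover with `N` non-generating is minimal non-`p`-nilpotent.
-/

set_option autoImplicit false

namespace Cfsg.Agent.Lib.helper3.Gf

open Cfsg.Agent.Lib.helper57

/-- Bezout for powers of an element. -/
theorem h25_pow_mem_of_coprime {K : Type*} [Group K] (A : Subgroup K) (y : K) (a b : ℕ)
    (hab : Nat.Coprime a b) (ha : y ^ a ∈ A) (hb : y ^ b ∈ A) : y ∈ A := by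
  have h1 := Nat.gcd_eq_gcd_ab a b
  rw [hab.gcd_eq_one] at h1
  have h2 : y = (y ^ a) ^ (Nat.gcdA a b) * (y ^ b) ^ (Nat.gcdB a b) := by
    rw [← zpow_natCast y a, ← zpow_natCast y b, ← zpow_mul, ← zpow_mul, ← zpow_add, ← h1]
    simp
  rw [h2]
  exact A.mul_mem (A.zpow_mem ha _) (A.zpow_mem hb _)

/-- MNPC -/
theorem mnpc (p q r : ℕ) [Fact p.Prime] [Fact q.Prime] (hpq : p ≠ q) {K : Type*} [Group K]
    [Finite K] (N P : Subgroup K) (y : K) (h : Cov p q r N P y) (hng : NonGen N) : MNP p K := by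
  classical
  have hp : p.Prime := Fact.out
  have hq : q.Prime := Fact.out
  haveI hPn : P.Normal := h.P_normal
  have hNc : ∀ n ∈ N, ∀ g : K, g * n = n * g := fun n hn g =>
    (Subgroup.mem_center_iff.1 (h.N_central hn)) g
  haveI hNn : N.Normal := ⟨fun n hn g => by rw [hNc n hn g, mul_inv_cancel_right]; exact hn⟩
  obtain ⟨t, ht⟩ := IsPGroup.iff_card.1 h.P_pgroup
  have hPexp : ∀ u ∈ P, u ^ (p ^ t) = 1 := by
    intro u hu
    have h1 : (⟨u, hu⟩ : ↥P) ^ (p ^ t) = 1 := by
      rw [← ht]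
      exact pow_card_eq_one'
    exact congrArg Subtype.val h1
  have hcop : Nat.Coprime p q := (Nat.coprime_primes hp hq).2 hpq
  -- the quotient map
  obtain ⟨π, hπ⟩ : ∃ π : K →* K ⧸ P, π = QuotientGroup.mk' P := ⟨_, rfl⟩
  have hπP : ∀ k : K, π k = 1 ↔ k ∈ P := fun k => by
    rw [hπ]
    exact QuotientGroup.eq_one_iff k
  have hrep : ∀ k : K, ∃ j : ℕ, π k = π y ^ j := by
    intro k
    have hk : k ∈ ((P ⊔ Subgroup.zpowers y : Subgroup K) : Set K) := by
      rw [h.sup_top]
      exact Subgroup.mem_top k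
    rw [Subgroup.normal_mul] at hk
    obtain ⟨u, hu, z, hz, rfl⟩ := Set.mem_mul.1 hk
    obtain ⟨j, rfl : y ^ j = z⟩ := mem_powers_iff_mem_zpowers.mpr hz
    refine ⟨j, ?_⟩
    rw [map_mul, (hπP u).2 hu, one_mul, map_pow]
  have hπy : π y ^ (q ^ r) = 1 := by
    rw [← map_pow, hπP]
    exact h.ord_mem
  have hqr : ∀ k : K, k ^ (q ^ r) ∈ P := by
    intro k
    obtain ⟨j, hj⟩ := hrep k
    rw [← hπP, map_pow, hj, ← pow_mul, mul_comm, pow_mul, hπy, one_pow]
  have hqrp : ∀ k : K, (k ^ (p ^ t)) ^ (q ^ r) = 1 := by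
    intro k
    rw [← pow_mul, mul_comm, pow_mul]
    exact hPexp _ (hqr k)
  have hr : 1 ≤ r := by
    by_contra hr0
    have hr0' : r = 0 := by omega
    have hyP : y ∈ P := by
      have h1 := h.ord_mem
      rwa [hr0', pow_zero, pow_one] at h1
    obtain ⟨u, hu, hnot⟩ := h.nontriv
    exact hnot (h.comm_mem y hyP u hu)
  -- the elements acting trivially on `P / N`
  let TT : Subgroup K :=
    { carrier := {g | ∀ u ∈ P, g * u * g⁻¹ * u⁻¹ ∈ N}
      mul_mem' := by
        intro a b ha hb u hu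
        have h1 := hb u hu
        have h2 := ha (b * u * b⁻¹) (h.P_normal.conj_mem u hu b)
        have e : a * b * u * (a * b)⁻¹ * u⁻¹ =
            (a * (b * u * b⁻¹) * a⁻¹ * (b * u * b⁻¹)⁻¹) * (b * u * b⁻¹ * u⁻¹) := by group
        rw [e]
        exact N.mul_mem h2 h1
      one_mem' := by
        intro u hu
        rw [one_mul, inv_one, mul_one, mul_inv_cancel]
        exact N.one_mem
      inv_mem' := by
        intro a ha u hu
        have hu' : a⁻¹ * u * a ∈ P := by
          have h1 := h.P_normal.conj_mem u hu a⁻¹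
          rwa [inv_inv] at h1
        have h1 := N.inv_mem (ha (a⁻¹ * u * a) hu')
        have e : a⁻¹ * u * a⁻¹⁻¹ * u⁻¹ = (a * (a⁻¹ * u * a) * a⁻¹ * (a⁻¹ * u * a)⁻¹)⁻¹ := by
          group
        rw [e]
        exact h1 }
  have hTT : ∀ g, g ∈ TT ↔ ∀ u ∈ P, g * u * g⁻¹ * u⁻¹ ∈ N := fun g => Iff.rfl
  have hyqTT : y ^ q ∈ TT := (hTT _).2 h.yq
  have hynTT : y ∉ TT := by
    intro hy
    obtain ⟨u, hu, hnot⟩ := h.nontriv
    exact hnot ((hTT y).1 hy u hu)
  refine ⟨?_, ?_⟩
  · -- no normal `p`-complement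
    intro hnpc
    obtain ⟨Q, hQn, hQ⟩ := (pNil_iff_hasNormalPComplement (p := p) (X := K)).2 hnpc
    obtain ⟨g, hgdef⟩ : ∃ g, g = y ^ (p ^ t) := ⟨_, rfl⟩
    have hg : g ∈ Q := by
      rw [hQ]
      have h1 : orderOf g ∣ q ^ r := orderOf_dvd_of_pow_eq_one (by rw [hgdef]; exact hqrp y)
      exact Nat.Coprime.coprime_dvd_left h1 (Nat.Coprime.pow_left r hcop.symm)
    apply hynTT
    apply h25_pow_mem_of_coprime TT y (p ^ t) q (Nat.Coprime.pow_left t hcop) ?_ hyqTT
    rw [← hgdef, hTT]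
    intro u hu
    have hx1 : g * u * g⁻¹ * u⁻¹ ∈ P :=
      P.mul_mem (h.P_normal.conj_mem u hu _) (P.inv_mem hu)
    have hx2 : g * u * g⁻¹ * u⁻¹ ∈ Q := by
      have h1 : u * g⁻¹ * u⁻¹ ∈ Q := hQn.conj_mem _ (Q.inv_mem hg) u
      have e : g * u * g⁻¹ * u⁻¹ = g * (u * g⁻¹ * u⁻¹) := by group
      rw [e]
      exact Q.mul_mem hg h1
    have hx3 : g * u * g⁻¹ * u⁻¹ = 1 :=
      eq_one_of_coprime_of_pow_prime_pow ((hQ _).1 hx2) (hPexp _ hx1)
    rw [hx3]
    exact N.one_mem
  · -- proper subgroups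
    intro S hS
    rw [← pNil_iff_hasNormalPComplement]
    have templ : ∀ z : K, z ^ (q ^ r) = 1 → (∀ s ∈ S, z * s = s * z) →
        (∀ s ∈ S, ∃ k i : ℕ, s ^ (p ^ k) = z ^ i) → PNil p ↥S := by
      intro z hz1 hzc hzp
      haveI hK₀n : ((Subgroup.zpowers z).subgroupOf S).Normal := by
        constructor
        intro n hn s
        rw [Subgroup.mem_subgroupOf] at hn ⊢
        obtain ⟨i, hi⟩ := Subgroup.mem_zpowers_iff.1 hn
        have hc : (s : K) * (n : K) = (n : K) * (s : K) := by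
          rw [← hi]
          exact (Commute.zpow_left (hzc s s.2) i).eq.symm
        show (s : K) * (n : K) * (s : K)⁻¹ ∈ Subgroup.zpowers z
        rw [hc, mul_inv_cancel_right]
        exact hn
      have hK₀p : IsPGroup q ↥((Subgroup.zpowers z).subgroupOf S) := by
        rintro ⟨n, hn⟩
        refine ⟨r, ?_⟩
        rw [Subgroup.mem_subgroupOf] at hn
        obtain ⟨i, hi⟩ := Subgroup.mem_zpowers_iff.1 hn
        apply Subtype.ext
        apply Subtype.ext
        show (n : K) ^ (q ^ r) = 1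
        rw [← hi, ← zpow_natCast, ← zpow_mul, mul_comm, zpow_mul, zpow_natCast, hz1, one_zpow]
      obtain ⟨e, he⟩ := IsPGroup.iff_card.1 hK₀p
      have hcard : (Nat.card ↥((Subgroup.zpowers z).subgroupOf S)).Coprime p := by
        rw [he]
        exact Nat.Coprime.pow_left e hcop.symm
      apply PNil.of_quotient ((Subgroup.zpowers z).subgroupOf S) hcard
      apply pNil_of_isPGroup
      intro x
      obtain ⟨s, rfl⟩ := QuotientGroup.mk_surjective x
      obtain ⟨k, i, hk⟩ := hzp s s.2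
      refine ⟨k, ?_⟩
      rw [← QuotientGroup.mk_pow, QuotientGroup.eq_one_iff, Subgroup.mem_subgroupOf,
        Subgroup.coe_pow, hk]
      exact Subgroup.pow_mem _ (Subgroup.mem_zpowers z) i
    by_cases hB : ∃ g ∈ S, ∃ j : ℕ, π g = π y ^ j ∧ ¬ q ∣ j
    · -- Case B: `S` covers `K / P`
      obtain ⟨g, hgS, j, hgj, hqj⟩ := hB
      have hjq : Nat.Coprime j (q ^ r) :=
        Nat.Coprime.pow_right r ((Nat.Prime.coprime_iff_not_dvd hq).2 hqj).symm
      have hu₀ : g * (y ^ j)⁻¹ ∈ P := by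
        rw [← hπP, map_mul, map_inv, map_pow, hgj, mul_inv_cancel]
      have hgen : ∀ s : K, ∃ i : ℕ, s * (g ^ i)⁻¹ ∈ P := by
        intro s
        obtain ⟨j', hj'⟩ := hrep s
        have hq1 : 1 < q ^ r := Nat.one_lt_pow (by omega) hq.one_lt
        obtain ⟨a, -, ha⟩ := Nat.exists_mul_mod_eq_one_of_coprime hjq hq1
        refine ⟨a * j', ?_⟩
        rw [← hπP, map_mul, map_inv, map_pow, hgj, hj', ← pow_mul]
        have e : j * (a * j') = j' + q ^ r * ((j * a / q ^ r) * j') := by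
          have h1 := Nat.div_add_mod (j * a) (q ^ r)
          rw [ha] at h1
          calc j * (a * j') = (j * a) * j' := by ring
            _ = (q ^ r * (j * a / q ^ r) + 1) * j' := by rw [h1]
            _ = j' + q ^ r * ((j * a / q ^ r) * j') := by ring
        rw [e, pow_add, pow_mul, hπy, one_pow, mul_one, mul_inv_cancel]
      have hSP : S ⊓ P ≤ N := by
        obtain ⟨W, hWdef⟩ : ∃ W : Subgroup K, W = (S ⊓ P) ⊔ N := ⟨_, rfl⟩
        have hNW : N ≤ W := by
          rw [hWdef]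
          exact le_sup_right
        have hWP : W ≤ P := by
          rw [hWdef]
          exact sup_le inf_le_right h.N_le_P
        have hWmem : ∀ w, w ∈ W ↔ ∃ s ∈ S ⊓ P, ∃ n ∈ N, s * n = w := by
          intro w
          have h1 : w ∈ W ↔ w ∈ ((S ⊓ P ⊔ N : Subgroup K) : Set K) := by
            rw [hWdef]
            rfl
          rw [h1, Subgroup.mul_normal]
          exact Set.mem_mul
        have hgW : g ∈ Subgroup.normalizer (W : Set K) := by
          apply Subgroup.mem_normalizer_fintype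
          intro w hw
          obtain ⟨s, hs, n, hn, rfl⟩ := (hWmem w).1 hw
          refine (hWmem _).2 ⟨g * s * g⁻¹,
            ⟨S.mul_mem (S.mul_mem hgS hs.1) (S.inv_mem hgS), h.P_normal.conj_mem s hs.2 g⟩,
            n, hn, ?_⟩
          calc g * s * g⁻¹ * n = g * s * (g⁻¹ * n) := by simp only [mul_assoc]
            _ = g * s * (n * g⁻¹) := by rw [hNc n hn g⁻¹]
            _ = g * (s * n) * g⁻¹ := by simp only [mul_assoc]
        have hPW : ∀ x : K, (∀ u ∈ P, x * u * x⁻¹ * u⁻¹ ∈ N) →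
            x ∈ Subgroup.normalizer (W : Set K) := by
          intro x hx
          apply Subgroup.mem_normalizer_fintype
          intro w hw
          have h1 := hx w (hWP hw)
          have e : x * w * x⁻¹ = (x * w * x⁻¹ * w⁻¹) * w := by group
          rw [e]
          exact W.mul_mem (hNW h1) hw
        have hyjW : y ^ j ∈ Subgroup.normalizer (W : Set K) := by
          have h1 : (g * (y ^ j)⁻¹)⁻¹ ∈ Subgroup.normalizer (W : Set K) :=
            Subgroup.inv_mem _ (hPW _ (fun u hu => h.comm_mem _ hu₀ u hu))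
          have e : y ^ j = (g * (y ^ j)⁻¹)⁻¹ * g := by group
          rw [e]
          exact Subgroup.mul_mem _ h1 hgW
        have hyqrW : y ^ (q ^ r) ∈ Subgroup.normalizer (W : Set K) :=
          hPW _ (fun u hu => h.comm_mem _ h.ord_mem u hu)
        have hyW : y ∈ Subgroup.normalizer (W : Set K) :=
          h25_pow_mem_of_coprime _ y j (q ^ r) hjq hyjW hyqrW
        have hWy : ∀ w ∈ W, y * w * y⁻¹ ∈ W := fun w hw =>
          (Subgroup.mem_normalizer_iff.1 hyW w).1 hw
        rcases h.irr W hNW hWP hWy with hWN | hWP'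
        · rw [← hWN, hWdef]
          exact le_sup_left
        · exfalso
          apply hS
          apply hng
          have hPle : P ≤ S ⊔ N := by
            rw [← hWP', hWdef]
            exact sup_le_sup_right inf_le_left N
          have hSle : S ≤ S ⊔ N := le_sup_left
          have hyj : y ^ j ∈ S ⊔ N := by
            have h1 : (g * (y ^ j)⁻¹)⁻¹ ∈ S ⊔ N := Subgroup.inv_mem _ (hPle hu₀)
            have e : y ^ j = (g * (y ^ j)⁻¹)⁻¹ * g := by group
            rw [e]
            exact Subgroup.mul_mem _ h1 (hSle hgS)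
          have hy : y ∈ S ⊔ N :=
            h25_pow_mem_of_coprime _ y j (q ^ r) hjq hyj (hPle h.ord_mem)
          rw [eq_top_iff, ← h.sup_top]
          exact sup_le hPle ((Subgroup.zpowers_le).2 hy)
      have hdec : ∀ s ∈ S, ∃ i : ℕ, s * (g ^ i)⁻¹ ∈ N := by
        intro s hs
        obtain ⟨i, hi⟩ := hgen s
        exact ⟨i, hSP ⟨S.mul_mem hs (S.inv_mem (S.pow_mem hgS i)), hi⟩⟩
      apply templ (g ^ (p ^ t)) (hqrp g)
      · intro s hs
        obtain ⟨i, hi⟩ := hdec s hs
        obtain ⟨c, hcdef⟩ : ∃ c, c = s * (g ^ i)⁻¹ := ⟨_, rfl⟩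
        rw [← hcdef] at hi
        have hs' : s = c * g ^ i := by
          rw [hcdef]
          group
        rw [hs']
        calc g ^ (p ^ t) * (c * g ^ i) = (g ^ (p ^ t) * c) * g ^ i := by rw [mul_assoc]
          _ = (c * g ^ (p ^ t)) * g ^ i := by rw [hNc c hi (g ^ (p ^ t))]
          _ = c * (g ^ (p ^ t) * g ^ i) := by rw [mul_assoc]
          _ = c * (g ^ i * g ^ (p ^ t)) := by rw [← pow_add, ← pow_add, add_comm]
          _ = c * g ^ i * g ^ (p ^ t) := by rw [mul_assoc]
      · intro s hs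
        obtain ⟨i, hi⟩ := hdec s hs
        obtain ⟨c, hcdef⟩ : ∃ c, c = s * (g ^ i)⁻¹ := ⟨_, rfl⟩
        rw [← hcdef] at hi
        have hs' : s = c * g ^ i := by
          rw [hcdef]
          group
        refine ⟨t, i, ?_⟩
        have hcc : Commute c (g ^ i) := (hNc c hi (g ^ i)).symm
        rw [hs', hcc.mul_pow, hPexp c (h.N_le_P hi), one_mul, ← pow_mul, mul_comm, pow_mul]
    · -- Case A: `S ≤ P ⟨y ^ q⟩`
      push Not at hB
      obtain ⟨w, hwdef⟩ : ∃ w, w = y ^ q := ⟨_, rfl⟩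
      have hwyq : ∀ u ∈ P, w * u * w⁻¹ * u⁻¹ ∈ N := by
        rw [hwdef]
        exact h.yq
      obtain ⟨z₀, hz₀def⟩ : ∃ z₀, z₀ = w ^ (p ^ t) := ⟨_, rfl⟩
      have hconj : ∀ u ∈ P, ∀ k : ℕ,
          w ^ k * u * (w ^ k)⁻¹ = (w * u * w⁻¹ * u⁻¹) ^ k * u := by
        intro u hu k
        induction k with
        | zero => simp
        | succ k ih =>
          have hc := hwyq u hu
          obtain ⟨c, hcdef⟩ : ∃ c, c = w * u * w⁻¹ * u⁻¹ := ⟨_, rfl⟩
          rw [← hcdef] at hc ih ⊢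
          have hck : c ^ k ∈ N := N.pow_mem hc k
          have e4 : w * u * w⁻¹ = c * u := by
            rw [hcdef]
            group
          calc w ^ (k + 1) * u * (w ^ (k + 1))⁻¹
              = w * (w ^ k * u * (w ^ k)⁻¹) * w⁻¹ := by
                rw [pow_succ']
                group
            _ = w * (c ^ k * u) * w⁻¹ := by rw [ih]
            _ = c ^ k * (w * u * w⁻¹) := by
                rw [← mul_assoc, hNc _ hck w]
                simp only [mul_assoc]
            _ = c ^ k * (c * u) := by rw [e4]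
            _ = c ^ (k + 1) * u := by rw [pow_succ, mul_assoc]
      have hz₀P : ∀ u ∈ P, z₀ * u = u * z₀ := by
        intro u hu
        have h1 := hconj u hu (p ^ t)
        rw [← hz₀def, hPexp _ (h.N_le_P (hwyq u hu)), one_mul] at h1
        calc z₀ * u = z₀ * u * z₀⁻¹ * z₀ := by group
          _ = u * z₀ := by rw [h1]
      have hz₀y : ∀ i : ℕ, z₀ * y ^ i = y ^ i * z₀ := by
        intro i
        rw [hz₀def, hwdef, ← pow_mul, ← pow_add, ← pow_add, add_comm]
      have hz₀c : ∀ k : K, z₀ * k = k * z₀ := by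
        intro k
        obtain ⟨j, hj⟩ := hrep k
        have hu : k * (y ^ j)⁻¹ ∈ P := by
          rw [← hπP, map_mul, map_inv, map_pow, hj, mul_inv_cancel]
        obtain ⟨u, hudef⟩ : ∃ u, u = k * (y ^ j)⁻¹ := ⟨_, rfl⟩
        rw [← hudef] at hu
        have hk : k = u * y ^ j := by
          rw [hudef]
          group
        rw [hk]
        calc z₀ * (u * y ^ j) = (z₀ * u) * y ^ j := by rw [mul_assoc]
          _ = (u * z₀) * y ^ j := by rw [hz₀P _ hu]
          _ = u * (z₀ * y ^ j) := by rw [mul_assoc]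
          _ = u * (y ^ j * z₀) := by rw [hz₀y]
          _ = u * y ^ j * z₀ := by rw [mul_assoc]
      apply templ z₀
      · rw [hz₀def, hwdef, ← pow_mul, ← pow_mul]
        have h1 := hPexp _ h.ord_mem
        have e : q * (p ^ t * q ^ r) = q ^ r * p ^ t * q := by ring
        rw [e, pow_mul, pow_mul, h1, one_pow]
      · intro s _
        exact hz₀c s
      · intro s hs
        obtain ⟨j, hj⟩ := hrep s
        obtain ⟨i, rfl⟩ := hB s hs j hj
        have h1 : π (s ^ (p ^ t)) = π y ^ (q * i * p ^ t) := by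
          rw [map_pow, hj, ← pow_mul]
        have h2 : π (z₀ ^ i) = π y ^ (q * i * p ^ t) := by
          rw [hz₀def, hwdef, map_pow, map_pow, map_pow, ← pow_mul, ← pow_mul]
          congr 1
          ring
        have hu₁ : s ^ (p ^ t) * (z₀ ^ i)⁻¹ ∈ P := by
          rw [← hπP, map_mul, map_inv, h1, h2, mul_inv_cancel]
        obtain ⟨u₁, hu₁def⟩ : ∃ u₁, u₁ = s ^ (p ^ t) * (z₀ ^ i)⁻¹ := ⟨_, rfl⟩
        rw [← hu₁def] at hu₁
        have hs' : s ^ (p ^ t) = u₁ * z₀ ^ i := by
          rw [hu₁def]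
          group
        refine ⟨t + t, i * p ^ t, ?_⟩
        have hcc : Commute u₁ (z₀ ^ i) := (Commute.pow_left (hz₀P u₁ hu₁) i).symm
        rw [pow_add, pow_mul, hs', hcc.mul_pow, hPexp u₁ hu₁, one_mul, ← pow_mul]

end Cfsg.Agent.Lib.helper3.Gf
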