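import Mathlib

/-!
Arithmetic end-game for Huppert's theorem on solvable linear groups transitive on nonzero
vectors (hand-off H7 for S3360).
-/

set_option autoImplicit false

namespace Cfsg.Agent.Lib.helper25.Hup

theorem card_GL_two (n : ℕ) :
    Nat.card (GL (Fin n) (ZMod 2)) = ∏ i ∈ Finset.range n, (2 ^ n - 2 ^ i) := by
  have h := Matrix.card_GL_field (𝔽 := ZMod 2) n
  rw [ZMod.card] at h
  rw [h]
  exact Fin.prod_univ_eq_prod_range (fun i => 2 ^ n - 2 ^ i) n

theorem card_GL_two_le (n : ℕ) : Nat.card (GL (Fin n) (ZMod 2)) ≤ 2 ^ (n * n) := by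
  rw [card_GL_two, pow_mul]
  calc ∏ i ∈ Finset.range n, (2 ^ n - 2 ^ i) ≤ (2 ^ n) ^ (Finset.range n).card :=
        Finset.prod_le_pow_card _ _ _ (fun i _ => Nat.sub_le _ _)
    _ = (2 ^ n) ^ n := by rw [Finset.card_range]

theorem card_GL_two_pos (n : ℕ) : 0 < Nat.card (GL (Fin n) (ZMod 2)) := Nat.card_pos

/-- From the divisibility, `q ^ e ≤ N`. -/
theorem pow_le_of_dvd (q e N : ℕ) (hq : 2 ≤ q) (hN : 0 < N)
    (hdvd : q ^ (e + 1) - 1 ∣ (q - 1) * N) : q ^ e ≤ N := by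
  have hpos : 0 < (q - 1) * N := Nat.mul_pos (by omega) hN
  have h1 : q ^ (e + 1) - 1 ≤ (q - 1) * N := Nat.le_of_dvd hpos hdvd
  have h2 : (q - 1) * N + N = q * N := by
    obtain ⟨r, rfl⟩ : ∃ r, q = r + 1 := ⟨q - 1, by omega⟩
    simp [Nat.succ_mul]
  have h0 : 1 ≤ q ^ (e + 1) := Nat.one_le_pow _ _ (by omega)
  have h3 : q ^ (e + 1) ≤ q * N := by omega
  rw [pow_succ'] at h3
  exact Nat.le_of_mul_le_mul_left h3 (by omega)

theorem aux_bound (k : ℕ) : 4 * (k + 8) * (k + 8) + 2 * (k + 8) + 3 ≤ 3 * 2 ^ (k + 7) := by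
  induction k with
  | zero => norm_num
  | succ k ih =>
    have h : 2 ^ (k + 1 + 7) = 2 * 2 ^ (k + 7) := by rw [show k + 1 + 7 = (k + 7) + 1 by omega, pow_succ']
    rw [h]
    nlinarith

theorem large_case (q m : ℕ) (hq3 : 3 ≤ q) (hm8 : 8 ≤ m)
    (hdvd : q ^ (2 ^ m) - 1 ∣ (q - 1) * (2 ^ (2 * m) * Nat.card (GL (Fin (2 * m)) (ZMod 2)))) :
    False := by
  obtain ⟨k, rfl⟩ : ∃ k, m = k + 8 := ⟨m - 8, by omega⟩
  have hNpos : 0 < 2 ^ (2 * (k + 8)) * Nat.card (GL (Fin (2 * (k + 8))) (ZMod 2)) :=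
    Nat.mul_pos (by positivity) (card_GL_two_pos _)
  have hNle : 2 ^ (2 * (k + 8)) * Nat.card (GL (Fin (2 * (k + 8))) (ZMod 2)) ≤
      2 ^ (4 * (k + 8) * (k + 8) + 2 * (k + 8)) := by
    calc 2 ^ (2 * (k + 8)) * Nat.card (GL (Fin (2 * (k + 8))) (ZMod 2))
        ≤ 2 ^ (2 * (k + 8)) * 2 ^ (2 * (k + 8) * (2 * (k + 8))) :=
          Nat.mul_le_mul_left _ (card_GL_two_le _)
      _ = 2 ^ (4 * (k + 8) * (k + 8) + 2 * (k + 8)) := by
          rw [← pow_add]; congr 1; ring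
  obtain ⟨s, hs⟩ : ∃ s, 2 ^ (k + 7) = s + 1 :=
    ⟨2 ^ (k + 7) - 1, by have := Nat.one_le_two_pow (n := k + 7); omega⟩
  have he : 2 ^ (k + 8) = (2 * s + 1) + 1 := by
    rw [show k + 8 = (k + 7) + 1 by omega, pow_succ, hs]; ring
  rw [he] at hdvd
  have h1 := pow_le_of_dvd q (2 * s + 1) _ (by omega) hNpos hdvd
  have h2 : 3 ^ (2 * s + 1) ≤ q ^ (2 * s + 1) := Nat.pow_le_pow_left hq3 _
  have h3 := aux_bound k
  rw [hs] at h3
  have h4 : 4 * (k + 8) * (k + 8) + 2 * (k + 8) ≤ 3 * s := by omega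
  have h5 : (2 : ℕ) ^ (4 * (k + 8) * (k + 8) + 2 * (k + 8)) ≤ 2 ^ (3 * s) :=
    Nat.pow_le_pow_right (by norm_num) h4
  have h6 : (2 : ℕ) ^ (3 * s) = 8 ^ s := by rw [pow_mul]; norm_num
  have h7 : (8 : ℕ) ^ s ≤ 9 ^ s := Nat.pow_le_pow_left (by norm_num) s
  have h8 : (3 : ℕ) ^ (2 * s + 1) = 9 ^ s * 3 := by rw [pow_succ, pow_mul]; norm_num
  have h9 : 0 < (9 : ℕ) ^ s := by positivity
  omega

theorem arith_final (q m : ℕ) (hq : q.Prime) (hq2 : q ≠ 2) (hm : 1 ≤ m) (hℓ : (2 ^ m + 1).Prime)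
    (hdvd : q ^ (2 ^ m) - 1 ∣ (q - 1) * (2 ^ (2 * m) * Nat.card (GL (Fin (2 * m)) (ZMod 2)))) :
    q ^ (2 ^ m) ∈ ({9, 25, 49, 121, 529, 81} : Set ℕ) := by
  have hq3 : 3 ≤ q := by have := hq.two_le; omega
  by_cases hm8 : 8 ≤ m
  · exact (large_case q m hq3 hm8 hdvd).elim
  · have hm7 : m ≤ 7 := by omega
    interval_cases m
    · -- m = 1
      have hN : 2 ^ (2 * 1) * Nat.card (GL (Fin (2 * 1)) (ZMod 2)) = 24 := by
        rw [card_GL_two]; simp [Finset.prod_range_succ]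
      rw [hN] at hdvd
      have hb := pow_le_of_dvd q 1 24 (by omega) (by norm_num) hdvd
      have hq24 : q ≤ 24 := by simpa using hb
      interval_cases q <;>
        first
          | (exfalso; norm_num at hq; done)
          | (exfalso; norm_num at hdvd; done)
          | norm_num
    · -- m = 2
      have hN : 2 ^ (2 * 2) * Nat.card (GL (Fin (2 * 2)) (ZMod 2)) = 322560 := by
        rw [card_GL_two]; simp [Finset.prod_range_succ]
      rw [hN] at hdvd
      have hb := pow_le_of_dvd q 3 322560 (by omega) (by norm_num) hdvd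
      have hq68 : q ≤ 68 := by
        by_contra hcon
        have h69 : 69 ≤ q := by omega
        have := Nat.pow_le_pow_left h69 3
        omega
      interval_cases q <;>
        first
          | (exfalso; norm_num at hq; done)
          | (exfalso; norm_num at hdvd; done)
          | norm_num
    · exfalso; norm_num at hℓ
    · -- m = 4
      have hN : 2 ^ (2 * 4) * Nat.card (GL (Fin (2 * 4)) (ZMod 2)) = 1369104324918194995200 := by
        rw [card_GL_two]; simp [Finset.prod_range_succ]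
      rw [hN] at hdvd
      have hb := pow_le_of_dvd q 15 1369104324918194995200 (by omega) (by norm_num) hdvd
      have hq26 : q ≤ 26 := by
        by_contra hcon
        have h27 : 27 ≤ q := by omega
        have := Nat.pow_le_pow_left h27 15
        omega
      exfalso
      interval_cases q <;>
        first
          | (norm_num at hq; done)
          | (norm_num at hdvd)
    · exfalso; norm_num at hℓ
    · exfalso; norm_num at hℓ
    · exfalso; norm_num at hℓ

end Cfsg.Agent.Lib.helper25.Hup
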