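import Mathlib
import Cfsg.Agent.Lib.helper25.Isolated

set_option autoImplicit false

namespace Cfsg.Agent.Lib.helper25

variable {G : Type*} [Group G]

/-- Odd-order elements inverted by `z` are determined by the conjugate of `z` they produce. -/
theorem odd_inverted_unique {z k₁ k₂ : G} (h1 : Odd (orderOf k₁)) (h1' : z * k₁ * z⁻¹ = k₁⁻¹)
    (h2 : Odd (orderOf k₂)) (h2' : z * k₂ * z⁻¹ = k₂⁻¹) (e : k₁ * z * k₁⁻¹ = k₂ * z * k₂⁻¹) :
    k₁ = k₂ := by
  have e' : k₁ * k₁ = k₂ * k₂ := by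
    have : k₁ * k₁ * z = k₂ * k₂ * z := by
      rw [← inverted_conj h1', ← inverted_conj h2', e]
    exact mul_right_cancel this
  exact eq_of_sq_eq_sq_of_odd e' h1 h2

/-- Midpoints exist: for every conjugate `c` of an isolated involution `z` there is a conjugate `m` of `z`
with `m z m⁻¹ = c`. -/
theorem isolated_midpoint_exists [Finite G] {z : G} (hz : Cfsg.IsIsolatedInvolution z) (g : G) :
    ∃ h : G, (h * z * h⁻¹) * z * (h * z * h⁻¹)⁻¹ = g * z * g⁻¹ := by
  obtain ⟨k, hk1, hk2, hk3, -⟩ := isolated_exists_odd_inverted hz g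
  obtain ⟨i, hi⟩ := hk1
  have hzz := isolated_mul_self hz
  have hzinv := isolated_inv hz
  -- k' = k^(i+1) is a square root of k
  have hsq : k ^ (i + 1) * k ^ (i + 1) = k := by
    rw [← pow_add]
    have : i + 1 + (i + 1) = orderOf k + 1 := by omega
    rw [this, pow_succ, pow_orderOf_eq_one, one_mul]
  have hinv : z * k ^ (i + 1) * z⁻¹ = (k ^ (i + 1))⁻¹ := by
    rw [← conj_pow, hk2, inv_pow]
  refine ⟨k ^ (i + 1), ?_⟩
  rw [inverted_conj hinv, hsq, ← hk3]
  rw [mul_inv_rev, hzinv]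
  calc k * z * z * (z * k⁻¹) = k * (z * z) * z * k⁻¹ := by group
    _ = k * z * k⁻¹ := by rw [hzz, mul_one]

/-- Midpoints are unique. -/
theorem isolated_midpoint_unique [Finite G] {z : G} (hz : Cfsg.IsIsolatedInvolution z) (g₁ g₂ : G)
    (e : (g₁ * z * g₁⁻¹) * z * (g₁ * z * g₁⁻¹)⁻¹ = (g₂ * z * g₂⁻¹) * z * (g₂ * z * g₂⁻¹)⁻¹) :
    g₁ * z * g₁⁻¹ = g₂ * z * g₂⁻¹ := by
  by_contra hne
  have hzz := isolated_mul_self hz
  have h1 := isolated_not_commute hz g₂ g₁ (fun h => hne h.symm)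
  apply h1
  have h2 : (g₂ * z * g₂⁻¹)⁻¹ = g₂ * z * g₂⁻¹ := inv_eq_self_of_mul_self (conj_mul_self hzz g₂)
  generalize g₁ * z * g₁⁻¹ = m₁ at *
  generalize g₂ * z * g₂⁻¹ = m₂ at *
  unfold Commute SemiconjBy
  calc m₂ * m₁ * z = m₂⁻¹ * (m₁ * z * m₁⁻¹) * m₁ := by rw [h2]; group
    _ = m₂⁻¹ * (m₂ * z * m₂⁻¹) * m₁ := by rw [e]
    _ = z * (m₂⁻¹ * m₁) := by group
    _ = z * (m₂ * m₁) := by rw [h2]

/-- `x` is a conjugate of `z`. -/
def IsConjOf (z x : G) : Prop := ∃ g : G, g * z * g⁻¹ = x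

theorem isConjOf_conj {z x : G} (hx : IsConjOf z x) (h : G) : IsConjOf z (h * x * h⁻¹) := by
  obtain ⟨g, rfl⟩ := hx
  exact ⟨h * g, by group⟩

theorem mid_exists [Finite G] {z : G} (hz : Cfsg.IsIsolatedInvolution z) (s x : G)
    (hx : IsConjOf z x) : ∃ m, IsConjOf z m ∧ m * x * m⁻¹ = s * x * s⁻¹ := by
  obtain ⟨a, rfl⟩ := hx
  obtain ⟨h, hh⟩ := isolated_midpoint_exists (isolated_conj hz a) s
  exact ⟨h * (a * z * a⁻¹) * h⁻¹, ⟨h * a, by group⟩, hh⟩

theorem mid_unique [Finite G] {z : G} (hz : Cfsg.IsIsolatedInvolution z) {x m₁ m₂ : G}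
    (hx : IsConjOf z x) (h₁ : IsConjOf z m₁) (h₂ : IsConjOf z m₂)
    (e : m₁ * x * m₁⁻¹ = m₂ * x * m₂⁻¹) : m₁ = m₂ := by
  obtain ⟨a, rfl⟩ := hx
  obtain ⟨g₁, rfl⟩ := h₁
  obtain ⟨g₂, rfl⟩ := h₂
  have e1 : g₁ * z * g₁⁻¹ = (g₁ * a⁻¹) * (a * z * a⁻¹) * (g₁ * a⁻¹)⁻¹ := by group
  have e2 : g₂ * z * g₂⁻¹ = (g₂ * a⁻¹) * (a * z * a⁻¹) * (g₂ * a⁻¹)⁻¹ := by group
  rw [e1, e2] at e ⊢
  exact isolated_midpoint_unique (isolated_conj hz a) _ _ e

/-- The midpoint of `x` and `s x s⁻¹`. -/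
noncomputable def midF [Finite G] {z : G} (hz : Cfsg.IsIsolatedInvolution z) (s : G)
    (x : {x : G // IsConjOf z x}) : G :=
  Classical.choose (mid_exists hz s x.1 x.2)

theorem midF_spec [Finite G] {z : G} (hz : Cfsg.IsIsolatedInvolution z) (s : G)
    (x : {x : G // IsConjOf z x}) :
    IsConjOf z (midF hz s x) ∧ midF hz s x * x.1 * (midF hz s x)⁻¹ = s * x.1 * s⁻¹ :=
  Classical.choose_spec (mid_exists hz s x.1 x.2)

theorem midF_eq [Finite G] {z : G} (hz : Cfsg.IsIsolatedInvolution z) (s : G)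
    (x : {x : G // IsConjOf z x}) {m : G} (hm : IsConjOf z m)
    (e : m * x.1 * m⁻¹ = s * x.1 * s⁻¹) : midF hz s x = m :=
  mid_unique hz x.2 (midF_spec hz s x).1 hm ((midF_spec hz s x).2.trans e.symm)

theorem midF_commute [Finite G] {z : G} (hz : Cfsg.IsIsolatedInvolution z) {s : G}
    (hs : s * s = 1) (x : {x : G // IsConjOf z x}) : Commute (midF hz s x) s := by
  obtain ⟨h1, h2⟩ := midF_spec hz s x
  have hsinv : s⁻¹ = s := inv_eq_self_of_mul_self hs
  have hmm : midF hz s x * midF hz s x = 1 := by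
    obtain ⟨g, hg⟩ := h1
    rw [← hg]
    exact conj_mul_self (isolated_mul_self hz) g
  have hminv := inv_eq_self_of_mul_self hmm
  have h3 : midF hz s x = s * midF hz s x * s⁻¹ := by
    apply midF_eq hz s x (isConjOf_conj h1 s)
    generalize midF hz s x = m at *
    have h4 : s⁻¹ * x.1 * s = m * x.1 * m⁻¹ := by
      rw [h2]; nth_rewrite 1 [hsinv]; nth_rewrite 2 [← hsinv]; rfl
    calc s * m * s⁻¹ * x.1 * (s * m * s⁻¹)⁻¹ = s * (m * (s⁻¹ * x.1 * s) * m⁻¹) * s⁻¹ := by group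
      _ = s * (m * (m * x.1 * m⁻¹) * m⁻¹) * s⁻¹ := by rw [h4]
      _ = s * ((m * m) * x.1 * (m * m)⁻¹) * s⁻¹ := by group
      _ = s * x.1 * s⁻¹ := by rw [hmm]; group
  unfold Commute SemiconjBy
  generalize midF hz s x = m at *
  calc m * s = (s * m * s⁻¹) * s := by rw [← h3]
    _ = s * m := by group

theorem fib_iff {z s h x' : G} (hs : s * s = 1) (hhs : s * h = h * s) :
    (h * z * h⁻¹) * (h * x' * h⁻¹) * (h * z * h⁻¹)⁻¹ = s * (h * x' * h⁻¹) * s⁻¹ ↔
      Commute x' (s * z) := by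
  have hsinv : s⁻¹ = s := inv_eq_self_of_mul_self hs
  have e1 : (h * z * h⁻¹) * (h * x' * h⁻¹) * (h * z * h⁻¹)⁻¹ = h * (z * x' * z⁻¹) * h⁻¹ := by group
  have e2 : s * (h * x' * h⁻¹) * s⁻¹ = h * (s * x' * s⁻¹) * h⁻¹ := by
    calc s * (h * x' * h⁻¹) * s⁻¹ = (s * h) * x' * (s * h)⁻¹ := by group
      _ = (h * s) * x' * (h * s)⁻¹ := by rw [hhs]
      _ = h * (s * x' * s⁻¹) * h⁻¹ := by group
  rw [e1, e2]
  constructor
  · intro e
    have e3 : z * x' * z⁻¹ = s * x' * s⁻¹ := by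
      calc z * x' * z⁻¹ = h⁻¹ * (h * (z * x' * z⁻¹) * h⁻¹) * h := by group
        _ = h⁻¹ * (h * (s * x' * s⁻¹) * h⁻¹) * h := by rw [e]
        _ = s * x' * s⁻¹ := by group
    unfold Commute SemiconjBy
    calc x' * (s * z) = s⁻¹ * (s * x' * s⁻¹) * s * s * z := by group
      _ = s⁻¹ * (z * x' * z⁻¹) * (s * s) * z := by rw [e3]; group
      _ = s * z * x' := by rw [hs, hsinv]; group
  · intro e
    have e3 := e.eq
    congr 2
    calc z * x' * z⁻¹ = s⁻¹ * (s * z * x') * z⁻¹ := by group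
      _ = s⁻¹ * (x' * (s * z)) * z⁻¹ := by rw [e3]
      _ = s⁻¹ * x' * s := by group
      _ = s * x' * s⁻¹ := by rw [hsinv]

/-- The key counting identity in terms of conjugates of `z`. -/
theorem card_conj_eq [Finite G] {z : G} (hz : Cfsg.IsIsolatedInvolution z) {s : G}
    (hs : s * s = 1) (hsz : Commute s z) :
    Nat.card {x : G // IsConjOf z x} =
      Nat.card {x : G // IsConjOf z x ∧ Commute x s} *
        Nat.card {x : G // IsConjOf z x ∧ Commute x (s * z)} := by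
  classical
  let F : {x : G // IsConjOf z x} → {x : G // IsConjOf z x ∧ Commute x s} :=
    fun x => ⟨midF hz s x, (midF_spec hz s x).1, midF_commute hz hs x⟩
  have e1 := (Equiv.sigmaFiberEquiv F).symm
  have : Fintype {x : G // IsConjOf z x ∧ Commute x s} := Fintype.ofFinite _
  rw [Nat.card_congr e1, Nat.card_sigma]
  have hfib : ∀ m : {x : G // IsConjOf z x ∧ Commute x s},
      Nat.card {x : {x : G // IsConjOf z x} // F x = m} =
        Nat.card {x : G // IsConjOf z x ∧ Commute x (s * z)} := by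
    intro m
    have hzH : z ∈ Subgroup.centralizer ({s} : Set G) := by
      rw [Subgroup.mem_centralizer_iff]
      intro y hy
      rw [Set.mem_singleton_iff] at hy
      subst hy
      exact hsz.eq
    obtain ⟨g, hg⟩ := m.2.1
    have hmH : g * z * g⁻¹ ∈ Subgroup.centralizer ({s} : Set G) := by
      rw [Subgroup.mem_centralizer_iff]
      intro y hy
      rw [Set.mem_singleton_iff] at hy
      subst hy
      rw [hg]
      exact m.2.2.eq.symm
    obtain ⟨h, hh, hh2⟩ := isolated_conj_in_subgroup hz _ hzH g hmH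
    rw [hg] at hh2
    have hhs : s * h = h * s := by
      rw [Subgroup.mem_centralizer_iff] at hh
      exact hh s rfl
    apply Nat.card_congr
    refine
      { toFun := fun x => ⟨h⁻¹ * x.1.1 * h, ?_, ?_⟩
        invFun := fun x' => ⟨⟨h * x'.1 * h⁻¹, isConjOf_conj x'.2.1 h⟩, ?_⟩
        left_inv := ?_
        right_inv := ?_ }
    · have := isConjOf_conj x.1.2 h⁻¹
      rwa [inv_inv] at this
    · have h1 : (F x.1).1 = m.1 := congrArg Subtype.val x.2
      have h2 := (midF_spec hz s x.1).2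
      change (F x.1).1 * x.1.1 * (F x.1).1⁻¹ = s * x.1.1 * s⁻¹ at h2
      rw [h1, ← hh2] at h2
      have h3 : x.1.1 = h * (h⁻¹ * x.1.1 * h) * h⁻¹ := by group
      rw [h3] at h2
      exact (fib_iff hs hhs).mp h2
    · apply Subtype.ext
      change midF hz s ⟨h * x'.1 * h⁻¹, isConjOf_conj x'.2.1 h⟩ = m.1
      apply midF_eq hz s _ m.2.1
      rw [← hh2]
      exact (fib_iff hs hhs).mpr x'.2.2
    · intro x
      apply Subtype.ext
      apply Subtype.ext
      change h * (h⁻¹ * x.1.1 * h) * h⁻¹ = x.1.1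
      group
    · intro x'
      apply Subtype.ext
      change h⁻¹ * (h * x'.1 * h⁻¹) * h = x'.1
      group
  simp only [hfib, Finset.sum_const, Finset.card_univ, smul_eq_mul, Nat.card_eq_fintype_card]

/-- `G = K · C` with unique decomposition: `|G| = |C| · |K|`. -/
theorem card_eq_card_centralizer_mul [Finite G] {z : G} (hz : Cfsg.IsIsolatedInvolution z) :
    Nat.card G = Nat.card (Subgroup.centralizer ({z} : Set G)) *
      Nat.card {k : G // Odd (orderOf k) ∧ z * k * z⁻¹ = k⁻¹} := by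
  let φ : {k : G // Odd (orderOf k) ∧ z * k * z⁻¹ = k⁻¹} × Subgroup.centralizer ({z} : Set G) → G :=
    fun p => p.1.1 * p.2.1
  have hφ : Function.Bijective φ := by
    constructor
    · rintro ⟨k, c⟩ ⟨k', c'⟩ e
      change k.1 * c.1 = k'.1 * c'.1 at e
      obtain ⟨k₀, -, huniq⟩ := isolated_coset_unique hz k'.1
      have h1 : k'.1 = k₀ := huniq k'.1 ⟨k'.2, by rw [inv_mul_cancel]; exact Subgroup.one_mem _⟩
      have h2 : k.1 = k₀ := by
        apply huniq k.1 ⟨k.2, ?_⟩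
        have : k'.1⁻¹ * k.1 = c'.1 * c.1⁻¹ := by
          calc k'.1⁻¹ * k.1 = k'.1⁻¹ * (k.1 * c.1) * c.1⁻¹ := by group
            _ = k'.1⁻¹ * (k'.1 * c'.1) * c.1⁻¹ := by rw [e]
            _ = c'.1 * c.1⁻¹ := by group
        rw [this]
        exact Subgroup.mul_mem _ c'.2 (Subgroup.inv_mem _ c.2)
      have h3 : k = k' := Subtype.ext (h2.trans h1.symm)
      subst h3
      have h4 : c = c' := Subtype.ext (mul_left_cancel e)
      rw [h4]
    · intro g
      obtain ⟨k, ⟨hk1, hk2⟩, -⟩ := isolated_coset_unique hz g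
      refine ⟨(⟨k, hk1⟩, ⟨(g⁻¹ * k)⁻¹, Subgroup.inv_mem _ hk2⟩), ?_⟩
      change k * (g⁻¹ * k)⁻¹ = g
      group
  rw [← Nat.card_congr (Equiv.ofBijective φ hφ), Nat.card_prod, mul_comm]

theorem card_K_eq_card_conj [Finite G] {z : G} (hz : Cfsg.IsIsolatedInvolution z) :
    Nat.card {k : G // Odd (orderOf k) ∧ z * k * z⁻¹ = k⁻¹} = Nat.card {x : G // IsConjOf z x} := by
  let φ : {k : G // Odd (orderOf k) ∧ z * k * z⁻¹ = k⁻¹} → {x : G // IsConjOf z x} :=
    fun k => ⟨k.1 * z * k.1⁻¹, ⟨k.1, rfl⟩⟩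
  have hφ : Function.Bijective φ := by
    constructor
    · intro k k' e
      have e' : k.1 * z * k.1⁻¹ = k'.1 * z * k'.1⁻¹ := congrArg Subtype.val e
      exact Subtype.ext (odd_inverted_unique k.2.1 k.2.2 k'.2.1 k'.2.2 e')
    · rintro ⟨x, g, rfl⟩
      obtain ⟨k, hk1, hk2, hk3, -⟩ := isolated_exists_odd_inverted hz g
      exact ⟨⟨k, hk1, hk2⟩, Subtype.ext hk3⟩
  exact Nat.card_congr (Equiv.ofBijective φ hφ)

theorem card_K_commute_eq_card_conj [Finite G] {z : G} (hz : Cfsg.IsIsolatedInvolution z) (c : G)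
    (hc : Commute z c) :
    Nat.card {k : G // Odd (orderOf k) ∧ z * k * z⁻¹ = k⁻¹ ∧ Commute k c} =
      Nat.card {x : G // IsConjOf z x ∧ Commute x c} := by
  let φ : {k : G // Odd (orderOf k) ∧ z * k * z⁻¹ = k⁻¹ ∧ Commute k c} →
      {x : G // IsConjOf z x ∧ Commute x c} :=
    fun k => ⟨k.1 * z * k.1⁻¹, ⟨k.1, rfl⟩, (k.2.2.2.mul_left hc).mul_left k.2.2.2.inv_left⟩
  have hφ : Function.Bijective φ := by
    constructor
    · intro k k' e
      have e' : k.1 * z * k.1⁻¹ = k'.1 * z * k'.1⁻¹ := congrArg Subtype.val e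
      exact Subtype.ext (odd_inverted_unique k.2.1 k.2.2.1 k'.2.1 k'.2.2.1 e')
    · rintro ⟨x, ⟨g, rfl⟩, hx⟩
      obtain ⟨k, hk1, hk2, hk3, hk4⟩ := isolated_exists_odd_inverted hz g
      refine ⟨⟨k, hk1, hk2, ?_⟩, Subtype.ext hk3⟩
      obtain ⟨n, rfl⟩ := Subgroup.mem_zpowers_iff.mp hk4
      exact (hx.mul_left hc).zpow_left n
  exact Nat.card_congr (Equiv.ofBijective φ hφ)

/-- `S1186`-type statement. -/
theorem isolated_card_formula [Finite G] {z : G} (hz : Cfsg.IsIsolatedInvolution z) (s : G)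
    (hs : orderOf s = 2) (hsz : Commute s z) :
    Nat.card G = Nat.card (Subgroup.centralizer ({z} : Set G)) *
      Nat.card {k : G // Odd (orderOf k) ∧ z * k * z⁻¹ = k⁻¹ ∧ Commute k (s * z)} *
      Nat.card {k : G // Odd (orderOf k) ∧ z * k * z⁻¹ = k⁻¹ ∧ Commute k s} := by
  have hss : s * s = 1 := by
    have := pow_orderOf_eq_one s
    rwa [hs, pow_two] at this
  rw [card_eq_card_centralizer_mul hz, card_K_eq_card_conj hz, card_conj_eq hz hss hsz,
    card_K_commute_eq_card_conj hz s hsz.symm,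
    card_K_commute_eq_card_conj hz (s * z) (hsz.symm.mul_right (Commute.refl z))]
  ring

end Cfsg.Agent.Lib.helper25
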