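import Mathlib
import Cfsg.Prelude.Def_Solvable
import Cfsg.Agent.S0566
import Cfsg.Agent.Lib.helper12.Conj
import Cfsg.Agent.Lib.helper12.MinNormal
import Cfsg.Agent.Lib.helper27.Radical

/-!
Kegel–Wielandt, the "common prime" lemma (Amberg–Franciosi–de Giovanni 2.4.1, for a prime `p`):
if `X` permutes with every conjugate of `Y` and all these products are `p`-subgroups, then the
normal closures of `X` and `Y` commute modulo `O_p(G)`.
-/

set_option autoImplicit false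
open Pointwise

namespace Cfsg.Agent.Lib.helper25.KW

universe u

variable {G : Type u} [Group G]

/-- `X` permutes with every conjugate of `Y`, the product being a `p`-subgroup. -/
def PermPair (p : ℕ) (X Y : Subgroup G) : Prop :=
  ∀ g : G, ∃ S : Subgroup G, IsPGroup p S ∧
    ∀ z : G, z ∈ S ↔ ∃ a ∈ X, ∃ b ∈ Y, z = a * (g * b * g⁻¹)

theorem PermPair.symm {p : ℕ} {X Y : Subgroup G} (h : PermPair p X Y) : PermPair p Y X := by
  intro g
  obtain ⟨S, hS, hmem⟩ := h g⁻¹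
  refine ⟨S.map (MulAut.conj g).toMonoidHom, hS.map _, ?_⟩
  intro z
  constructor
  · rintro ⟨w, hw, rfl⟩
    obtain ⟨a, ha, b, hb, hab⟩ := (hmem w⁻¹).1 (S.inv_mem hw)
    refine ⟨b⁻¹, Y.inv_mem hb, a⁻¹, X.inv_mem ha, ?_⟩
    have hw' : w = (a * (g⁻¹ * b * g⁻¹⁻¹))⁻¹ := by rw [← hab, inv_inv]
    simp only [MulEquiv.coe_toMonoidHom, MulAut.conj_apply]
    rw [hw']
    group
  · rintro ⟨b, hb, a, ha, rfl⟩
    refine ⟨g⁻¹ * b * g * a, ?_, ?_⟩
    · have : (g⁻¹ * b * g * a)⁻¹ ∈ S := by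
        rw [hmem]
        exact ⟨a⁻¹, X.inv_mem ha, b⁻¹, Y.inv_mem hb, by group⟩
      exact (S.inv_mem_iff).1 this
    · simp only [MulEquiv.coe_toMonoidHom, MulAut.conj_apply]
      group

theorem PermPair.isPGroup_left {p : ℕ} {X Y : Subgroup G} (h : PermPair p X Y) : IsPGroup p X := by
  obtain ⟨S, hS, hmem⟩ := h 1
  refine hS.to_le ?_
  intro x hx
  rw [hmem]
  exact ⟨x, hx, 1, Y.one_mem, by group⟩

theorem PermPair.isPGroup_right {p : ℕ} {X Y : Subgroup G} (h : PermPair p X Y) : IsPGroup p Y :=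
  h.symm.isPGroup_left

theorem PermPair.map_mk {p : ℕ} {X Y : Subgroup G} (h : PermPair p X Y) (N : Subgroup G)
    [N.Normal] :
    PermPair p (X.map (QuotientGroup.mk' N)) (Y.map (QuotientGroup.mk' N)) := by
  intro q
  obtain ⟨g, rfl⟩ := QuotientGroup.mk'_surjective N q
  obtain ⟨S, hS, hmem⟩ := h g
  refine ⟨S.map (QuotientGroup.mk' N), hS.map _, ?_⟩
  intro z
  constructor
  · rintro ⟨w, hw, rfl⟩
    obtain ⟨a, ha, b, hb, rfl⟩ := (hmem w).1 hw
    exact ⟨_, Subgroup.mem_map_of_mem _ ha, _, Subgroup.mem_map_of_mem _ hb, by simp⟩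
  · rintro ⟨_, ⟨a, ha, rfl⟩, _, ⟨b, hb, rfl⟩, rfl⟩
    exact ⟨a * (g * b * g⁻¹), (hmem _).2 ⟨a, ha, b, hb, rfl⟩, by simp⟩

/-- Transport of a permuting family to a subgroup `H` containing `X'`. -/
theorem permPair_subgroupOf {p : ℕ} (H X' Y' : Subgroup G) (hX : X' ≤ H)
    (h : ∀ h ∈ H, ∃ S : Subgroup G, IsPGroup p S ∧
      ∀ z : G, z ∈ S ↔ ∃ a ∈ X', ∃ b ∈ Y', z = a * (h * b * h⁻¹)) :
    PermPair p (X'.subgroupOf H) (Y'.subgroupOf H) := by
  rintro ⟨h0, hh0⟩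
  obtain ⟨S, hS, hmem⟩ := h h0 hh0
  refine ⟨S.subgroupOf H, hS.comap_subtype, ?_⟩
  intro z
  rw [Subgroup.mem_subgroupOf, hmem]
  constructor
  · rintro ⟨a, ha, b, hb, hz⟩
    have haH : a ∈ H := hX ha
    have h1 : h0 * b * h0⁻¹ ∈ H := by
      have : h0 * b * h0⁻¹ = a⁻¹ * (z : G) := by rw [hz]; group
      rw [this]
      exact H.mul_mem (H.inv_mem haH) z.2
    have hbH : b ∈ H := by
      have : b = h0⁻¹ * (h0 * b * h0⁻¹) * h0 := by group
      rw [this]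
      exact H.mul_mem (H.mul_mem (H.inv_mem hh0) h1) hh0
    refine ⟨⟨a, haH⟩, Subgroup.mem_subgroupOf.2 ha, ⟨b, hbH⟩, Subgroup.mem_subgroupOf.2 hb, ?_⟩
    apply Subtype.ext
    simpa using hz
  · rintro ⟨a, ha, b, hb, rfl⟩
    exact ⟨a, Subgroup.mem_subgroupOf.1 ha, b, Subgroup.mem_subgroupOf.1 hb, by simp⟩

section cores

variable [Finite G] (p : ℕ)

theorem pCore_quot : Cfsg.pCore p (G ⧸ Cfsg.pCore p G) = ⊥ := by
  have hT : IsPGroup p (Cfsg.pCore p (G ⧸ Cfsg.pCore p G)) :=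
    Cfsg.Agent.Lib.helper27.pCore_isPGroup p
  have hTn : (Cfsg.pCore p (G ⧸ Cfsg.pCore p G)).Normal := Subgroup.normal_of_characteristic _
  have hCn : ((Cfsg.pCore p (G ⧸ Cfsg.pCore p G)).comap
      (QuotientGroup.mk' (Cfsg.pCore p G))).Normal := hTn.comap _
  have hCp : IsPGroup p ((Cfsg.pCore p (G ⧸ Cfsg.pCore p G)).comap
      (QuotientGroup.mk' (Cfsg.pCore p G))) := by
    refine hT.comap_of_ker_isPGroup _ ?_
    rw [QuotientGroup.ker_mk']
    exact Cfsg.Agent.Lib.helper27.pCore_isPGroup p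
  have hC := Cfsg.Agent.Lib.helper27.normal_pGroup_le_pCore p _ hCp
  rw [eq_bot_iff]
  intro t ht
  obtain ⟨g, rfl⟩ := QuotientGroup.mk'_surjective (Cfsg.pCore p G) t
  have hg : g ∈ Cfsg.pCore p G := hC ht
  rw [Subgroup.mem_bot]
  exact (QuotientGroup.eq_one_iff g).2 hg

/-- The `p`-core of a normal subgroup lies in the `p`-core of the group. -/
theorem map_pCore_normal_le (N : Subgroup G) [hN : N.Normal] :
    (Cfsg.pCore p ↥N).map N.subtype ≤ Cfsg.pCore p G := by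
  have h1 := Cfsg.Agent.Lib.helper27.normalizer_le_normalizer_map_subtype_of_characteristic N
    (Cfsg.pCore p ↥N)
  rw [Subgroup.normalizer_eq_top_iff.2 hN, top_le_iff] at h1
  have hn : ((Cfsg.pCore p ↥N).map N.subtype).Normal := Subgroup.normalizer_eq_top_iff.1 h1
  exact Cfsg.Agent.Lib.helper27.normal_pGroup_le_pCore p _
    (Cfsg.Agent.Lib.helper27.map_pCore_isPGroup p N)

/-- `O_p(H) ∩ N ≤ O_p(G)` for `N ⊴ G`, `N ≤ H`. -/
theorem map_pCore_inf_normal_le (H N : Subgroup G) [hN : N.Normal] (hNH : N ≤ H) :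
    (Cfsg.pCore p ↥H).map H.subtype ⊓ N ≤ Cfsg.pCore p G := by
  have hHn := Cfsg.Agent.Lib.helper27.le_normalizer_map_subtype_of_characteristic H
    (Cfsg.pCore p ↥H)
  have hnorm : N ≤ Subgroup.normalizer
      (((Cfsg.pCore p ↥H).map H.subtype ⊓ N : Subgroup G) : Set G) := by
    intro n hn
    have h1 := hHn (hNH hn)
    rw [Subgroup.mem_normalizer_iff] at h1 ⊢
    intro h
    rw [Subgroup.mem_inf, Subgroup.mem_inf, ← h1 h]
    constructor
    · rintro ⟨ha, hb⟩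
      exact ⟨ha, hN.conj_mem h hb n⟩
    · rintro ⟨ha, hb⟩
      refine ⟨ha, ?_⟩
      have := hN.conj_mem _ hb n⁻¹
      have e : n⁻¹ * (n * h * n⁻¹) * n⁻¹⁻¹ = h := by group
      rwa [e] at this
  have hp : IsPGroup p ((Cfsg.pCore p ↥H).map H.subtype ⊓ N : Subgroup G) :=
    (Cfsg.Agent.Lib.helper27.map_pCore_isPGroup p H).to_le inf_le_left
  exact (Cfsg.Agent.Lib.helper27.le_map_pCore_of_normal inf_le_right hnorm hp).trans
    (map_pCore_normal_le p N)

omit [Finite G] in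
/-- A `p`-element of `M` centralizing the normal subgroup `M` is trivial if `O_p(G) = 1`. -/
theorem eq_one_of_central_pelt (hR : Cfsg.pCore p G = ⊥) (M : Subgroup G) [hM : M.Normal]
    (b : G) (hbM : b ∈ M) (hc : ∀ m ∈ M, m * b = b * m) (hk : ∃ k : ℕ, b ^ (p ^ k) = 1) :
    b = 1 := by
  let T : Subgroup G :=
    { carrier := {z | z ∈ M ∧ (∀ m ∈ M, m * z = z * m) ∧ ∃ k : ℕ, z ^ (p ^ k) = 1}
      one_mem' := ⟨M.one_mem, fun m _ => by simp, 0, by simp⟩
      mul_mem' := by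
        rintro z₁ z₂ ⟨h1, c1, k1, e1⟩ ⟨h2, c2, k2, e2⟩
        refine ⟨M.mul_mem h1 h2, ?_, k1 + k2, ?_⟩
        · intro m hm
          rw [← mul_assoc, c1 m hm, mul_assoc, c2 m hm, ← mul_assoc]
        · have hcomm : Commute z₁ z₂ := (c1 z₂ h2).symm
          rw [hcomm.mul_pow, pow_add, pow_mul, e1, one_pow, mul_comm (p ^ k1) (p ^ k2), pow_mul, e2,
            one_pow, one_mul]
      inv_mem' := by
        rintro z ⟨h1, c1, k1, e1⟩
        refine ⟨M.inv_mem h1, ?_, k1, by rw [inv_pow, e1, inv_one]⟩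
        intro m hm
        have := c1 m hm
        calc m * z⁻¹ = z⁻¹ * (z * m) * z⁻¹ := by group
          _ = z⁻¹ * (m * z) * z⁻¹ := by rw [this]
          _ = z⁻¹ * m := by group }
  have hTn : T.Normal := by
    constructor
    rintro n ⟨h1, c1, k1, e1⟩ g
    refine ⟨hM.conj_mem n h1 g, ?_, k1, by rw [conj_pow, e1]; group⟩
    intro m hm
    have hm' : g⁻¹ * m * g ∈ M := by
      have := hM.conj_mem m hm g⁻¹
      simpa using this
    have := c1 _ hm'
    calc m * (g * n * g⁻¹) = g * ((g⁻¹ * m * g) * n) * g⁻¹ := by group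
      _ = g * (n * (g⁻¹ * m * g)) * g⁻¹ := by rw [this]
      _ = g * n * g⁻¹ * m := by group
  have hTp : IsPGroup p T := by
    rintro ⟨t, ht⟩
    obtain ⟨k, hk⟩ := ht.2.2
    exact ⟨k, Subtype.ext (by simpa using hk)⟩
  have hT := Cfsg.Agent.Lib.helper27.normal_pGroup_le_pCore p T hTp
  rw [hR] at hT
  have hbT : b ∈ T := ⟨hbM, hc, hk⟩
  exact Subgroup.mem_bot.1 (hT hbT)

end cores

end Cfsg.Agent.Lib.helper25.KW
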