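import Mathlib
import Cfsg.Agent.Lib.helper25.KW1

/-!
Kegel–Wielandt, the "common prime" lemma: the induction.
-/

set_option autoImplicit false
open Pointwise
open scoped commutatorElement

namespace Cfsg.Agent.Lib.helper25.KW

universe u

/-- The induction hypothesis, packaged. -/
def IHyp (p : ℕ) (G : Type u) [Group G] : Prop :=
  ∀ (H : Type u) [Group H] [Finite H], Nat.card H < Nat.card G →
    ∀ X Y : Subgroup H, PermPair p X Y →
      ∀ x ∈ X, ∀ y ∈ Y, ∀ g : H, ⁅x, g * y * g⁻¹⁆ ∈ Cfsg.pCore p H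

variable {G : Type u} [Group G] [Finite G] {p : ℕ}

theorem card_lt_of_ne_top (H : Subgroup G) (hH : H ≠ ⊤) : Nat.card H < Nat.card G := by
  refine lt_of_le_of_ne (Subgroup.card_le_card_group H) ?_
  intro h
  exact hH ((Subgroup.card_eq_iff_eq_top H).1 h)

theorem caseB (IH : IHyp p G) (hR : Cfsg.pCore p G = ⊥) (X Y : Subgroup G)
    (hXY : PermPair p X Y)
    (hH : Subgroup.normalClosure (Y : Set G) ⊔ X ≠ ⊤) :
    ∀ x ∈ X, ∀ y ∈ Y, ∀ g : G, ⁅x, g * y * g⁻¹⁆ = 1 := by
  intro x hx y hy g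
  have hLn : (Subgroup.normalClosure (Y : Set G)).Normal := Subgroup.normalClosure_normal
  have hXH : X ≤ Subgroup.normalClosure (Y : Set G) ⊔ X := le_sup_right
  have hLH : Subgroup.normalClosure (Y : Set G) ≤ Subgroup.normalClosure (Y : Set G) ⊔ X :=
    le_sup_left
  have hyL : g * y * g⁻¹ ∈ Subgroup.normalClosure (Y : Set G) :=
    hLn.conj_mem y (Subgroup.subset_normalClosure hy) g
  have hPP : PermPair p (X.subgroupOf (Subgroup.normalClosure (Y : Set G) ⊔ X))
      ((Y.map (MulAut.conj g).toMonoidHom).subgroupOf (Subgroup.normalClosure (Y : Set G) ⊔ X)) := by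
    refine permPair_subgroupOf _ X _ hXH ?_
    intro h _
    obtain ⟨S, hS, hmem⟩ := hXY (h * g)
    refine ⟨S, hS, ?_⟩
    intro z
    rw [hmem]
    constructor
    · rintro ⟨a, ha, b, hb, rfl⟩
      exact ⟨a, ha, g * b * g⁻¹, ⟨b, hb, by simp⟩, by group⟩
    · rintro ⟨a, ha, _, ⟨b, hb, rfl⟩, rfl⟩
      refine ⟨a, ha, b, hb, ?_⟩
      simp only [MulEquiv.coe_toMonoidHom, MulAut.conj_apply]
      group
  have key := IH ↥(Subgroup.normalClosure (Y : Set G) ⊔ X) (card_lt_of_ne_top _ hH) _ _ hPP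
    ⟨x, hXH hx⟩ (Subgroup.mem_subgroupOf.2 hx)
    ⟨g * y * g⁻¹, hLH hyL⟩ (Subgroup.mem_subgroupOf.2 ⟨y, hy, by simp⟩) 1
  have hc : ⁅x, g * y * g⁻¹⁆ ∈
      (Cfsg.pCore p ↥(Subgroup.normalClosure (Y : Set G) ⊔ X)).map
        (Subgroup.normalClosure (Y : Set G) ⊔ X).subtype := by
    refine ⟨_, key, ?_⟩
    simp [commutatorElement_def]
  have hcL : ⁅x, g * y * g⁻¹⁆ ∈ Subgroup.normalClosure (Y : Set G) := by
    rw [commutatorElement_def]
    have := hLn.conj_mem _ hyL x
    exact Subgroup.mul_mem _ this (Subgroup.inv_mem _ hyL)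
  have := map_pCore_inf_normal_le p _ _ hLH ⟨hc, hcL⟩
  rw [hR] at this
  exact Subgroup.mem_bot.1 this

theorem caseC (IH : IHyp p G) (hR : Cfsg.pCore p G = ⊥) (X Y : Subgroup G)
    (hXY : PermPair p X Y)
    (hM : Subgroup.normalClosure (X : Set G) ≠ ⊤)
    (hLX : Subgroup.normalClosure (Y : Set G) ⊔ X = ⊤) : X = ⊥ := by
  have hMn : (Subgroup.normalClosure (X : Set G)).Normal := Subgroup.normalClosure_normal
  have hXM : X ≤ Subgroup.normalClosure (X : Set G) := Subgroup.le_normalClosure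
  have hYp : IsPGroup p Y := hXY.isPGroup_right
  -- (C1)
  have hC1 : ∀ b ∈ Y, b ∈ Subgroup.normalClosure (X : Set G) → b = 1 := by
    intro b hb hbM
    have hcomm : ∀ a ∈ X, ∀ g : G, (g * a * g⁻¹) * b = b * (g * a * g⁻¹) := by
      intro a ha g
      have hXg : X.map (MulAut.conj g).toMonoidHom ≤ Subgroup.normalClosure (X : Set G) := by
        rintro _ ⟨a', ha', rfl⟩
        simpa using hMn.conj_mem a' (hXM ha') g
      have hPP : PermPair p
          ((X.map (MulAut.conj g).toMonoidHom).subgroupOf (Subgroup.normalClosure (X : Set G)))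
          (Y.subgroupOf (Subgroup.normalClosure (X : Set G))) := by
        refine permPair_subgroupOf _ _ Y hXg ?_
        intro m _
        obtain ⟨S, hS, hmem⟩ := hXY (g⁻¹ * m)
        refine ⟨S.map (MulAut.conj g).toMonoidHom, hS.map _, ?_⟩
        intro z
        constructor
        · rintro ⟨w, hw, rfl⟩
          obtain ⟨a', ha', b', hb', rfl⟩ := (hmem w).1 hw
          refine ⟨g * a' * g⁻¹, ⟨a', ha', by simp⟩, b', hb', ?_⟩
          simp only [MulEquiv.coe_toMonoidHom, MulAut.conj_apply]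
          group
        · rintro ⟨_, ⟨a', ha', rfl⟩, b', hb', rfl⟩
          refine ⟨a' * ((g⁻¹ * m) * b' * (g⁻¹ * m)⁻¹), (hmem _).2 ⟨a', ha', b', hb', rfl⟩, ?_⟩
          simp only [MulEquiv.coe_toMonoidHom, MulAut.conj_apply]
          group
      have key := IH ↥(Subgroup.normalClosure (X : Set G)) (card_lt_of_ne_top _ hM) _ _ hPP
        ⟨g * a * g⁻¹, hXg ⟨a, ha, by simp⟩⟩ (Subgroup.mem_subgroupOf.2 ⟨a, ha, by simp⟩)
        ⟨b, hbM⟩ (Subgroup.mem_subgroupOf.2 hb) 1
      have hc : ⁅g * a * g⁻¹, b⁆ ∈ (Cfsg.pCore p ↥(Subgroup.normalClosure (X : Set G))).map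
          (Subgroup.normalClosure (X : Set G)).subtype := by
        refine ⟨_, key, ?_⟩
        simp [commutatorElement_def]
      have := map_pCore_normal_le p _ hc
      rw [hR, Subgroup.mem_bot] at this
      exact (commutatorElement_eq_one_iff_commute.1 this).eq
    have hcent : ∀ m ∈ Subgroup.normalClosure (X : Set G), m * b = b * m := by
      have : Subgroup.normalClosure (X : Set G) ≤ Subgroup.centralizer ({b} : Set G) := by
        show Subgroup.closure (Group.conjugatesOfSet (X : Set G)) ≤ _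
        rw [Subgroup.closure_le]
        intro c hc
        obtain ⟨a, ha, hac⟩ := Group.mem_conjugatesOfSet_iff.1 hc
        obtain ⟨g, rfl⟩ := isConj_iff.1 hac
        rw [SetLike.mem_coe, Subgroup.mem_centralizer_iff]
        intro h hh
        rw [Set.mem_singleton_iff] at hh
        rw [hh]
        exact (hcomm a ha g).symm
      intro m hm
      have := Subgroup.mem_centralizer_iff.1 (this hm) b rfl
      exact this.symm
    obtain ⟨k, hk⟩ := hYp ⟨b, hb⟩
    exact eq_one_of_central_pelt p hR _ b hbM hcent ⟨k, by simpa using congrArg Subtype.val hk⟩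
  -- (C2)
  have hC2 : ∀ g : G, ∀ y ∈ Y, ∀ x ∈ X, (g * y * g⁻¹) * x * (g * y * g⁻¹)⁻¹ ∈ X := by
    intro g y hy x hx
    obtain ⟨S, hS, hmem⟩ := hXY g
    have hxS : x ∈ S := (hmem x).2 ⟨x, hx, 1, Y.one_mem, by group⟩
    have huS : g * y * g⁻¹ ∈ S := (hmem _).2 ⟨1, X.one_mem, y, hy, by group⟩
    have hwS := S.mul_mem (S.mul_mem huS hxS) (S.inv_mem huS)
    obtain ⟨a, ha, b, hb, hw⟩ := (hmem _).1 hwS
    have hwM : (g * y * g⁻¹) * x * (g * y * g⁻¹)⁻¹ ∈ Subgroup.normalClosure (X : Set G) :=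
      hMn.conj_mem x (hXM hx) _
    have hbM : b ∈ Subgroup.normalClosure (X : Set G) := by
      have h1 : g * b * g⁻¹ ∈ Subgroup.normalClosure (X : Set G) := by
        have : g * b * g⁻¹ = a⁻¹ * ((g * y * g⁻¹) * x * (g * y * g⁻¹)⁻¹) := by rw [hw]; group
        rw [this]
        exact Subgroup.mul_mem _ (Subgroup.inv_mem _ (hXM ha)) hwM
      have := hMn.conj_mem _ h1 g⁻¹
      have e : g⁻¹ * (g * b * g⁻¹) * g⁻¹⁻¹ = b := by group
      rwa [e] at this
    have hb1 := hC1 b hb hbM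
    rw [hw, hb1]
    simpa using ha
  -- (C3)
  have hC3 : Subgroup.normalClosure (Y : Set G) ≤ Subgroup.normalizer (X : Set G) := by
    show Subgroup.closure (Group.conjugatesOfSet (Y : Set G)) ≤ _
    rw [Subgroup.closure_le]
    intro c hc
    obtain ⟨y, hy, hyc⟩ := Group.mem_conjugatesOfSet_iff.1 hc
    obtain ⟨g, rfl⟩ := isConj_iff.1 hyc
    rw [SetLike.mem_coe, Subgroup.mem_normalizer_iff]
    intro h
    constructor
    · intro hh
      exact hC2 g y hy h hh
    · intro hh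
      have := hC2 g y⁻¹ (Y.inv_mem hy) _ hh
      have e : g * y⁻¹ * g⁻¹ * (g * y * g⁻¹ * h * (g * y * g⁻¹)⁻¹) * (g * y⁻¹ * g⁻¹)⁻¹ = h := by
        group
      rwa [e] at this
  have hXn : X.Normal := by
    rw [← Subgroup.normalizer_eq_top_iff, eq_top_iff, ← hLX]
    exact sup_le hC3 Subgroup.le_normalizer
  have := Cfsg.Agent.Lib.helper27.normal_pGroup_le_pCore p X hXY.isPGroup_left
  rwa [hR, le_bot_iff] at this

theorem step (IH : IHyp p G) (hR : Cfsg.pCore p G = ⊥) (X Y : Subgroup G)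
    (hXY : PermPair p X Y)
    (hM : Subgroup.normalClosure (X : Set G) ≠ ⊤) :
    ∀ x ∈ X, ∀ y ∈ Y, ∀ g : G, ⁅x, g * y * g⁻¹⁆ = 1 := by
  by_cases hLX : Subgroup.normalClosure (Y : Set G) ⊔ X = ⊤
  · have hX := caseC IH hR X Y hXY hM hLX
    intro x hx y hy g
    rw [hX, Subgroup.mem_bot] at hx
    rw [hx]
    simp
  · exact caseB IH hR X Y hXY hLX

theorem core_case (IH : IHyp p G) (hR : Cfsg.pCore p G = ⊥) (X Y : Subgroup G)
    (hXY : PermPair p X Y) :
    ∀ x ∈ X, ∀ y ∈ Y, ∀ g : G, ⁅x, g * y * g⁻¹⁆ = 1 := by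
  by_cases hX : X = ⊥
  · intro x hx y hy g
    rw [hX, Subgroup.mem_bot] at hx
    rw [hx]
    simp
  by_cases hY : Y = ⊥
  · intro x hx y hy g
    rw [hY, Subgroup.mem_bot] at hy
    rw [hy]
    simp
  have hkegel : ∀ g : G, ∃ S : Subgroup G, S ≠ ⊤ ∧
      (S : Set G) = (X : Set G) * ((MulAut.conj g • Y : Subgroup G) : Set G) := by
    intro g
    obtain ⟨S, hS, hmem⟩ := hXY g
    refine ⟨S, ?_, ?_⟩
    · rintro rfl
      have := Cfsg.Agent.Lib.helper27.normal_pGroup_le_pCore p (⊤ : Subgroup G) hS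
      rw [hR] at this
      exact hX (le_bot_iff.1 (le_top.trans this))
    · ext z
      rw [SetLike.mem_coe, hmem, Set.mem_mul]
      constructor
      · rintro ⟨a, ha, b, hb, rfl⟩
        refine ⟨a, ha, g * b * g⁻¹, ?_, rfl⟩
        rw [SetLike.mem_coe, Cfsg.Agent.Lib.helper12.mem_conj_smul_iff]
        have e : g⁻¹ * (g * b * g⁻¹) * g = b := by group
        rwa [e]
      · rintro ⟨a, ha, b', hb', rfl⟩
        rw [SetLike.mem_coe, Cfsg.Agent.Lib.helper12.mem_conj_smul_iff] at hb'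
        exact ⟨a, ha, _, hb', by group⟩
  obtain ⟨N, hNn, hNt, hN⟩ := Cfsg.Agent.S0566.result X Y hX hY hkegel
  rcases hN with hXN | hYN
  · have hM : Subgroup.normalClosure (X : Set G) ≠ ⊤ := by
      intro h
      have := Subgroup.normalClosure_le_normal (N := N) hXN
      rw [h, top_le_iff] at this
      exact hNt this
    exact step IH hR X Y hXY hM
  · have hL : Subgroup.normalClosure (Y : Set G) ≠ ⊤ := by
      intro h
      have := Subgroup.normalClosure_le_normal (N := N) hYN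
      rw [h, top_le_iff] at this
      exact hNt this
    have h := step IH hR Y X hXY.symm hL
    intro x hx y hy g
    have h1 := h y hy x hx g⁻¹
    rw [commutatorElement_eq_one_iff_commute] at h1 ⊢
    have h2 : y * (g⁻¹ * x * g) = (g⁻¹ * x * g) * y := by simpa using h1.eq
    show x * (g * y * g⁻¹) = (g * y * g⁻¹) * x
    calc x * (g * y * g⁻¹) = g * ((g⁻¹ * x * g) * y) * g⁻¹ := by group
      _ = g * (y * (g⁻¹ * x * g)) * g⁻¹ := by rw [h2]
      _ = (g * y * g⁻¹) * x := by group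

/-- **AFG 2.4.1 for a prime**: if `X` permutes with all conjugates of `Y`, the products being
`p`-subgroups, then every element of `X` commutes with every conjugate of every element of `Y`
modulo `O_p(G)`. -/
theorem main (p : ℕ) : ∀ (n : ℕ) (G : Type u) [Group G] [Finite G], Nat.card G = n →
    ∀ X Y : Subgroup G, PermPair p X Y →
      ∀ x ∈ X, ∀ y ∈ Y, ∀ g : G, ⁅x, g * y * g⁻¹⁆ ∈ Cfsg.pCore p G := by
  intro n
  induction n using Nat.strong_induction_on with
  | _ n ih =>
    intro G _ _ hn X Y hXY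
    have IH : IHyp p G := by
      intro H _ _ hlt X' Y' h'
      exact ih (Nat.card H) (hn ▸ hlt) H rfl X' Y' h'
    by_cases hR : Cfsg.pCore p G = ⊥
    · intro x hx y hy g
      rw [hR, Subgroup.mem_bot]
      exact core_case IH hR X Y hXY x hx y hy g
    · intro x hx y hy g
      have hlt := Cfsg.Agent.Lib.helper12.card_quotient_lt (Cfsg.pCore p G) hR
      have key := IH (G ⧸ Cfsg.pCore p G) hlt _ _ (hXY.map_mk (Cfsg.pCore p G))
        (QuotientGroup.mk' _ x) (Subgroup.mem_map_of_mem _ hx)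
        (QuotientGroup.mk' _ y) (Subgroup.mem_map_of_mem _ hy) (QuotientGroup.mk' _ g)
      rw [pCore_quot, Subgroup.mem_bot] at key
      have : QuotientGroup.mk' (Cfsg.pCore p G) ⁅x, g * y * g⁻¹⁆ = 1 := by
        rw [← key]
        simp [map_commutatorElement]
      exact (QuotientGroup.eq_one_iff _).1 this

end Cfsg.Agent.Lib.helper25.KW
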