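import Mathlib
import Cfsg.Agent.S0560
import Cfsg.Agent.Lib.helper25.KW2

/-!
Kegel–Wielandt: reduction of the general case (`G = AB`, `A`, `B` nilpotent ⟹ `G` solvable)
to the coprime case (Wielandt), which enters as the hypothesis `CoprimeKW`.
-/

set_option autoImplicit false
open Pointwise
open scoped commutatorElement

namespace Cfsg.Agent.Lib.helper25.KW

universe u

/-- The coprime case of Kegel–Wielandt (Wielandt's theorem), as a hypothesis. -/
def CoprimeKW : Prop :=
  ∀ (H : Type u) [Group H] [Finite H] (A B : Subgroup H), Group.IsNilpotent A →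
    Group.IsNilpotent B → (Nat.card A).Coprime (Nat.card B) →
    (∀ g : H, ∃ a ∈ A, ∃ b ∈ B, g = a * b) → Group.IsSolvable H

theorem conj_mem_map_subtype {G : Type u} [Group G] (A : Subgroup G) (P : Subgroup A)
    [hP : P.Normal] {a x : G} (ha : a ∈ A) (hx : x ∈ P.map A.subtype) :
    a * x * a⁻¹ ∈ P.map A.subtype := by
  obtain ⟨x', hx', rfl⟩ := hx
  exact ⟨⟨a, ha⟩ * x' * ⟨a, ha⟩⁻¹, hP.conj_mem x' hx' _, by simp⟩

/-- The Sylow products give a permuting pair. -/
theorem permPair_of_sylow {G : Type u} [Group G] (A B : Subgroup G)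
    (hAB : ∀ g : G, ∃ a ∈ A, ∃ b ∈ B, g = a * b) (p : ℕ)
    (P : Subgroup A) (Q : Subgroup B) [hPn : P.Normal] [hQn : Q.Normal]
    (R : Subgroup G) (hR : IsPGroup p R)
    (hPQR : (R : Set G) = ((P.map A.subtype : Subgroup G) : Set G) *
      ((Q.map B.subtype : Subgroup G) : Set G)) :
    PermPair p (P.map A.subtype) (Q.map B.subtype) := by
  intro g
  obtain ⟨a, ha, b, hb, rfl⟩ := hAB g
  refine ⟨R.map (MulAut.conj a).toMonoidHom, hR.map _, ?_⟩
  intro z
  constructor
  · rintro ⟨w, hw, rfl⟩
    have hw' : w ∈ (R : Set G) := hw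
    rw [hPQR, Set.mem_mul] at hw'
    obtain ⟨x', hx', y', hy', rfl⟩ := hw'
    refine ⟨a * x' * a⁻¹, conj_mem_map_subtype A P ha hx', b⁻¹ * y' * b⁻¹⁻¹,
      conj_mem_map_subtype B Q (B.inv_mem hb) hy', ?_⟩
    simp only [MulEquiv.coe_toMonoidHom, MulAut.conj_apply]
    group
  · rintro ⟨x, hx, y, hy, rfl⟩
    refine ⟨(a⁻¹ * x * a⁻¹⁻¹) * (b * y * b⁻¹), ?_, ?_⟩
    · have : (a⁻¹ * x * a⁻¹⁻¹) * (b * y * b⁻¹) ∈ (R : Set G) := by
        rw [hPQR, Set.mem_mul]
        exact ⟨_, conj_mem_map_subtype A P (A.inv_mem ha) hx, _,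
          conj_mem_map_subtype B Q hb hy, rfl⟩
      exact this
    · simp only [MulEquiv.coe_toMonoidHom, MulAut.conj_apply]
      group

theorem solvable_of_commuting_normals {G : Type u} [Group G] (N₁ N₂ : Subgroup G) [N₁.Normal]
    [N₂.Normal] (h : N₁ ≤ Subgroup.centralizer (N₂ : Set G)) [Group.IsSolvable (G ⧸ N₁)]
    [Group.IsSolvable (G ⧸ N₂)] : Group.IsSolvable G := by
  have hK : Group.IsSolvable ↥(N₁ ⊓ N₂) := by
    apply Group.isSolvable_of_comm
    rintro ⟨a, ha1, ha2⟩ ⟨b, hb1, hb2⟩
    apply Subtype.ext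
    exact (Subgroup.mem_centralizer_iff.1 (h ha1) b hb2).symm
  refine Group.isSolvable_of_ker_le_range (N₁ ⊓ N₂).subtype
    ((QuotientGroup.mk' N₁).prod (QuotientGroup.mk' N₂)) ?_
  rw [MonoidHom.ker_prod, QuotientGroup.ker_mk', QuotientGroup.ker_mk', Subgroup.range_subtype]

theorem kw_of_coprime (hcop : CoprimeKW.{u}) : ∀ (n : ℕ) (G : Type u) [Group G] [Finite G],
    Nat.card G = n → ∀ A B : Subgroup G, Group.IsNilpotent A → Group.IsNilpotent B →
      (∀ g : G, ∃ a ∈ A, ∃ b ∈ B, g = a * b) → Group.IsSolvable G := by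
  intro n
  induction n using Nat.strong_induction_on with
  | _ n ih =>
    intro G _ _ hn A B hA hB hAB
    by_contra hns
    -- proper quotients are solvable
    have hquot : ∀ (N : Subgroup G) [N.Normal], N ≠ ⊥ → Group.IsSolvable (G ⧸ N) := by
      intro N hNn hN
      have hlt := Cfsg.Agent.Lib.helper12.card_quotient_lt N hN
      refine ih _ (hn ▸ hlt) (G ⧸ N) rfl (A.map (QuotientGroup.mk' N))
        (B.map (QuotientGroup.mk' N)) ?_ ?_ ?_
      · exact Group.nilpotent_of_surjective ((QuotientGroup.mk' N).subgroupMap A)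
          ((QuotientGroup.mk' N).subgroupMap_surjective A)
      · exact Group.nilpotent_of_surjective ((QuotientGroup.mk' N).subgroupMap B)
          ((QuotientGroup.mk' N).subgroupMap_surjective B)
      · intro q
        obtain ⟨g, rfl⟩ := QuotientGroup.mk'_surjective N q
        obtain ⟨a, ha, b, hb, rfl⟩ := hAB g
        exact ⟨_, Subgroup.mem_map_of_mem _ ha, _, Subgroup.mem_map_of_mem _ hb, map_mul _ _ _⟩
    -- no nontrivial solvable normal subgroup
    have hsolv : ∀ (N : Subgroup G) [N.Normal], Group.IsSolvable N → N = ⊥ := by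
      intro N hNn hNs
      by_contra hN
      have := hquot N hN
      exact hns (Group.isSolvable_of_ker_le_range N.subtype (QuotientGroup.mk' N)
        (by rw [QuotientGroup.ker_mk', Subgroup.range_subtype]))
    by_cases hc : (Nat.card A).Coprime (Nat.card B)
    · exact hns (hcop G A B hA hB hc hAB)
    obtain ⟨p, hp, hpA, hpB⟩ := Nat.Prime.not_coprime_iff_dvd.1 hc
    have hpf : Fact p.Prime := ⟨hp⟩
    obtain ⟨P, Q, R, hPQR⟩ := Cfsg.Agent.S0560.result A B hAB p
    have hPn : (P : Subgroup A).Normal := by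
      have h := ((Group.isNilpotent_of_finite_tfae (G := ↥A)).out 0 3).1 hA
      exact h p hpf P
    have hQn : (Q : Subgroup B).Normal := by
      have h := ((Group.isNilpotent_of_finite_tfae (G := ↥B)).out 0 3).1 hB
      exact h p hpf Q
    have hPerm : PermPair p ((P : Subgroup A).map A.subtype) ((Q : Subgroup B).map B.subtype) :=
      permPair_of_sylow A B hAB p P Q R R.isPGroup' hPQR
    have hXne : (P : Subgroup A).map A.subtype ≠ ⊥ := by
      rw [Ne, Subgroup.map_eq_bot_iff_of_injective _ A.subtype_injective]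
      exact P.ne_bot_of_dvd_card hpA
    have hYne : (Q : Subgroup B).map B.subtype ≠ ⊥ := by
      rw [Ne, Subgroup.map_eq_bot_iff_of_injective _ B.subtype_injective]
      exact Q.ne_bot_of_dvd_card hpB
    have hcore : Cfsg.pCore p G = ⊥ := by
      have hn' : (Cfsg.pCore p G).Normal := Subgroup.normal_of_characteristic _
      have hnil : Group.IsNilpotent (Cfsg.pCore p G) :=
        (Cfsg.Agent.Lib.helper27.pCore_isPGroup p).isNilpotent
      exact hsolv _ inferInstance
    have hcomm := main p _ G rfl _ _ hPerm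
    rw [hcore] at hcomm
    -- the two commuting normal subgroups
    have hN2n : (Subgroup.normalClosure (((Q : Subgroup B).map B.subtype : Subgroup G) : Set G)).Normal :=
      Subgroup.normalClosure_normal
    have hN1n : (Subgroup.centralizer ((Subgroup.normalClosure
        (((Q : Subgroup B).map B.subtype : Subgroup G) : Set G) : Subgroup G) : Set G)).Normal :=
      Subgroup.normal_centralizer
    have hN2 : Subgroup.normalClosure (((Q : Subgroup B).map B.subtype : Subgroup G) : Set G) ≠ ⊥ := by
      intro h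
      exact hYne (le_bot_iff.1 (h ▸ Subgroup.le_normalClosure))
    have hXN1 : (P : Subgroup A).map A.subtype ≤ Subgroup.centralizer ((Subgroup.normalClosure
        (((Q : Subgroup B).map B.subtype : Subgroup G) : Set G) : Subgroup G) : Set G) := by
      intro x hx
      have : Subgroup.normalClosure (((Q : Subgroup B).map B.subtype : Subgroup G) : Set G)
          ≤ Subgroup.centralizer ({x} : Set G) := by
        show Subgroup.closure (Group.conjugatesOfSet _) ≤ _
        rw [Subgroup.closure_le]
        intro c hc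
        obtain ⟨y, hy, hyc⟩ := Group.mem_conjugatesOfSet_iff.1 hc
        obtain ⟨g, rfl⟩ := isConj_iff.1 hyc
        rw [SetLike.mem_coe, Subgroup.mem_centralizer_iff]
        intro h hh
        rw [Set.mem_singleton_iff] at hh
        rw [hh]
        have := hcomm x hx y hy g
        rw [Subgroup.mem_bot, commutatorElement_eq_one_iff_commute] at this
        exact this.eq
      rw [Subgroup.mem_centralizer_iff]
      intro h hh
      have := Subgroup.mem_centralizer_iff.1 (this hh) x rfl
      exact this.symm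
    have hN1 : Subgroup.centralizer ((Subgroup.normalClosure
        (((Q : Subgroup B).map B.subtype : Subgroup G) : Set G) : Subgroup G) : Set G) ≠ ⊥ := by
      intro h
      exact hXne (le_bot_iff.1 (h ▸ hXN1))
    have hs1 := hquot _ hN1
    have hs2 := hquot _ hN2
    exact hns (@solvable_of_commuting_normals G _
      (Subgroup.centralizer ((Subgroup.normalClosure
        (((Q : Subgroup B).map B.subtype : Subgroup G) : Set G) : Subgroup G) : Set G))
      (Subgroup.normalClosure (((Q : Subgroup B).map B.subtype : Subgroup G) : Set G))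
      hN1n hN2n le_rfl hs1 hs2)

/-- Kegel–Wielandt from its coprime case. -/
theorem kegel_wielandt_of_coprime (hcop : CoprimeKW.{u}) {G : Type u} [Group G] [Finite G]
    (A B : Subgroup G) (hA : Group.IsNilpotent A) (hB : Group.IsNilpotent B)
    (hAB : ∀ g : G, ∃ a ∈ A, ∃ b ∈ B, g = a * b) : Group.IsSolvable G :=
  kw_of_coprime hcop _ G rfl A B hA hB hAB

end Cfsg.Agent.Lib.helper25.KW
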