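import Mathlib
import Cfsg.Agent.S0560
import Cfsg.Agent.Lib.helper12.MinNormal
import Cfsg.Agent.Lib.helper12.PGroupCentral
import Cfsg.Agent.Lib.helper25.KW3

/-!
Products of two nilpotent subgroups: a proper normal subgroup containing one of the factors
(given solvability, i.e. Kegel–Wielandt).
-/

set_option autoImplicit false
open Pointwise

namespace Cfsg.Agent.Lib.helper25.KW

universe u

theorem le_normalizer_of_conj {G : Type u} [Group G] (S C : Subgroup G)
    (h : ∀ s ∈ S, ∀ c ∈ C, s * c * s⁻¹ ∈ C) : S ≤ Subgroup.normalizer (C : Set G) := by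
  intro s hs
  rw [Subgroup.mem_normalizer_iff]
  intro c
  constructor
  · exact h s hs c
  · intro hc
    have := h s⁻¹ (S.inv_mem hs) _ hc
    have e : s⁻¹ * (s * c * s⁻¹) * s⁻¹⁻¹ = c := by group
    rwa [e] at this

/-- In a finite nilpotent group every proper subgroup lies in a proper normal subgroup. -/
theorem exists_normal_of_nilpotent {G : Type u} [Group G] [Finite G] (hG : Group.IsNilpotent G)
    (U : Subgroup G) (hU : U ≠ ⊤) : ∃ N : Subgroup G, N.Normal ∧ N ≠ ⊤ ∧ U ≤ N := by
  rcases eq_top_or_exists_le_coatom U with h | ⟨C, hC, hUC⟩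
  · exact absurd h hU
  · have h := ((Group.isNilpotent_of_finite_tfae (G := G)).out 0 2).1 hG
    exact ⟨C, h C hC, hC.1, hUC⟩

/-- Key step: if every nontrivial normal subgroup supplements the proper nilpotent subgroup `U`,
and `M` is an abelian minimal normal `p`-subgroup, then `p ∤ |U|`. -/
theorem not_dvd_card_of_supplements {G : Type u} [Group G] [Finite G] (U : Subgroup G)
    (hsup : ∀ N : Subgroup G, N.Normal → N ≠ ⊥ → U ⊔ N = ⊤) (hU : U ≠ ⊤)
    (hUnil : Group.IsNilpotent U) (M : Subgroup G) [hMn : M.Normal] (hM : M ≠ ⊥)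
    (hmin : ∀ L : Subgroup G, L.Normal → L ≤ M → L = ⊥ ∨ L = M) (p : ℕ) [hp : Fact p.Prime]
    (hMp : IsPGroup p M) (hMc : ∀ x ∈ M, ∀ y ∈ M, x * y = y * x) : ¬ p ∣ Nat.card U := by
  intro hdvd
  obtain ⟨P⟩ : Nonempty (Sylow p U) := inferInstance
  have hPn : (P : Subgroup U).Normal := by
    have h := ((Group.isNilpotent_of_finite_tfae (G := ↥U)).out 0 3).1 hUnil
    exact h p hp P
  have hPne : ((P : Subgroup U).map U.subtype) ≠ ⊥ := by
    rw [Ne, Subgroup.map_eq_bot_iff_of_injective _ U.subtype_injective]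
    exact P.ne_bot_of_dvd_card hdvd
  have hPp : IsPGroup p ((P : Subgroup U).map U.subtype) := P.isPGroup'.map _
  have hPU : (P : Subgroup U).map U.subtype ≤ U := by
    rintro _ ⟨x, _, rfl⟩
    exact x.2
  have hconj : ∀ u ∈ U, ∀ x ∈ (P : Subgroup U).map U.subtype,
      u * x * u⁻¹ ∈ (P : Subgroup U).map U.subtype :=
    fun u hu x hx => conj_mem_map_subtype U (P : Subgroup U) hu hx
  have hUM := hsup M hMn hM
  obtain ⟨x, hxM, hx1, hxc⟩ := Cfsg.Agent.Lib.helper12.exists_central_of_normal_pgroup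
    ((P : Subgroup U).map U.subtype) M hPp hMp hM
  -- C = C_M(U_p) is normal in G
  have hCU : U ≤ Subgroup.normalizer
      ((M ⊓ Subgroup.centralizer (((P : Subgroup U).map U.subtype : Subgroup G) : Set G) :
        Subgroup G) : Set G) := by
    apply le_normalizer_of_conj
    intro u hu c hc
    obtain ⟨hcM, hcC⟩ := Subgroup.mem_inf.1 hc
    refine Subgroup.mem_inf.2 ⟨hMn.conj_mem c hcM u, ?_⟩
    rw [Subgroup.mem_centralizer_iff]
    intro l hl
    have hl' : u⁻¹ * l * u⁻¹⁻¹ ∈ (P : Subgroup U).map U.subtype := hconj _ (U.inv_mem hu) l hl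
    have h1 := Subgroup.mem_centralizer_iff.1 hcC _ hl'
    calc l * (u * c * u⁻¹) = u * ((u⁻¹ * l * u⁻¹⁻¹) * c) * u⁻¹ := by group
      _ = u * (c * (u⁻¹ * l * u⁻¹⁻¹)) * u⁻¹ := by rw [h1]
      _ = u * c * u⁻¹ * l := by group
  have hCM : M ≤ Subgroup.normalizer
      ((M ⊓ Subgroup.centralizer (((P : Subgroup U).map U.subtype : Subgroup G) : Set G) :
        Subgroup G) : Set G) := by
    apply le_normalizer_of_conj
    intro m hm c hc
    obtain ⟨hcM, hcC⟩ := Subgroup.mem_inf.1 hc
    have : m * c * m⁻¹ = c := by rw [hMc m hm c hcM]; group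
    rw [this]
    exact hc
  have hCn : (M ⊓ Subgroup.centralizer (((P : Subgroup U).map U.subtype : Subgroup G) : Set G) :
      Subgroup G).Normal := by
    rw [← Subgroup.normalizer_eq_top_iff, eq_top_iff, ← hUM]
    exact sup_le hCU hCM
  have hCeq : (M ⊓ Subgroup.centralizer (((P : Subgroup U).map U.subtype : Subgroup G) : Set G) :
      Subgroup G) = M := by
    rcases hmin _ hCn inf_le_left with h | h
    · exfalso
      have : x ∈ (M ⊓ Subgroup.centralizer (((P : Subgroup U).map U.subtype : Subgroup G) : Set G) :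
          Subgroup G) := ⟨hxM, Subgroup.mem_centralizer_iff.2 hxc⟩
      rw [h, Subgroup.mem_bot] at this
      exact hx1 this
    · exact h
  have hMcent : ∀ m ∈ M, ∀ l ∈ (P : Subgroup U).map U.subtype, l * m = m * l := by
    intro m hm l hl
    have : m ∈ (M ⊓ Subgroup.centralizer (((P : Subgroup U).map U.subtype : Subgroup G) : Set G) :
        Subgroup G) := by rw [hCeq]; exact hm
    exact Subgroup.mem_centralizer_iff.1 this.2 l hl
  -- hence U_p is normal in G
  have hPnG : ((P : Subgroup U).map U.subtype).Normal := by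
    rw [← Subgroup.normalizer_eq_top_iff, eq_top_iff, ← hUM]
    refine sup_le (le_normalizer_of_conj _ _ hconj) (le_normalizer_of_conj _ _ ?_)
    intro m hm l hl
    have : m * l * m⁻¹ = l := by rw [← hMcent m hm l hl]; group
    rw [this]
    exact hl
  have h2 := hsup _ hPnG hPne
  rw [sup_eq_left.2 hPU] at h2
  exact hU h2

theorem map_mk_ne_top {G : Type u} [Group G] (U N : Subgroup G) [N.Normal] (h : U ⊔ N ≠ ⊤) :
    U.map (QuotientGroup.mk' N) ≠ ⊤ := by
  intro htop
  apply h
  rw [eq_top_iff]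
  intro g _
  have hg : QuotientGroup.mk' N g ∈ U.map (QuotientGroup.mk' N) := by rw [htop]; trivial
  obtain ⟨a, ha, hag⟩ := hg
  have h1 : a⁻¹ * g ∈ N := by
    have := QuotientGroup.eq.1 hag
    exact this
  have : g = a * (a⁻¹ * g) := by group
  rw [this]
  exact Subgroup.mul_mem _ (Subgroup.mem_sup_left ha) (Subgroup.mem_sup_right h1)

theorem normal_of_solvable : ∀ (n : ℕ) (G : Type u) [Group G] [Finite G], Nat.card G = n →
    Group.IsSolvable G → ∀ A B : Subgroup G, Group.IsNilpotent A → Group.IsNilpotent B →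
      (∀ g : G, ∃ a ∈ A, ∃ b ∈ B, g = a * b) → (A ≠ ⊤ ∨ B ≠ ⊤) →
      ∃ N : Subgroup G, N.Normal ∧ N ≠ ⊤ ∧ (A ≤ N ∨ B ≤ N) := by
  intro n
  induction n using Nat.strong_induction_on with
  | _ n ih =>
    intro G _ _ hn hsol A B hA hB hAB hne
    -- the cases where one factor is the whole group
    by_cases hAt : A = ⊤
    · have hBt : B ≠ ⊤ := by
        rcases hne with h | h
        · exact absurd hAt h
        · exact h
      have hG : Group.IsNilpotent G := by
        subst hAt
        exact Group.nilpotent_of_surjective (Subgroup.subtype ⊤)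
          (fun g => ⟨⟨g, Subgroup.mem_top g⟩, rfl⟩)
      obtain ⟨N, hNn, hNt, hBN⟩ := exists_normal_of_nilpotent hG B hBt
      exact ⟨N, hNn, hNt, Or.inr hBN⟩
    by_cases hBt : B = ⊤
    · have hG : Group.IsNilpotent G := by
        subst hBt
        exact Group.nilpotent_of_surjective (Subgroup.subtype ⊤)
          (fun g => ⟨⟨g, Subgroup.mem_top g⟩, rfl⟩)
      obtain ⟨N, hNn, hNt, hAN⟩ := exists_normal_of_nilpotent hG A hAt
      exact ⟨N, hNn, hNt, Or.inl hAN⟩
    by_cases hex : ∃ N : Subgroup G, N.Normal ∧ N ≠ ⊥ ∧ (A ⊔ N ≠ ⊤ ∨ B ⊔ N ≠ ⊤)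
    · obtain ⟨N, hNn, hN, hor⟩ := hex
      have hlt := Cfsg.Agent.Lib.helper12.card_quotient_lt N hN
      have hor' : A.map (QuotientGroup.mk' N) ≠ ⊤ ∨ B.map (QuotientGroup.mk' N) ≠ ⊤ :=
        hor.imp (map_mk_ne_top A N) (map_mk_ne_top B N)
      obtain ⟨N', hN'n, hN't, hN'⟩ := ih _ (hn ▸ hlt) (G ⧸ N) rfl inferInstance
        (A.map (QuotientGroup.mk' N)) (B.map (QuotientGroup.mk' N))
        (Group.nilpotent_of_surjective ((QuotientGroup.mk' N).subgroupMap A)
          ((QuotientGroup.mk' N).subgroupMap_surjective A))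
        (Group.nilpotent_of_surjective ((QuotientGroup.mk' N).subgroupMap B)
          ((QuotientGroup.mk' N).subgroupMap_surjective B))
        (by
          intro q
          obtain ⟨g, rfl⟩ := QuotientGroup.mk'_surjective N q
          obtain ⟨a, ha, b, hb, rfl⟩ := hAB g
          exact ⟨_, Subgroup.mem_map_of_mem _ ha, _, Subgroup.mem_map_of_mem _ hb, map_mul _ _ _⟩)
        hor'
      refine ⟨N'.comap (QuotientGroup.mk' N), hN'n.comap _, ?_, ?_⟩
      · intro h
        apply hN't
        rw [eq_top_iff]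
        intro q _
        obtain ⟨g, rfl⟩ := QuotientGroup.mk'_surjective N q
        have : g ∈ N'.comap (QuotientGroup.mk' N) := by rw [h]; trivial
        exact this
      · exact hN'.imp (fun h => Subgroup.map_le_iff_le_comap.1 h)
          (fun h => Subgroup.map_le_iff_le_comap.1 h)
    · exfalso
      have hsupA : ∀ N : Subgroup G, N.Normal → N ≠ ⊥ → A ⊔ N = ⊤ := by
        intro N hNn hN
        by_contra h
        exact hex ⟨N, hNn, hN, Or.inl h⟩
      have hsupB : ∀ N : Subgroup G, N.Normal → N ≠ ⊥ → B ⊔ N = ⊤ := by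
        intro N hNn hN
        by_contra h
        exact hex ⟨N, hNn, hN, Or.inr h⟩
      have hnt : Nontrivial G := by
        rcases subsingleton_or_nontrivial G with h | h
        · exact absurd (Subsingleton.elim A ⊤) hAt
        · exact h
      obtain ⟨M, hM, hMn, hmin⟩ := Cfsg.Agent.Lib.helper12.exists_minimal_normal (G := G)
      obtain ⟨p, hp, hMp⟩ := Cfsg.Agent.Lib.helper12.minimal_normal_isPGroup M hM hmin
      have hpf : Fact p.Prime := ⟨hp⟩
      have hMc := Cfsg.Agent.Lib.helper12.minimal_normal_comm M hM hmin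
      have hpA := not_dvd_card_of_supplements A hsupA hAt hA M hM hmin p hMp hMc
      have hpB := not_dvd_card_of_supplements B hsupB hBt hB M hM hmin p hMp hMc
      obtain ⟨P, Q, R, hPQR⟩ := Cfsg.Agent.S0560.result A B hAB p
      have hP : (P : Subgroup A) = ⊥ := by
        apply Subgroup.eq_bot_of_card_eq
        rw [P.card_eq_multiplicity, Nat.factorization_eq_zero_of_not_dvd hpA, pow_zero]
      have hQ : (Q : Subgroup B) = ⊥ := by
        apply Subgroup.eq_bot_of_card_eq
        rw [Q.card_eq_multiplicity, Nat.factorization_eq_zero_of_not_dvd hpB, pow_zero]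
      have hR : (R : Subgroup G) = ⊥ := by
        rw [eq_bot_iff]
        intro r hr
        have hr' : r ∈ ((R : Subgroup G) : Set G) := hr
        rw [hPQR, Set.mem_mul] at hr'
        obtain ⟨x, hx, y, hy, rfl⟩ := hr'
        obtain ⟨x', hx', rfl⟩ := Subgroup.mem_map.1 hx
        obtain ⟨y', hy', rfl⟩ := Subgroup.mem_map.1 hy
        have hx1 : x' = 1 := by rw [hP] at hx'; exact Subgroup.mem_bot.1 hx'
        have hy1 : y' = 1 := by rw [hQ] at hy'; exact Subgroup.mem_bot.1 hy'
        rw [hx1, hy1]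
        simp
      have hpG : p ∣ Nat.card G :=
        (Cfsg.Agent.Lib.helper12.dvd_card_of_isPGroup_of_ne_bot hMp hM).trans
          (Subgroup.card_subgroup_dvd_card M)
      exact R.ne_bot_of_dvd_card hpG hR

/-- Products of two nilpotent subgroups, not both the whole group: a proper normal subgroup
contains one of them (from the coprime case of Kegel–Wielandt). -/
theorem proper_normal_of_coprime (hcop : CoprimeKW.{u}) {G : Type u} [Group G] [Finite G]
    (A B : Subgroup G) (hA : Group.IsNilpotent A) (hB : Group.IsNilpotent B)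
    (hAB : ∀ g : G, ∃ a ∈ A, ∃ b ∈ B, g = a * b) (hproper : A ≠ ⊤ ∨ B ≠ ⊤) :
    ∃ N : Subgroup G, N.Normal ∧ N ≠ ⊤ ∧ (A ≤ N ∨ B ≤ N) :=
  normal_of_solvable _ G rfl (kegel_wielandt_of_coprime hcop A B hA hB hAB) A B hA hB hAB hproper

end Cfsg.Agent.Lib.helper25.KW
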