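import Mathlib
import Cfsg.Prelude.Def_LieTypeChar
import Cfsg.Agent.Lib.helper44.LODefs
import Cfsg.Agent.S0243

set_option autoImplicit false

namespace Cfsg.Agent.Lib.helper44.LO

open Cfsg

theorem h25_two_sum_range (k : ℕ) : 2 * ∑ i ∈ Finset.range (k + 1), i = k * (k + 1) := by
  induction k with
  | zero => simp
  | succ k ih =>
    rw [Finset.sum_range_succ, mul_add, ih]
    ring

/-- the arithmetic of `∏ (q^n - q^i)` for `n = m + 3`. -/
theorem h25_psl_arith (q : ℕ) (hq : 2 ≤ q) (m : ℕ) :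
    ∃ N M e : ℕ, (∏ i : Fin (m + 3), (q ^ (m + 3) - q ^ (i : ℕ))) = q ^ N * M ∧
      M < (q - 1) * q ^ e ∧ e ≤ 2 * N ∧ 3 * e ≤ 5 * N ∧
      (∀ p : ℕ, p.Prime → p ∣ q → ¬ p ∣ M) := by
  have hq0 : 0 < q := by omega
  have hpow1 : ∀ j : ℕ, 1 ≤ q ^ j := fun j => Nat.one_le_pow _ _ hq0
  have hpow2 : ∀ j : ℕ, 2 ≤ q ^ (j + 1) := by
    intro j
    calc 2 ≤ q := hq
      _ = q ^ 1 := (pow_one q).symm
      _ ≤ q ^ (j + 1) := Nat.pow_le_pow_right hq0 (by omega)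
  refine ⟨∑ i ∈ Finset.range (m + 3), i, ∏ j ∈ Finset.range (m + 3), (q ^ (j + 1) - 1),
    ∑ j ∈ Finset.range (m + 2), (j + 2), ?_, ?_, ?_, ?_, ?_⟩
  · rw [Fin.prod_univ_eq_prod_range (fun i => q ^ (m + 3) - q ^ i) (m + 3)]
    have h1 : ∀ i ∈ Finset.range (m + 3), q ^ (m + 3) - q ^ i = q ^ i * (q ^ (m + 3 - i) - 1) := by
      intro i hi
      rw [Finset.mem_range] at hi
      rw [Nat.mul_sub, mul_one, ← pow_add]
      congr 2
      omega
    rw [Finset.prod_congr rfl h1, Finset.prod_mul_distrib, Finset.prod_pow_eq_pow_sum]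
    congr 1
    rw [← Finset.prod_range_reflect (fun j => q ^ (j + 1) - 1) (m + 3)]
    apply Finset.prod_congr rfl
    intro j hj
    rw [Finset.mem_range] at hj
    congr 2
    omega
  · rw [Finset.prod_range_succ' (fun j => q ^ (j + 1) - 1) (m + 2)]
    have h1 : ∏ j ∈ Finset.range (m + 2), (q ^ (j + 1 + 1) - 1) <
        ∏ j ∈ Finset.range (m + 2), q ^ (j + 2) := by
      apply Finset.prod_lt_prod_of_nonempty
      · intro j _
        have := hpow2 (j + 1)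
        omega
      · intro j _
        have := hpow1 (j + 2)
        show q ^ (j + 2) - 1 < q ^ (j + 2)
        omega
      · exact ⟨0, Finset.mem_range.2 (by omega)⟩
    rw [Finset.prod_pow_eq_pow_sum] at h1
    have h2 : 0 < q ^ (0 + 1) - 1 := by
      have := hpow2 0
      omega
    have h3 : q ^ (0 + 1) - 1 = q - 1 := by rw [zero_add, pow_one]
    rw [h3] at h2 ⊢
    calc (∏ j ∈ Finset.range (m + 2), (q ^ (j + 1 + 1) - 1)) * (q - 1)
        < q ^ (∑ j ∈ Finset.range (m + 2), (j + 2)) * (q - 1) := Nat.mul_lt_mul_of_pos_right h1 h2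
      _ = (q - 1) * q ^ (∑ j ∈ Finset.range (m + 2), (j + 2)) := mul_comm _ _
  · have hN := h25_two_sum_range (m + 2)
    have he : ∑ j ∈ Finset.range (m + 2), (j + 2) = ∑ j ∈ Finset.range (m + 2), j + 2 * (m + 2) := by
      rw [Finset.sum_add_distrib, Finset.sum_const, Finset.card_range, smul_eq_mul, mul_comm]
    have he2 := h25_two_sum_range (m + 1)
    rw [he]
    nlinarith
  · have hN := h25_two_sum_range (m + 2)
    have he : ∑ j ∈ Finset.range (m + 2), (j + 2) = ∑ j ∈ Finset.range (m + 2), j + 2 * (m + 2) := by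
      rw [Finset.sum_add_distrib, Finset.sum_const, Finset.card_range, smul_eq_mul, mul_comm]
    have he2 := h25_two_sum_range (m + 1)
    rw [he]
    nlinarith
  · intro p hp hpq hpM
    rw [(Nat.Prime.prime hp).dvd_finsetProd_iff] at hpM
    obtain ⟨j, _, hj⟩ := hpM
    have h1 : p ∣ q ^ (j + 1) := dvd_pow hpq (by omega)
    have h2 : p ∣ q ^ (j + 1) - (q ^ (j + 1) - 1) := Nat.dvd_sub h1 hj
    have h3 : q ^ (j + 1) - (q ^ (j + 1) - 1) = 1 := by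
      have := hpow1 (j + 1)
      omega
    rw [h3] at h2
    exact hp.one_lt.ne' (Nat.dvd_one.1 h2)

/-- PSL3 core: the verbatim `lo_psl_ge3` statement with the `lo_good` statement as a hypothesis. -/
theorem h25_lo_psl_ge3_core
    (hgood : ∀ {p : ℕ} (_ : p.Prime) (f : ℕ) (_ : 1 ≤ f) (c n N M e : ℕ)
      (_ : c * n = (p ^ f) ^ N * M) (_ : ¬ p ∣ c) (_ : ¬ p ∣ M) (_ : M < c * (p ^ f) ^ e)
      (_ : e ≤ 2 * N) (_ : 3 * e ≤ 5 * N), LOGood p n)
    {F : Type} [Field F] [Fintype F] (p : ℕ) (hp : p.Prime) [CharP F p] (n : ℕ) (hn : 3 ≤ n) :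
    LOGood p (Nat.card (Matrix.ProjectiveSpecialLinearGroup (Fin n) F)) := by
  obtain ⟨f, _, hf⟩ := FiniteField.card F p
  have hf1 : 1 ≤ (f : ℕ) := f.pos
  obtain ⟨m, rfl⟩ : ∃ m, n = m + 3 := ⟨n - 3, by omega⟩
  have hq2 : 2 ≤ p ^ (f : ℕ) := by
    calc 2 ≤ p := hp.two_le
      _ = p ^ 1 := (pow_one p).symm
      _ ≤ p ^ (f : ℕ) := Nat.pow_le_pow_right hp.pos hf1
  have hpq : p ∣ p ^ (f : ℕ) := dvd_pow_self p (by omega)
  obtain ⟨N, M, e, hprod, hM, h1, h2, hMp⟩ := h25_psl_arith (p ^ (f : ℕ)) hq2 m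
  have hord := Cfsg.Agent.S0243.result (F := F) hf (m + 3) (by omega)
  rw [hprod] at hord
  have hgpos : 0 < Nat.gcd (m + 3) (p ^ (f : ℕ) - 1) := Nat.gcd_pos_of_pos_left _ (by omega)
  refine hgood hp (f : ℕ) hf1 (Nat.gcd (m + 3) (p ^ (f : ℕ) - 1) * (p ^ (f : ℕ) - 1)) _ N M e ?_ ?_
    (hMp p hp hpq) ?_ h1 h2
  · rw [mul_assoc]
    exact hord
  · intro hdvd
    have h3 : p ∣ p ^ (f : ℕ) - 1 := by
      rcases (Nat.Prime.dvd_mul hp).1 hdvd with h | h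
      · exact dvd_trans h (Nat.gcd_dvd_right _ _)
      · exact h
    have h4 : p ∣ p ^ (f : ℕ) - (p ^ (f : ℕ) - 1) := Nat.dvd_sub hpq h3
    have h5 : p ^ (f : ℕ) - (p ^ (f : ℕ) - 1) = 1 := by omega
    rw [h5] at h4
    exact hp.one_lt.ne' (Nat.dvd_one.1 h4)
  · calc M < (p ^ (f : ℕ) - 1) * (p ^ (f : ℕ)) ^ e := hM
      _ = 1 * ((p ^ (f : ℕ) - 1) * (p ^ (f : ℕ)) ^ e) := (one_mul _).symm
      _ ≤ Nat.gcd (m + 3) (p ^ (f : ℕ) - 1) * ((p ^ (f : ℕ) - 1) * (p ^ (f : ℕ)) ^ e) :=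
        Nat.mul_le_mul_right _ hgpos
      _ = Nat.gcd (m + 3) (p ^ (f : ℕ) - 1) * (p ^ (f : ℕ) - 1) * (p ^ (f : ℕ)) ^ e :=
        (mul_assoc _ _ _).symm

end Cfsg.Agent.Lib.helper44.LO
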