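import Mathlib
import Cfsg.Prelude.Def_LieTypeChar
import Cfsg.Agent.Lib.helper44.LODefs
import Cfsg.Agent.Lib.helper6.LOARITH
import Cfsg.Agent.S0245
import Cfsg.Agent.S0246

set_option autoImplicit false

namespace Cfsg.Agent.Lib.helper44.LO

open Cfsg

theorem h25_sum_two_succ (m : ℕ) : ∑ i ∈ Finset.range m, 2 * (i + 1) = m ^ 2 + m := by
  induction m with
  | zero => simp
  | succ k ih =>
    rw [Finset.sum_range_succ, ih]
    ring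

/-- PSP (racer copy of `lo_psp`, verbatim statement). -/
theorem h25_lo_psp {F : Type} [Field F] [Fintype F] (p : ℕ) (hp : p.Prime) [CharP F p] (m : ℕ) (hm : 2 ≤ m) :
    LOGood p (Nat.card (Cfsg.PSp m F)) := by
  obtain ⟨f, _, hf⟩ := FiniteField.card F p
  have hf1 : 1 ≤ (f : ℕ) := f.pos
  have hq2 : 2 ≤ p ^ (f : ℕ) := by
    calc 2 ≤ p := hp.two_le
      _ = p ^ 1 := (pow_one p).symm
      _ ≤ p ^ (f : ℕ) := Nat.pow_le_pow_right hp.pos hf1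
  have hq0 : 0 < p ^ (f : ℕ) := by omega
  have hpq : p ∣ p ^ (f : ℕ) := dvd_pow_self p (by omega)
  have hpow1 : ∀ j : ℕ, 1 ≤ (p ^ (f : ℕ)) ^ j := fun j => Nat.one_le_pow _ _ hq0
  have hpow2 : ∀ j : ℕ, 2 ≤ (p ^ (f : ℕ)) ^ (j + 1) := by
    intro j
    calc 2 ≤ p ^ (f : ℕ) := hq2
      _ = (p ^ (f : ℕ)) ^ 1 := (pow_one _).symm
      _ ≤ (p ^ (f : ℕ)) ^ (j + 1) := Nat.pow_le_pow_right hq0 (by omega)
  have hSp := Cfsg.Agent.S0245.result (F := F) hf m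
  have hZ := Cfsg.Agent.S0246.result (F := F) hf m (by omega)
  have hquot : Nat.card (Matrix.symplecticGroup (Fin m) F) =
      Nat.card (Cfsg.PSp m F) * Nat.card (Subgroup.center (Matrix.symplecticGroup (Fin m) F)) :=
    Subgroup.card_eq_card_quotient_mul_card_subgroup _
  have hgpos : 0 < Nat.gcd 2 (p ^ (f : ℕ) - 1) := Nat.gcd_pos_of_pos_left _ (by omega)
  refine lo_good hp (f : ℕ) hf1 (Nat.gcd 2 (p ^ (f : ℕ) - 1)) _ (m ^ 2)
    (∏ i ∈ Finset.range m, ((p ^ (f : ℕ)) ^ (2 * (i + 1)) - 1)) (m ^ 2 + m) ?_ ?_ ?_ ?_ ?_ ?_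
  · rw [← hZ, mul_comm, ← hquot, hSp]
  · intro hdvd
    have h3 : p ∣ p ^ (f : ℕ) - 1 := dvd_trans hdvd (Nat.gcd_dvd_right _ _)
    have h4 : p ∣ p ^ (f : ℕ) - (p ^ (f : ℕ) - 1) := Nat.dvd_sub hpq h3
    have h5 : p ^ (f : ℕ) - (p ^ (f : ℕ) - 1) = 1 := by omega
    rw [h5] at h4
    exact hp.one_lt.ne' (Nat.dvd_one.1 h4)
  · intro hpM
    rw [(Nat.Prime.prime hp).dvd_finsetProd_iff] at hpM
    obtain ⟨j, _, hj⟩ := hpM
    have h1 : p ∣ (p ^ (f : ℕ)) ^ (2 * (j + 1)) := dvd_pow hpq (by omega)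
    have h2 : p ∣ (p ^ (f : ℕ)) ^ (2 * (j + 1)) - ((p ^ (f : ℕ)) ^ (2 * (j + 1)) - 1) :=
      Nat.dvd_sub h1 hj
    have h3 : (p ^ (f : ℕ)) ^ (2 * (j + 1)) - ((p ^ (f : ℕ)) ^ (2 * (j + 1)) - 1) = 1 := by
      have := hpow1 (2 * (j + 1))
      omega
    rw [h3] at h2
    exact hp.one_lt.ne' (Nat.dvd_one.1 h2)
  · have h1 : ∏ i ∈ Finset.range m, ((p ^ (f : ℕ)) ^ (2 * (i + 1)) - 1) <
        ∏ i ∈ Finset.range m, (p ^ (f : ℕ)) ^ (2 * (i + 1)) := by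
      apply Finset.prod_lt_prod_of_nonempty
      · intro j _
        have := hpow2 (2 * j + 1)
        have h' : 2 * j + 1 + 1 = 2 * (j + 1) := by ring
        rw [h'] at this
        omega
      · intro j _
        have := hpow1 (2 * (j + 1))
        omega
      · exact ⟨0, Finset.mem_range.2 (by omega)⟩
    rw [Finset.prod_pow_eq_pow_sum, h25_sum_two_succ] at h1
    calc ∏ i ∈ Finset.range m, ((p ^ (f : ℕ)) ^ (2 * (i + 1)) - 1)
        < (p ^ (f : ℕ)) ^ (m ^ 2 + m) := h1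
      _ = 1 * (p ^ (f : ℕ)) ^ (m ^ 2 + m) := (one_mul _).symm
      _ ≤ Nat.gcd 2 (p ^ (f : ℕ) - 1) * (p ^ (f : ℕ)) ^ (m ^ 2 + m) :=
        Nat.mul_le_mul_right _ hgpos
  · nlinarith
  · nlinarith

end Cfsg.Agent.Lib.helper44.LO
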