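import Mathlib

set_option autoImplicit false

namespace Cfsg.Agent.Lib.helper25

/-- A subgroup of order `p ^ k` of a finite group is generated by at most `k` elements. -/
theorem h25_pgroup_gen_le {G : Type*} [Group G] [Finite G] (p : ℕ) [Fact p.Prime] :
    ∀ (k : ℕ) (H : Subgroup G), Nat.card H = p ^ k →
      ∃ T : Finset G, T.card ≤ k ∧ Subgroup.closure (T : Set G) = H := by
  classical
  have hp : p.Prime := Fact.out
  intro k
  induction k with
  | zero =>
    intro H hH
    rw [pow_zero, Subgroup.card_eq_one] at hH
    refine ⟨∅, by simp, ?_⟩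
    rw [hH]
    simp
  | succ k ih =>
    intro H hH
    -- a subgroup of index p in H
    obtain ⟨K', hK'⟩ := Sylow.exists_subgroup_card_pow_prime (G := ↥H) p
      (n := k) (by rw [hH]; exact pow_dvd_pow p (Nat.le_succ k))
    obtain ⟨K, hK⟩ : ∃ K : Subgroup G, K = K'.map H.subtype := ⟨_, rfl⟩
    have hKH : K ≤ H := by
      rw [hK]
      exact Subgroup.map_subtype_le K'
    have hKcard : Nat.card K = p ^ k := by
      rw [hK, Subgroup.card_map_of_injective (Subgroup.subtype_injective H), hK']
    obtain ⟨T, hT, hTK⟩ := ih K hKcard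
    have hlt : K < H := by
      refine lt_of_le_of_ne hKH ?_
      intro h
      rw [h, hH] at hKcard
      have : p ^ (k + 1) ≠ p ^ k := by
        intro h'
        have := Nat.pow_right_injective hp.two_le h'
        omega
      exact this hKcard
    obtain ⟨h, hhH, hhK⟩ := SetLike.exists_of_lt hlt
    refine ⟨insert h T, ?_, ?_⟩
    · calc (insert h T).card ≤ T.card + 1 := Finset.card_insert_le h T
        _ ≤ k + 1 := by omega
    · obtain ⟨L, hL⟩ : ∃ L : Subgroup G, L = Subgroup.closure ((insert h T : Finset G) : Set G) :=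
        ⟨_, rfl⟩
      rw [← hL]
      have hLH : L ≤ H := by
        rw [hL, Subgroup.closure_le]
        intro y hy
        rw [Finset.coe_insert] at hy
        rcases hy with rfl | hy
        · exact hhH
        · exact hKH (hTK ▸ Subgroup.subset_closure hy)
      have hKL : K ≤ L := by
        rw [← hTK, hL]
        apply Subgroup.closure_mono
        rw [Finset.coe_insert]
        exact Set.subset_insert h _
      have hhL : h ∈ L := by
        rw [hL]
        apply Subgroup.subset_closure
        rw [Finset.coe_insert]
        exact Set.mem_insert h _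
      -- card L divides p^(k+1) and is divisible by p^k, and is not p^k
      have hd1 : Nat.card L ∣ p ^ (k + 1) := hH ▸ Subgroup.card_dvd_of_le hLH
      have hd2 : p ^ k ∣ Nat.card L := hKcard ▸ Subgroup.card_dvd_of_le hKL
      obtain ⟨j, hj, hLj⟩ := (Nat.dvd_prime_pow hp).1 hd1
      have hkj : k ≤ j := by
        rw [hLj] at hd2
        exact (Nat.pow_dvd_pow_iff_le_right hp.one_lt).1 hd2
      have hjk : j ≠ k := by
        intro hjk
        rw [hjk] at hLj
        have hKL' : K = L := by
          apply Subgroup.eq_of_le_of_card_ge hKL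
          rw [hLj, hKcard]
        exact hhK (hKL' ▸ hhL)
      have hj1 : j = k + 1 := by omega
      rw [hj1] at hLj
      exact Subgroup.eq_of_le_of_card_ge hLH (by rw [hLj, hH])

/-- A subgroup whose order divides `p ^ k` is generated by at most `k` elements. -/
theorem h25_pgroup_gen_le_of_dvd {G : Type*} [Group G] [Finite G] (p : ℕ) [Fact p.Prime]
    (k : ℕ) (H : Subgroup G) (hH : Nat.card H ∣ p ^ k) :
    ∃ T : Finset G, T.card ≤ k ∧ Subgroup.closure (T : Set G) = H := by
  have hp : p.Prime := Fact.out
  obtain ⟨j, hj, hHj⟩ := (Nat.dvd_prime_pow hp).1 hH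
  obtain ⟨T, hT, hTH⟩ := h25_pgroup_gen_le p j H hHj
  exact ⟨T, le_trans hT hj, hTH⟩

end Cfsg.Agent.Lib.helper25
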