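import Mathlib
import Cfsg.Agent.Lib.helper68.HallPet
import Cfsg.Agent.Lib.helper25.PGenK

set_option autoImplicit false

namespace Cfsg.Agent.Lib.helper79.P3

open Cfsg.Agent.Lib.helper68

/-- N4 core (racer helper25): the N4 leaf of S5239 with the statements of UNIF / NONUNIF (j = 2) / FRAT and the
two cardinality facts `card P_2 = 9`, `P_4 = ⊥` as hypotheses. -/
theorem h25_p3_n4_core {G : Type*} [Group G] [Finite G] (hG : Nat.card G = 3 ^ 4) (x : G)
    (hC : Nat.card (Subgroup.centralizer ({x} : Set G)) = 3 ^ 2)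
    (hP2 : Nat.card (gam G 2) = 9) (hP4 : gam G 4 = ⊥)
    (hUNIF : ∀ h : G, Nat.card (Subgroup.centralizer ({h} : Set G)) = 3 ^ 2 → ∀ H : Subgroup G, h ∈ H →
      ∃ T : Finset G, T.card ≤ 2 ∧ Subgroup.closure (T : Set G) = H)
    (hNON : ∀ h : G, h ∉ gam G 2 → Nat.card (Subgroup.centralizer ({h} : Set G)) ≠ 3 ^ 2 →
      ∀ v ∈ gam G 2, com v h ∈ gam G 4)
    (hFRAT : ∀ H : Subgroup G, H ⊔ gam G 2 = ⊤ → H = ⊤) :
    (∀ H : Subgroup G, ∃ T : Finset G, T.card ≤ 2 ∧ Subgroup.closure (T : Set G) = H) ∨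
      ∃ M : Subgroup G, Nat.card M = 27 ∧ (∀ a ∈ M, ∀ b ∈ M, a * b = b * a) ∧ ∀ a ∈ M, a ^ 3 = 1 := by
  classical
  haveI : Fact (Nat.Prime 3) := ⟨by norm_num⟩
  have hp3 : Nat.Prime 3 := by norm_num
  by_cases hR : ∃ M : Subgroup G, Nat.card M = 27 ∧ (∀ a ∈ M, ∀ b ∈ M, a * b = b * a) ∧ ∀ a ∈ M, a ^ 3 = 1
  · exact Or.inr hR
  left
  intro H
  have hdvd : Nat.card H ∣ 3 ^ 4 := hG ▸ Subgroup.card_subgroup_dvd_card H
  obtain ⟨k, hk, hHk⟩ := (Nat.dvd_prime_pow hp3).1 hdvd
  rcases Nat.lt_or_ge k 3 with hk3 | hk3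
  · obtain ⟨T, hT, hTH⟩ := Cfsg.Agent.Lib.helper25.h25_pgroup_gen_le 3 k H hHk
    exact ⟨T, by omega, hTH⟩
  rcases Nat.lt_or_ge k 4 with hk4 | hk4
  swap
  · have hk' : k = 4 := by omega
    subst hk'
    have hHtop : H = ⊤ := Subgroup.eq_top_of_card_eq H (by rw [hHk, hG])
    exact hUNIF x hC H (by rw [hHtop]; exact Subgroup.mem_top x)
  have hk' : k = 3 := by omega
  subst hk'
  have hH27 : Nat.card H = 27 := by rw [hHk]; norm_num
  by_cases hex : ∃ a ∈ H, a ^ 3 ≠ 1
  · obtain ⟨a, haH, ha3⟩ := hex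
    have hA9 : 9 ≤ Nat.card (Subgroup.zpowers a) := by
      rw [Nat.card_zpowers]
      have h1 : orderOf a ∣ 3 ^ 3 := by
        have := Subgroup.orderOf_dvd_natCard H haH
        rw [hH27] at this
        simpa using this
      obtain ⟨j, hj, hoj⟩ := (Nat.dvd_prime_pow hp3).1 h1
      have hj2 : 2 ≤ j := by
        by_contra hcon
        have hj1 : j ≤ 1 := by omega
        have : orderOf a ∣ 3 := by
          rw [hoj]
          exact pow_dvd_pow 3 hj1 |>.trans (by norm_num)
        exact ha3 (orderOf_dvd_iff_pow_eq_one.1 this)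
      rw [hoj]
      calc 9 = 3 ^ 2 := by norm_num
        _ ≤ 3 ^ j := Nat.pow_le_pow_right (by norm_num) hj2
    have hAH : Subgroup.zpowers a ≤ H := (Subgroup.zpowers_le).2 haH
    by_cases hA : Subgroup.zpowers a = H
    · refine ⟨{a}, by simp, ?_⟩
      rw [Finset.coe_singleton, ← Subgroup.zpowers_eq_closure]
      exact hA
    · obtain ⟨b, hbH, hbA⟩ : ∃ b ∈ H, b ∉ Subgroup.zpowers a := by
        by_contra hcon
        push_neg at hcon
        exact hA (le_antisymm hAH hcon)
      refine ⟨{a, b}, Finset.card_le_two, ?_⟩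
      have hLH : Subgroup.closure (({a, b} : Finset G) : Set G) ≤ H := by
        rw [Subgroup.closure_le]
        intro g hg
        simp only [Finset.coe_insert, Finset.coe_singleton, Set.mem_insert_iff,
          Set.mem_singleton_iff] at hg
        rcases hg with rfl | rfl
        · exact haH
        · exact hbH
      have haL : a ∈ Subgroup.closure (({a, b} : Finset G) : Set G) :=
        Subgroup.subset_closure (by simp)
      have hbL : b ∈ Subgroup.closure (({a, b} : Finset G) : Set G) :=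
        Subgroup.subset_closure (by simp)
      have hAL : Subgroup.zpowers a ≤ Subgroup.closure (({a, b} : Finset G) : Set G) :=
        (Subgroup.zpowers_le).2 haL
      have hLd : Nat.card (Subgroup.closure (({a, b} : Finset G) : Set G)) ∣ 3 ^ 3 := by
        have := Subgroup.card_dvd_of_le hLH
        rw [hH27] at this
        simpa using this
      obtain ⟨i, hi, hLi⟩ := (Nat.dvd_prime_pow hp3).1 hLd
      have hi3 : i = 3 := by
        by_contra hcon
        have hi2 : i ≤ 2 := by omega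
        have hle : Nat.card (Subgroup.closure (({a, b} : Finset G) : Set G)) ≤ 9 := by
          rw [hLi]
          calc 3 ^ i ≤ 3 ^ 2 := Nat.pow_le_pow_right (by norm_num) hi2
            _ = 9 := by norm_num
        have := Subgroup.eq_of_le_of_card_ge hAL (hle.trans hA9)
        exact hbA (this ▸ hbL)
      subst hi3
      exact Subgroup.eq_of_le_of_card_ge hLH (by rw [hLi, hH27]; norm_num)
  push_neg at hex
  by_cases hu : ∃ h ∈ H, Nat.card (Subgroup.centralizer ({h} : Set G)) = 3 ^ 2
  · obtain ⟨h, hhH, hCh⟩ := hu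
    exact hUNIF h hCh H hhH
  push_neg at hu
  exfalso
  apply hR
  refine ⟨H, hH27, ?_, hex⟩
  -- an outsider
  obtain ⟨h, hhH, hh2⟩ : ∃ h ∈ H, h ∉ gam G 2 := by
    by_contra hcon
    push_neg at hcon
    have := Subgroup.card_le_of_le (show H ≤ gam G 2 from hcon)
    omega
  have hcomm : ∀ v ∈ gam G 2, v * h = h * v := by
    intro v hv
    have h1 := hNON h hh2 (hu h hhH) v hv
    rw [hP4, Subgroup.mem_bot] at h1
    have h2 : v⁻¹ * h⁻¹ * v * h = 1 := h1
    calc v * h = h * v * (v⁻¹ * h⁻¹ * v * h) := by group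
      _ = h * v := by rw [h2, mul_one]
  have hab : ∀ a ∈ gam G 2, ∀ b ∈ gam G 2, a * b = b * a := by
    intro a ha b hb
    have h9 : Nat.card (gam G 2) = 3 ^ 2 := by rw [hP2]; norm_num
    have := IsPGroup.commutative_of_card_eq_prime_sq h9 ⟨a, ha⟩ ⟨b, hb⟩
    exact congrArg Subtype.val this
  -- P_2 ≤ H
  have hne : H ⊔ gam G 2 ≠ ⊤ := by
    intro htop
    have := hFRAT H htop
    rw [this, Subgroup.card_top, hG] at hH27
    norm_num at hH27
  have hP2H : gam G 2 ≤ H := by
    have hd : Nat.card (H ⊔ gam G 2 : Subgroup G) ∣ 3 ^ 4 := hG ▸ Subgroup.card_subgroup_dvd_card _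
    obtain ⟨i, hi, hci⟩ := (Nat.dvd_prime_pow hp3).1 hd
    have hi3 : i ≤ 3 := by
      by_contra hcon
      have hi4 : i = 4 := by omega
      subst hi4
      exact hne (Subgroup.eq_top_of_card_eq _ (by rw [hci, hG]))
    have hle : Nat.card (H ⊔ gam G 2 : Subgroup G) ≤ Nat.card H := by
      rw [hci, hH27]
      calc 3 ^ i ≤ 3 ^ 3 := Nat.pow_le_pow_right (by norm_num) hi3
        _ = 27 := by norm_num
    have heq : H = H ⊔ gam G 2 := Subgroup.eq_of_le_of_card_ge le_sup_left hle
    rw [heq]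
    exact le_sup_right
  -- K = closure (P_2 ∪ {h}) = H
  set S : Set G := (gam G 2 : Set G) ∪ {h} with hS
  have hKH : Subgroup.closure S ≤ H := by
    rw [Subgroup.closure_le]
    intro g hg
    rcases hg with hg | hg
    · exact hP2H hg
    · rw [Set.mem_singleton_iff] at hg
      rw [hg]
      exact hhH
  have hP2K : gam G 2 ≤ Subgroup.closure S := fun g hg => Subgroup.subset_closure (Or.inl hg)
  have hhK : h ∈ Subgroup.closure S := Subgroup.subset_closure (Or.inr rfl)
  have hKeq : Subgroup.closure S = H := by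
    have hd : Nat.card (Subgroup.closure S) ∣ 3 ^ 3 := by
      have := Subgroup.card_dvd_of_le hKH
      rw [hH27] at this
      simpa using this
    obtain ⟨i, hi, hci⟩ := (Nat.dvd_prime_pow hp3).1 hd
    have hi3 : i = 3 := by
      by_contra hcon
      have hi2 : i ≤ 2 := by omega
      have hle : Nat.card (Subgroup.closure S) ≤ Nat.card (gam G 2) := by
        rw [hci, hP2]
        calc 3 ^ i ≤ 3 ^ 2 := Nat.pow_le_pow_right (by norm_num) hi2
          _ = 9 := by norm_num
      have := Subgroup.eq_of_le_of_card_ge hP2K hle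
      exact hh2 (this ▸ hhK)
    subst hi3
    exact Subgroup.eq_of_le_of_card_ge hKH (by rw [hci, hH27]; norm_num)
  have hpair : ∀ s ∈ S, ∀ g ∈ S, s * g = g * s := by
    intro s hs g hg
    rcases hs with hs | hs <;> rcases hg with hg | hg
    · exact hab s hs g hg
    · rw [Set.mem_singleton_iff] at hg
      rw [hg]
      exact hcomm s hs
    · rw [Set.mem_singleton_iff] at hs
      rw [hs]
      exact (hcomm g hg).symm
    · rw [Set.mem_singleton_iff] at hs hg
      rw [hs, hg]
  have h1 : Subgroup.closure S ≤ Subgroup.centralizer S := by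
    rw [Subgroup.closure_le]
    intro g hg
    exact Subgroup.mem_centralizer_iff.2 (fun s hs => hpair s hs g hg)
  have h2 : Subgroup.closure S ≤ Subgroup.centralizer (Subgroup.closure S : Set G) := by
    rw [Subgroup.closure_le]
    intro g hg
    exact Subgroup.mem_centralizer_iff.2
      (fun k hk => (Subgroup.mem_centralizer_iff.1 (h1 hk) g hg).symm)
  intro a ha b hb
  rw [← hKeq] at ha hb
  exact Subgroup.mem_centralizer_iff.1 (h2 hb) a ha

end Cfsg.Agent.Lib.helper79.P3
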