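import Mathlib
import Cfsg.Agent.Lib.helper68.HallPet
import Cfsg.Agent.Lib.helper79.PearlX
import Cfsg.Agent.Lib.helper6.P3P2AB
import Cfsg.Agent.Lib.helper46.P3NUA
import Cfsg.Agent.Lib.helper68.P3NUB
import Cfsg.Agent.Lib.helper6.P3NUC

set_option autoImplicit false

namespace Cfsg.Agent.Lib.helper79.P3

open Cfsg.Agent.Lib.helper68

/-- NONUNIF glue (racer copy helper25; helper68's proved glue on the landed canonical NUA / NUB / NUC / P2AB). -/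
theorem h25_p3_nonuniform {G : Type*} [Group G] [Finite G] (n : ℕ) (hn : 4 ≤ n) (hG : Nat.card G = 3 ^ n) (x : G)
    (hx : x ^ 3 = 1) (hC : Nat.card (Subgroup.centralizer ({x} : Set G)) = 3 ^ 2) (h : G) (hh : h ∉ gam G 2)
    (hCh : Nat.card (Subgroup.centralizer ({h} : Set G)) ≠ 3 ^ 2) :
    (∀ j, 2 ≤ j → ∀ v ∈ gam G j, com v h ∈ gam G (j + 2)) ∧
      (5 ≤ n → h ^ 3 ∈ gam G 3 ∧ h ^ 3 ∉ gam G 4) := by
  have hab := p3_gam2_comm n (by omega) hG x hx hC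
  obtain ⟨u, hu2, hun, huh⟩ := p3_nu_a n hn hG x hx hC h hh hCh
  have hb := p3_nu_b n hn hG x hx hC hab h u hu2 hun huh
  exact ⟨hb, fun h5 => p3_nu_c n h5 hG x hx hC hab h hh hCh hb⟩

end Cfsg.Agent.Lib.helper79.P3
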