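import Mathlib
import Cfsg.Agent.Lib.helper79.PearlX
import Cfsg.Agent.Lib.helper25.P3N4core
import Cfsg.Agent.Lib.helper25.P3NONUNIF
import Cfsg.Agent.Lib.helper15.P3UNIF
import Cfsg.Agent.Lib.helper58.P3FRAT

set_option autoImplicit false

namespace Cfsg.Agent.Lib.helper79.P3

open Cfsg.Agent.Lib.helper68

/-- N4 (racer copy helper25): verbatim statement of the Skel's `p3_n4`. -/
theorem h25_p3_n4 {G : Type*} [Group G] [Finite G] (hG : Nat.card G = 3 ^ 4) (x : G)
    (hx : x ^ 3 = 1) (hC : Nat.card (Subgroup.centralizer ({x} : Set G)) = 3 ^ 2) :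
    (∀ H : Subgroup G, ∃ T : Finset G, T.card ≤ 2 ∧ Subgroup.closure (T : Set G) = H) ∨
      ∃ M : Subgroup G, Nat.card M = 27 ∧ (∀ a ∈ M, ∀ b ∈ M, a * b = b * a) ∧ ∀ a ∈ M, a ^ 3 = 1 := by
  have hP2 : Nat.card (gam G 2) = 9 := by
    have := Cfsg.Agent.Lib.helper79.h79_px_card 3 4 hG x hC (by norm_num) 2 (le_refl 2) (by norm_num)
    simpa using this
  have hP4 : gam G 4 = ⊥ := by
    have := Cfsg.Agent.Lib.helper79.h79_px_card 3 4 hG x hC (by norm_num) 4 (by norm_num) (le_refl 4)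
    exact Subgroup.eq_bot_of_card_eq _ (by simpa using this)
  exact h25_p3_n4_core hG x hC hP2 hP4
    (fun h hCh H hh => p3_gen_uniform 4 (by norm_num) hG h hCh H hh)
    (fun h hh hCh v hv => (h25_p3_nonuniform 4 (le_refl 4) hG x hx hC h hh hCh).1 2 (le_refl 2) v hv)
    (fun H hH => p3_frat 4 (by norm_num) hG H hH)

end Cfsg.Agent.Lib.helper79.P3
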