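import Mathlib
import Cfsg.Agent.Lib.helper68.HallPet
import Cfsg.Agent.Lib.helper79.PearlX

set_option autoImplicit false

namespace Cfsg.Agent.Lib.helper79.P3

open Cfsg.Agent.Lib.helper68

/-- (C3) of helper96's sub-split of NUC (racer copy helper25): cubes lie in `gam G 2`. -/
theorem h25_p3_nu_c3 {G : Type*} [Group G] [Finite G] (n : ℕ) (hn : 3 ≤ n) (hG : Nat.card G = 3 ^ n) (x : G)
    (hC : Nat.card (Subgroup.centralizer ({x} : Set G)) = 3 ^ 2) (g : G) : g ^ 3 ∈ gam G 2 := by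
  have hp3 : Nat.Prime 3 := by norm_num
  haveI : Fact (Nat.Prime 3) := ⟨hp3⟩
  have hgc : gam G 2 = commutator G := rfl
  have hidx : (gam G 2).index = 3 ^ 2 :=
    Cfsg.Agent.Lib.helper79.h79_px_index 3 n hG x hC hn 2 (le_refl 2) (by omega)
  haveI hnil : Group.IsNilpotent G := (IsPGroup.of_card hG).isNilpotent
  have hcard : Nat.card (G ⧸ gam G 2) = 9 := by
    rw [← Subgroup.index_eq_card, hidx]; norm_num
  have hncyc : ¬ IsCyclic (G ⧸ gam G 2) := by
    intro hcyc
    have hbot : commutator G = ⊥ :=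
      Cfsg.Agent.Lib.helper15.MaxClass.commutator_eq_bot_of_isCyclic hcyc
    rw [hgc, hbot, Subgroup.index_bot, hG] at hidx
    have := Nat.pow_right_injective (by norm_num : 2 ≤ 3) hidx
    omega
  have hq : (QuotientGroup.mk g : G ⧸ gam G 2) ^ 3 = 1 := by
    have hdvd : orderOf (QuotientGroup.mk g : G ⧸ gam G 2) ∣ 3 ^ 2 := by
      have := orderOf_dvd_natCard (QuotientGroup.mk g : G ⧸ gam G 2)
      rw [hcard] at this
      simpa using this
    obtain ⟨j, hj, hoj⟩ := (Nat.dvd_prime_pow hp3).1 hdvd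
    have hj1 : j ≤ 1 := by
      by_contra hcon
      have hj2 : j = 2 := by omega
      subst hj2
      apply hncyc
      exact isCyclic_of_orderOf_eq_card (QuotientGroup.mk g : G ⧸ gam G 2)
        (by rw [hoj, hcard]; norm_num)
    apply orderOf_dvd_iff_pow_eq_one.1
    rw [hoj]
    exact (pow_dvd_pow 3 hj1).trans (by norm_num)
  have h1 : (QuotientGroup.mk (g ^ 3) : G ⧸ gam G 2) = 1 := by
    rw [QuotientGroup.mk_pow]; exact hq
  exact (QuotientGroup.eq_one_iff _).1 h1

end Cfsg.Agent.Lib.helper79.P3
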