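import Mathlib

/-!
# S4306, piece FREE, part A: a cyclic group permuting orthogonal idempotents freely

If `g ^ q = 1` and there is an idempotent `P` whose `q` conjugates `g ^ k P g ^ (-k)` are
orthogonal and sum to `1`, then `dim W = q * dim ker (g - 1)`.
-/

set_option autoImplicit false

namespace Cfsg.Agent.Lib.helper25.PQFree

open Module

section Orbit

variable {K : Type*} [Field K] {W : Type*} [AddCommGroup W] [Module K W]
  [FiniteDimensional K W]

theorem finrank_of_idem (g P : Module.End K W) (q : ℕ) (hq : 0 < q) (hg : g ^ q = 1)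
    (Pk : ℕ → Module.End K W) (hP0 : Pk 0 = P)
    (hcomm : ∀ k, g ^ k * P = Pk k * g ^ k)
    (horth : ∀ j < q, ∀ k < q, Pk j * Pk k = if j = k then Pk j else 0)
    (hsum : ∑ k ∈ Finset.range q, Pk k = 1) :
    Module.finrank K W = q * Module.finrank K (LinearMap.ker (g - 1)) := by
  classical
  -- inverse powers
  have hginv : ∀ k, k < q → g ^ k * g ^ (q - k) = 1 := by
    intro k hk
    rw [← pow_add, Nat.add_sub_cancel' hk.le, hg]
  have hginv' : ∀ k, k < q → g ^ (q - k) * g ^ k = 1 := by
    intro k hk
    rw [← pow_add, Nat.sub_add_cancel hk.le, hg]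
  -- the key identity
  have hID : ∀ w : W, w = ∑ k ∈ Finset.range q, (g ^ k) (P ((g ^ (q - k)) w)) := by
    intro w
    have h1 : w = (∑ k ∈ Finset.range q, Pk k) w := by rw [hsum]; rfl
    rw [LinearMap.sum_apply] at h1
    conv_lhs => rw [h1]
    refine Finset.sum_congr rfl fun k hk => ?_
    have hk' := Finset.mem_range.mp hk
    have h2 : (g ^ k) ((g ^ (q - k)) w) = w := by
      rw [← Module.End.mul_apply, hginv k hk']; rfl
    have h3 : (Pk k) ((g ^ k) ((g ^ (q - k)) w)) = (g ^ k) (P ((g ^ (q - k)) w)) := by
      rw [← Module.End.mul_apply, ← hcomm k]; rfl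
    rw [← h3, h2]
  have hKEY : ∀ j < q, ∀ k < q, ∀ u : W,
      (Pk j) ((g ^ k) (P u)) = if j = k then (g ^ k) (P u) else 0 := by
    intro j hj k hk u
    have h1 : (Pk j) ((g ^ k) (P u)) = (Pk j * Pk k) ((g ^ k) u) := by
      rw [Module.End.mul_apply, ← Module.End.mul_apply (Pk k), ← hcomm k]; rfl
    rw [h1, horth j hj k hk]
    by_cases hjk : j = k
    · subst hjk
      rw [if_pos rfl, if_pos rfl, ← Module.End.mul_apply, ← hcomm j]; rfl
    · rw [if_neg hjk, if_neg hjk]; rfl
  have hginj : ∀ k, k < q → ∀ x : W, (g ^ k) x = 0 → x = 0 := by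
    intro k hk x hx
    have h2 : (g ^ (q - k)) ((g ^ k) x) = x := by
      rw [← Module.End.mul_apply, hginv' k hk]; rfl
    rw [← h2, hx, map_zero]
  -- the four injections
  -- (L2a)
  have hL2a : Module.finrank K W ≤ q * Module.finrank K (LinearMap.range P) := by
    let d : W →ₗ[K] (Fin q → LinearMap.range P) :=
      LinearMap.pi (fun k : Fin q => P.rangeRestrict.comp (g ^ (q - (k : ℕ))))
    have hd : Function.Injective d := by
      rw [injective_iff_map_eq_zero]
      intro w hw
      rw [hID w]
      refine Finset.sum_eq_zero fun k hk => ?_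
      have hk' := Finset.mem_range.mp hk
      have h1 : d w ⟨k, hk'⟩ = 0 := by rw [hw]; rfl
      have h2 : P ((g ^ (q - k)) w) = 0 := congrArg Subtype.val h1
      rw [h2, map_zero]
    have h1 := LinearMap.finrank_le_finrank_of_injective hd
    rw [Module.finrank_pi_fintype] at h1
    simpa using h1
  -- (L2b)
  have hL2b : q * Module.finrank K (LinearMap.range P) ≤ Module.finrank K W := by
    let c : (Fin q → LinearMap.range P) →ₗ[K] W :=
      ∑ k : Fin q, (g ^ (k : ℕ)).comp ((LinearMap.range P).subtype.comp (LinearMap.proj k))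
    have hc : Function.Injective c := by
      rw [injective_iff_map_eq_zero]
      intro u hu
      funext j
      have h1 : c u = ∑ k : Fin q, (g ^ (k : ℕ)) ((u k : W)) := by
        simp only [c, LinearMap.sum_apply]; rfl
      have h2 : (Pk j) (c u) = (g ^ (j : ℕ)) ((u j : W)) := by
        rw [h1, map_sum]
        rw [Finset.sum_eq_single j]
        · obtain ⟨u', hu'⟩ := (u j).2
          rw [← hu', hKEY j j.2 j j.2 u', if_pos rfl]
        · intro k _ hkj
          obtain ⟨u', hu'⟩ := (u k).2
          rw [← hu', hKEY j j.2 k k.2 u', if_neg]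
          exact fun h => hkj (Fin.ext h.symm)
        · intro h; exact absurd (Finset.mem_univ j) h
      rw [hu, map_zero] at h2
      have h3 := hginj j j.2 _ h2.symm
      exact Subtype.ext h3
    have h1 := LinearMap.finrank_le_finrank_of_injective hc
    rw [Module.finrank_pi_fintype] at h1
    simpa using h1
  -- fixed vectors
  have hfixpow : ∀ w : W, g w = w → ∀ k : ℕ, (g ^ k) w = w := by
    intro w hw k
    induction k with
    | zero => rfl
    | succ k ih => rw [pow_succ, Module.End.mul_apply, hw, ih]
  have hker : ∀ w : W, w ∈ LinearMap.ker (g - 1) ↔ g w = w := by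
    intro w
    rw [LinearMap.mem_ker, LinearMap.sub_apply, sub_eq_zero]; rfl
  -- (L1a)
  have hL1a : Module.finrank K (LinearMap.ker (g - 1)) ≤ Module.finrank K (LinearMap.range P) := by
    let a : LinearMap.ker (g - 1) →ₗ[K] LinearMap.range P :=
      P.rangeRestrict.comp (LinearMap.ker (g - 1)).subtype
    have ha : Function.Injective a := by
      rw [injective_iff_map_eq_zero]
      intro w hw
      have hw1 : g (w : W) = w := (hker _).mp w.2
      have h2 : P (w : W) = 0 := congrArg Subtype.val hw
      apply Subtype.ext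
      show (w : W) = 0
      rw [hID (w : W)]
      refine Finset.sum_eq_zero fun k _ => ?_
      rw [hfixpow _ hw1, h2, map_zero]
    exact LinearMap.finrank_le_finrank_of_injective ha
  -- (L1b)
  have hL1b : Module.finrank K (LinearMap.range P) ≤ Module.finrank K (LinearMap.ker (g - 1)) := by
    have hT : ∀ u : W, (∑ k ∈ Finset.range q, g ^ k) u ∈ LinearMap.ker (g - 1) := by
      intro u
      rw [LinearMap.mem_ker, ← Module.End.mul_apply, mul_geom_sum, hg, sub_self]; rfl
    let b : LinearMap.range P →ₗ[K] LinearMap.ker (g - 1) :=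
      LinearMap.codRestrict (LinearMap.ker (g - 1))
        ((∑ k ∈ Finset.range q, g ^ k).comp (LinearMap.range P).subtype) (fun u => hT _)
    have hb : Function.Injective b := by
      rw [injective_iff_map_eq_zero]
      intro u hu
      have h1 : (∑ k ∈ Finset.range q, g ^ k) (u : W) = 0 := congrArg Subtype.val hu
      obtain ⟨u', hu'⟩ := u.2
      have hK0 : ∀ k < q, P ((g ^ k) (P u')) = if 0 = k then (g ^ k) (P u') else 0 := by
        intro k hk
        have h := hKEY 0 hq k hk u'
        rwa [hP0] at h
      have h2 : P ((∑ k ∈ Finset.range q, g ^ k) (u : W)) = (u : W) := by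
        rw [LinearMap.sum_apply, map_sum, Finset.sum_eq_single 0]
        · rw [← hu', hK0 0 hq, if_pos rfl]; rfl
        · intro k hk hk0
          rw [← hu', hK0 k (Finset.mem_range.mp hk), if_neg (Ne.symm hk0)]
        · intro h; exact absurd (Finset.mem_range.mpr hq) h
      rw [h1, map_zero] at h2
      exact Subtype.ext h2.symm
    exact LinearMap.finrank_le_finrank_of_injective hb
  have e1 : Module.finrank K (LinearMap.ker (g - 1)) = Module.finrank K (LinearMap.range P) :=
    le_antisymm hL1a hL1b
  rw [e1]
  exact le_antisymm hL2a hL2b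

end Orbit

end Cfsg.Agent.Lib.helper25.PQFree
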