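import Mathlib
import Cfsg.Agent.Lib.helper25.PQFreeA

/-!
# S4306, piece FREE, part B: a family of orthogonal idempotents permuted freely
-/

set_option autoImplicit false

namespace Cfsg.Agent.Lib.helper25.PQFree

open Module

section Family

variable {K : Type*} [Field K] {W : Type*} [AddCommGroup W] [Module K W]
  [FiniteDimensional K W]

theorem finrank_of_family {ι : Type*} [Fintype ι] [DecidableEq ι] (g : Module.End K W) (q : ℕ)
    (hq : 0 < q) (hg : g ^ q = 1) (e : ι → Module.End K W) (π : Equiv.Perm ι) (hπ : π ^ q = 1)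
    (hidem : ∀ i, e i * e i = e i) (horth : ∀ i j, i ≠ j → e i * e j = 0)
    (hsum : ∑ i, e i = 1) (hge : ∀ i, g * e i = e (π i) * g)
    (hfree : ∀ i, e i ≠ 0 → ∀ k, 0 < k → k < q → (π ^ k) i ≠ i) :
    Module.finrank K W = q * Module.finrank K (LinearMap.ker (g - 1)) := by
  classical
  let ord : ι → ℕ := fun i => ((Fintype.equivFin ι) i : ℕ)
  have hord : Function.Injective ord := fun i j hij =>
    (Fintype.equivFin ι).injective (Fin.ext hij)
  let Θ : Finset ι := Finset.univ.filter (fun i => e i ≠ 0 ∧ ∀ k < q, ord i ≤ ord ((π ^ k) i))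
  have hΘ : ∀ i, i ∈ Θ ↔ (e i ≠ 0 ∧ ∀ k < q, ord i ≤ ord ((π ^ k) i)) := by
    intro i
    simp [Θ]
  let Pk : ℕ → Module.End K W := fun k => ∑ i ∈ Θ, e ((π ^ k) i)
  have hgk : ∀ k : ℕ, ∀ i, g ^ k * e i = e ((π ^ k) i) * g ^ k := by
    intro k
    induction k with
    | zero => intro i; simp
    | succ k ih =>
      intro i
      rw [pow_succ' g, mul_assoc, ih i, ← mul_assoc, hge, mul_assoc, pow_succ' π,
        Equiv.Perm.mul_apply]
  have hπinv : ∀ d, d < q → ∀ i, (π ^ (q - d)) ((π ^ d) i) = i := by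
    intro d hd i
    rw [← Equiv.Perm.mul_apply, ← pow_add, Nat.sub_add_cancel hd.le, hπ]; rfl
  -- (C0)
  have hC0 : ∀ i ∈ Θ, ∀ i' ∈ Θ, ∀ d, 0 < d → d < q → i ≠ (π ^ d) i' := by
    intro i hi i' hi' d hd0 hdq heq
    have h1 : ord i' ≤ ord i := by
      have := ((hΘ i').mp hi').2 d hdq
      rwa [← heq] at this
    have h2 : (π ^ (q - d)) i = i' := by rw [heq]; exact hπinv d hdq i'
    have h3 : ord i ≤ ord i' := by
      have := ((hΘ i).mp hi).2 (q - d) (Nat.sub_lt (lt_of_lt_of_le hd0 hdq.le) hd0)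
      rwa [h2] at this
    have h4 : i = i' := hord (le_antisymm h3 h1)
    rw [h4] at heq
    exact hfree i' ((hΘ i').mp hi').1 d hd0 hdq heq.symm
  -- (C1)
  have hC1 : ∀ i ∈ Θ, ∀ i' ∈ Θ, ∀ j < q, ∀ k < q, (π ^ j) i = (π ^ k) i' → j = k ∧ i = i' := by
    intro i hi i' hi' j hj k hk heq
    rcases lt_trichotomy j k with hjk | hjk | hjk
    · exfalso
      have h1 : (π ^ k) i' = (π ^ j) ((π ^ (k - j)) i') := by
        rw [← Equiv.Perm.mul_apply, ← pow_add, Nat.add_sub_cancel' hjk.le]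
      rw [h1] at heq
      exact hC0 i hi i' hi' (k - j) (Nat.sub_pos_of_lt hjk) (lt_of_le_of_lt (Nat.sub_le _ _) hk)
        ((π ^ j).injective heq)
    · subst hjk
      exact ⟨rfl, (π ^ j).injective heq⟩
    · exfalso
      have h1 : (π ^ j) i = (π ^ k) ((π ^ (j - k)) i) := by
        rw [← Equiv.Perm.mul_apply, ← pow_add, Nat.add_sub_cancel' hjk.le]
      rw [h1] at heq
      exact hC0 i' hi' i hi (j - k) (Nat.sub_pos_of_lt hjk) (lt_of_le_of_lt (Nat.sub_le _ _) hj)
        ((π ^ k).injective heq).symm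
  refine finrank_of_idem g (Pk 0) q hq hg Pk rfl ?_ ?_ ?_
  · -- commutation
    intro k
    show g ^ k * ∑ i ∈ Θ, e ((π ^ 0) i) = (∑ i ∈ Θ, e ((π ^ k) i)) * g ^ k
    rw [Finset.mul_sum, Finset.sum_mul]
    refine Finset.sum_congr rfl fun i _ => ?_
    rw [pow_zero, Equiv.Perm.one_apply, hgk]
  · -- orthogonality
    intro j hj k hk
    show (∑ i ∈ Θ, e ((π ^ j) i)) * (∑ i ∈ Θ, e ((π ^ k) i)) = _
    rw [Finset.sum_mul]
    by_cases hjk : j = k
    · subst hjk
      rw [if_pos rfl]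
      refine Finset.sum_congr rfl fun i hi => ?_
      rw [Finset.mul_sum, Finset.sum_eq_single i]
      · exact hidem _
      · intro i' _ hne
        exact horth _ _ (fun h => hne ((π ^ j).injective h).symm)
      · intro h; exact absurd hi h
    · rw [if_neg hjk]
      refine Finset.sum_eq_zero fun i hi => ?_
      rw [Finset.mul_sum]
      refine Finset.sum_eq_zero fun i' hi' => ?_
      exact horth _ _ (fun h => hjk (hC1 i hi i' hi' j hj k hk h).1)
  · -- completeness
    show ∑ k ∈ Finset.range q, ∑ i ∈ Θ, e ((π ^ k) i) = 1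
    rw [← hsum, ← Finset.sum_product' (Finset.range q) Θ (fun k i => e ((π ^ k) i))]
    have hinj : Set.InjOn (fun x : ℕ × ι => (π ^ x.1) x.2) ((Finset.range q ×ˢ Θ : Finset (ℕ × ι)) : Set (ℕ × ι)) := by
      intro x hx y hy hxy
      have hx' := Finset.mem_product.mp (Finset.mem_coe.mp hx)
      have hy' := Finset.mem_product.mp (Finset.mem_coe.mp hy)
      have := hC1 x.2 hx'.2 y.2 hy'.2 x.1 (Finset.mem_range.mp hx'.1) y.1
        (Finset.mem_range.mp hy'.1) hxy
      exact Prod.ext this.1 this.2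
    rw [← Finset.sum_image (f := fun j => e j) hinj]
    refine Finset.sum_subset (Finset.subset_univ _) ?_
    intro j _ hj
    by_contra hej
    apply hj
    obtain ⟨k0, hk0, hmin⟩ := Finset.exists_min_image (Finset.range q)
      (fun k => ord ((π ^ k) j)) ⟨0, Finset.mem_range.mpr hq⟩
    have hk0' := Finset.mem_range.mp hk0
    have hiΘ : (π ^ k0) j ∈ Θ := by
      rw [hΘ]
      refine ⟨?_, ?_⟩
      · intro h0
        have h1 := hgk k0 j
        rw [h0, zero_mul] at h1
        have h2 : e j = g ^ (q - k0) * (g ^ k0 * e j) := by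
          rw [← mul_assoc, ← pow_add, Nat.sub_add_cancel hk0'.le, hg, one_mul]
        rw [h1, mul_zero] at h2
        exact hej h2
      · intro k hk
        have h1 : (π ^ k) ((π ^ k0) j) = (π ^ ((k + k0) % q)) j := by
          rw [← Equiv.Perm.mul_apply, ← pow_add, pow_eq_pow_mod (k + k0) hπ]
        rw [h1]
        exact hmin _ (Finset.mem_range.mpr (Nat.mod_lt _ hq))
    rw [Finset.mem_image]
    refine ⟨((q - k0) % q, (π ^ k0) j), Finset.mem_product.mpr
      ⟨Finset.mem_range.mpr (Nat.mod_lt _ hq), hiΘ⟩, ?_⟩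
    show (π ^ ((q - k0) % q)) ((π ^ k0) j) = j
    rw [← pow_eq_pow_mod (q - k0) hπ]
    exact hπinv k0 hk0' j

end Family

end Cfsg.Agent.Lib.helper25.PQFree
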