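import Mathlib
import Cfsg.Agent.Lib.helper25.PQFreeB

/-!
# S4306, piece FREE, part C: characters of an abelian group permuted by an automorphism
-/

set_option autoImplicit false

namespace Cfsg.Agent.Lib.helper25.PQFree

open Module

section Char

/-- Twisting characters by automorphisms. -/
def tw (K : Type*) [Field K] {A : Type*} [CommGroup A] : MulAut A →* Equiv.Perm (A →* Kˣ) where
  toFun β :=
    { toFun := fun χ => χ.comp (β⁻¹ : MulAut A).toMonoidHom
      invFun := fun χ => χ.comp β.toMonoidHom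
      left_inv := fun χ => by ext a; simp
      right_inv := fun χ => by ext a; simp }
  map_one' := by
    ext χ a
    simp
  map_mul' β γ := by
    ext χ a
    simp [mul_inv_rev]

theorem tw_apply (K : Type*) [Field K] {A : Type*} [CommGroup A] (β : MulAut A) (χ : A →* Kˣ)
    (a : A) : (tw K β χ) a = χ ((β⁻¹ : MulAut A) a) := rfl

variable {K : Type*} [Field K] {A : Type*} [CommGroup A]

theorem char_orth [Fintype A] (ψ χ : A →* Kˣ) (hne : ψ ≠ χ) :
    ∑ a : A, (((ψ a)⁻¹ : Kˣ) : K) * ((χ a : Kˣ) : K) = 0 := by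
  obtain ⟨b, hb⟩ := DFunLike.ne_iff.mp hne
  have h1 : ((((ψ b)⁻¹ * χ b : Kˣ)) : K) * ∑ a : A, (((ψ a)⁻¹ : Kˣ) : K) * ((χ a : Kˣ) : K)
      = ∑ a : A, (((ψ a)⁻¹ : Kˣ) : K) * ((χ a : Kˣ) : K) := by
    rw [Finset.mul_sum]
    refine Fintype.sum_equiv (Equiv.mulLeft b) _ _ (fun a => ?_)
    show _ = (((ψ (b * a))⁻¹ : Kˣ) : K) * ((χ (b * a) : Kˣ) : K)
    rw [← Units.val_mul, ← Units.val_mul, ← Units.val_mul, map_mul, map_mul, mul_inv]
    congr 1
    rw [mul_mul_mul_comm]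
  have h2 : ((((ψ b)⁻¹ * χ b : Kˣ)) : K) ≠ 1 := by
    intro h
    have h3 : (ψ b)⁻¹ * χ b = 1 := Units.ext h
    exact hb (inv_mul_eq_one.mp h3)
  have h3 : (((((ψ b)⁻¹ * χ b : Kˣ)) : K) - 1) *
      ∑ a : A, (((ψ a)⁻¹ : Kˣ) : K) * ((χ a : Kˣ) : K) = 0 := by
    rw [sub_mul, h1, one_mul, sub_self]
  rcases mul_eq_zero.mp h3 with h | h
  · exact absurd (sub_eq_zero.mp h) h2
  · exact h

theorem char_orth' [Finite A] [HasEnoughRootsOfUnity K (Monoid.exponent A)]
    [Fintype (A →* Kˣ)] (a : A) (ha : a ≠ 1) :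
    ∑ χ : A →* Kˣ, (((χ a)⁻¹ : Kˣ) : K) = 0 := by
  obtain ⟨ψ, hψ⟩ := CommGroup.exists_apply_ne_one_of_hasEnoughRootsOfUnity A K ha
  have h1 : (((ψ a)⁻¹ : Kˣ) : K) * ∑ χ : A →* Kˣ, (((χ a)⁻¹ : Kˣ) : K)
      = ∑ χ : A →* Kˣ, (((χ a)⁻¹ : Kˣ) : K) := by
    rw [Finset.mul_sum]
    refine Fintype.sum_equiv (Equiv.mulLeft ψ) _ _ (fun χ => ?_)
    show _ = ((((ψ * χ) a)⁻¹ : Kˣ) : K)
    rw [← Units.val_mul, MonoidHom.mul_apply, mul_inv]
  have h2 : (((ψ a)⁻¹ : Kˣ) : K) ≠ 1 := by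
    intro h
    have h3 : (ψ a)⁻¹ = 1 := Units.ext h
    exact hψ (inv_eq_one.mp h3)
  have h3 : ((((ψ a)⁻¹ : Kˣ) : K) - 1) * ∑ χ : A →* Kˣ, (((χ a)⁻¹ : Kˣ) : K) = 0 := by
    rw [sub_mul, h1, one_mul, sub_self]
  rcases mul_eq_zero.mp h3 with h | h
  · exact absurd (sub_eq_zero.mp h) h2
  · exact h

variable {W : Type*} [AddCommGroup W] [Module K W] [FiniteDimensional K W]

theorem finrank_of_char [Fintype A] [HasEnoughRootsOfUnity K (Monoid.exponent A)]
    (φ : A →* Module.End K W) (α : MulAut A) (g : Module.End K W) (q : ℕ) (hq : q.Prime)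
    (hα : α ^ q = 1) (hg : g ^ q = 1) (hgφ : ∀ a, g * φ a = φ (α a) * g)
    (hfpf : ∀ a, α a = a → a = 1) (hsum : ∑ a : A, φ a = 0)
    (hcard : (Fintype.card A : K) ≠ 0) :
    Module.finrank K W = q * Module.finrank K (LinearMap.ker (g - 1)) := by
  classical
  have hfinι : Finite (A →* Kˣ) := inferInstance
  have hftι : Fintype (A →* Kˣ) := Fintype.ofFinite _
  have hcardι : Fintype.card (A →* Kˣ) = Fintype.card A := by
    rw [← Nat.card_eq_fintype_card, ← Nat.card_eq_fintype_card]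
    exact CommGroup.card_monoidHom_of_hasEnoughRootsOfUnity A K
  let c : K := (Fintype.card A : K)⁻¹
  have hc : c * (Fintype.card A : K) = 1 := inv_mul_cancel₀ hcard
  let S : (A →* Kˣ) → Module.End K W := fun χ => ∑ a : A, (((χ a)⁻¹ : Kˣ) : K) • φ a
  let e : (A →* Kˣ) → Module.End K W := fun χ => c • S χ
  have hEig : ∀ (b : A) (χ : A →* Kˣ), φ b * S χ = ((χ b : Kˣ) : K) • S χ := by
    intro b χ
    show φ b * ∑ a : A, (((χ a)⁻¹ : Kˣ) : K) • φ a
      = ((χ b : Kˣ) : K) • ∑ a : A, (((χ a)⁻¹ : Kˣ) : K) • φ a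
    rw [Finset.mul_sum, Finset.smul_sum]
    refine Fintype.sum_equiv (Equiv.mulLeft b) _ _ (fun a => ?_)
    show φ b * ((((χ a)⁻¹ : Kˣ) : K) • φ a)
      = ((χ b : Kˣ) : K) • ((((χ (b * a))⁻¹ : Kˣ) : K) • φ (b * a))
    rw [mul_smul_comm, ← map_mul, smul_smul, ← Units.val_mul, map_mul χ, mul_inv,
      mul_inv_cancel_left]
  have hSS : ∀ ψ χ : A →* Kˣ, S ψ * S χ =
      (∑ a : A, (((ψ a)⁻¹ : Kˣ) : K) * ((χ a : Kˣ) : K)) • S χ := by
    intro ψ χ
    show (∑ a : A, (((ψ a)⁻¹ : Kˣ) : K) • φ a) * S χ = _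
    rw [Finset.sum_mul, Finset.sum_smul]
    refine Finset.sum_congr rfl fun a _ => ?_
    rw [smul_mul_assoc, hEig, smul_smul]
  have hidem : ∀ χ, e χ * e χ = e χ := by
    intro χ
    show (c • S χ) * (c • S χ) = c • S χ
    rw [smul_mul_assoc, mul_smul_comm, hSS]
    have h1 : ∑ a : A, (((χ a)⁻¹ : Kˣ) : K) * ((χ a : Kˣ) : K) = (Fintype.card A : K) := by
      have : ∀ a : A, (((χ a)⁻¹ : Kˣ) : K) * ((χ a : Kˣ) : K) = 1 := by
        intro a
        rw [← Units.val_mul, inv_mul_cancel, Units.val_one]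
      simp [this]
    rw [h1, smul_smul, smul_smul, mul_assoc, hc, mul_one]
  have horth : ∀ ψ χ : A →* Kˣ, ψ ≠ χ → e ψ * e χ = 0 := by
    intro ψ χ hne
    show (c • S ψ) * (c • S χ) = 0
    rw [smul_mul_assoc, mul_smul_comm, hSS, char_orth ψ χ hne, zero_smul, smul_zero, smul_zero]
  have hE2 : ∑ χ : A →* Kˣ, e χ = 1 := by
    show ∑ χ : A →* Kˣ, c • ∑ a : A, (((χ a)⁻¹ : Kˣ) : K) • φ a = 1
    rw [← Finset.smul_sum, Finset.sum_comm]
    have h1 : ∀ a : A, ∑ χ : A →* Kˣ, (((χ a)⁻¹ : Kˣ) : K) • φ a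
        = if a = 1 then (Fintype.card A : K) • (1 : Module.End K W) else 0 := by
      intro a
      rw [← Finset.sum_smul]
      by_cases ha : a = 1
      · subst ha
        rw [if_pos rfl, map_one]
        congr 1
        have : ∀ χ : A →* Kˣ, (((χ 1)⁻¹ : Kˣ) : K) = 1 := by
          intro χ
          rw [map_one, inv_one, Units.val_one]
        simp [this, hcardι]
      · rw [if_neg ha, char_orth' a ha, zero_smul]
    rw [Finset.sum_congr rfl (fun a _ => h1 a), Finset.sum_ite_eq' Finset.univ (1 : A)]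
    rw [if_pos (Finset.mem_univ _), smul_smul, hc, one_smul]
  have hE3 : ∀ χ, g * e χ = e (tw K α χ) * g := by
    intro χ
    show g * (c • ∑ a : A, (((χ a)⁻¹ : Kˣ) : K) • φ a)
      = (c • ∑ a : A, (((tw K α χ a)⁻¹ : Kˣ) : K) • φ a) * g
    rw [mul_smul_comm, smul_mul_assoc, Finset.mul_sum, Finset.sum_mul]
    congr 1
    refine Fintype.sum_equiv α.toEquiv _ _ (fun a => ?_)
    show g * ((((χ a)⁻¹ : Kˣ) : K) • φ a)
      = ((((tw K α χ) (α a))⁻¹ : Kˣ) : K) • φ (α a) * g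
    rw [tw_apply, MulAut.inv_apply_self, mul_smul_comm, hgφ, smul_mul_assoc]
  have hπq : (tw K α) ^ q = 1 := by rw [← map_pow, hα, map_one]
  have hfree : ∀ χ, e χ ≠ 0 → ∀ k, 0 < k → k < q → ((tw K α) ^ k) χ ≠ χ := by
    intro χ hχ k hk0 hkq heq
    apply hχ
    rw [← map_pow] at heq
    have hβ1 : ∀ a, χ ((α ^ k) a) = χ a := by
      intro a
      have := DFunLike.congr_fun heq ((α ^ k) a)
      rw [tw_apply, MulAut.inv_apply_self] at this
      exact this.symm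
    have hcop : Nat.Coprime k q :=
      Nat.Coprime.symm ((Nat.Prime.coprime_iff_not_dvd hq).mpr
        (Nat.not_dvd_of_pos_of_lt hk0 hkq))
    obtain ⟨m, -, hm⟩ := Nat.exists_mul_mod_eq_one_of_coprime hcop hq.one_lt
    have hβm : (α ^ k) ^ m = α := by
      rw [← pow_mul, pow_eq_pow_mod (k * m) hα, hm, pow_one]
    have hfixpow : ∀ (β : MulAut A) (a : A), β a = a → ∀ n : ℕ, (β ^ n) a = a := by
      intro β a ha n
      induction n with
      | zero => rfl
      | succ n ih => rw [pow_succ, MulAut.mul_apply, ha, ih]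
    have hβfpf : ∀ a, (α ^ k) a = a → a = 1 := by
      intro a ha
      apply hfpf
      have := hfixpow (α ^ k) a ha m
      rwa [hβm] at this
    have hinj : Function.Injective (fun a : A => (α ^ k) a / a) := by
      intro a b hab
      have h1 : (α ^ k) a / (α ^ k) b = a / b := div_eq_div_iff_div_eq_div.mp hab
      rw [← map_div] at h1
      exact div_eq_one.mp (hβfpf _ h1)
    have hsurj := Finite.injective_iff_surjective.mp hinj
    have hχ1 : ∀ a, χ a = 1 := by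
      intro a
      obtain ⟨b, hb⟩ := hsurj a
      rw [← hb]
      show χ ((α ^ k) b / b) = 1
      rw [map_div, hβ1, div_self']
    show c • ∑ a : A, (((χ a)⁻¹ : Kˣ) : K) • φ a = 0
    have h2 : ∀ a : A, (((χ a)⁻¹ : Kˣ) : K) • φ a = φ a := by
      intro a
      rw [hχ1, inv_one, Units.val_one, one_smul]
    rw [Finset.sum_congr rfl (fun a _ => h2 a), hsum, smul_zero]
  exact finrank_of_family g q hq.pos hg e (tw K α) hπq hidem horth hE2 hE3 hfree

end Char

end Cfsg.Agent.Lib.helper25.PQFree
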