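import Mathlib
import Cfsg.Agent.Lib.helper25.PQFreeC

/-!
# S4306, piece FREE: `|V| = |C_V(h)| ^ q` for a Frobenius action on an elementary abelian group
-/

set_option autoImplicit false

namespace Cfsg.Agent.Lib.helper25.PQFree

open Module TensorProduct

/-- Conjugation by a normalizing element, as an automorphism of the subgroup. -/
def conjAut {Γ : Type*} [Group Γ] (Y : Subgroup Γ) (h : Γ)
    (hn : h ∈ Subgroup.normalizer (Y : Set Γ)) : MulAut Y where
  toFun y := ⟨h * y * h⁻¹, (Subgroup.mem_normalizer_iff.mp hn y).mp y.2⟩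
  invFun y := ⟨h⁻¹ * y * h, (Subgroup.mem_normalizer_iff.mp hn (h⁻¹ * y * h)).mpr (by
    have h1 : h * (h⁻¹ * (y : Γ) * h) * h⁻¹ = y := by group
    rw [h1]; exact y.2)⟩
  left_inv y := by ext; simp [mul_assoc]
  right_inv y := by ext; simp [mul_assoc]
  map_mul' y y' := by ext; simp [mul_assoc]

theorem conjAut_apply {Γ : Type*} [Group Γ] (Y : Subgroup Γ) (h : Γ)
    (hn : h ∈ Subgroup.normalizer (Y : Set Γ)) (y : Y) :
    ((conjAut Y h hn y : Y) : Γ) = h * y * h⁻¹ := rfl

theorem conjAut_pow {Γ : Type*} [Group Γ] (Y : Subgroup Γ) (h : Γ)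
    (hn : h ∈ Subgroup.normalizer (Y : Set Γ)) (n : ℕ) (y : Y) :
    (((conjAut Y h hn ^ n) y : Y) : Γ) = h ^ n * y * (h ^ n)⁻¹ := by
  induction n with
  | zero => simp
  | succ n ih =>
    rw [pow_succ', MulAut.mul_apply, conjAut_apply, ih, pow_succ']
    group

/-- Linearization of automorphisms of an abelian group of prime exponent. -/
def pqLin (r : ℕ) {M : Type*} [CommGroup M] [Module (ZMod r) (Additive M)] :
    MulAut M →* Module.End (ZMod r) (Additive M) where
  toFun f := (MonoidHom.toAdditive f.toMonoidHom).toZModLinearMap r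
  map_one' := LinearMap.ext fun _ => rfl
  map_mul' _ _ := LinearMap.ext fun _ => rfl

theorem pqLin_apply (r : ℕ) {M : Type*} [CommGroup M] [Module (ZMod r) (Additive M)]
    (f : MulAut M) (u : Additive M) :
    pqLin r f u = Additive.ofMul (f (Additive.toMul u)) := rfl

/-- The linear form: `dim E = q * dim C_E(h)`. -/
theorem finrank_fixed_of_frob {k : Type*} [Field k] {E : Type*} [AddCommGroup E] [Module k E]
    [FiniteDimensional k E] {Γ : Type*} [Group Γ] (L : Γ →* Module.End k E) (Y : Subgroup Γ)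
    [Finite Y] (h : Γ) (q : ℕ) (hq : q.Prime) (hhq : h ^ q = 1)
    (hYab : ∀ y ∈ Y, ∀ y' ∈ Y, y * y' = y' * y)
    (hcard : (Nat.card Y : k) ≠ 0)
    (hnorm : h ∈ Subgroup.normalizer (Y : Set Γ))
    (hfpf : ∀ y ∈ Y, h * y = y * h → y = 1)
    (hfix : ∀ u : E, (∀ y ∈ Y, L y u = u) → u = 0) :
    Module.finrank k E = q * Module.finrank k (LinearMap.ker (L h - 1)) := by
  classical
  letI instC : CommGroup Y :=
    { (inferInstance : Group Y) with
      mul_comm := fun a b => Subtype.ext (hYab a a.2 b b.2) }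
  letI instF : Fintype Y := Fintype.ofFinite Y
  have hcardK : (Nat.card Y : AlgebraicClosure k) ≠ 0 := by
    intro h0
    apply hcard
    have h1 : algebraMap k (AlgebraicClosure k) (Nat.card Y : k) = 0 := by
      rw [map_natCast]; exact h0
    exact (map_eq_zero _).mp h1
  have hexpK : ((Monoid.exponent Y : ℕ) : AlgebraicClosure k) ≠ 0 := by
    intro h0
    apply hcardK
    obtain ⟨m, hm⟩ := Group.exponent_dvd_nat_card (G := Y)
    rw [hm, Nat.cast_mul, h0, zero_mul]
  haveI instNZ : NeZero ((Monoid.exponent Y : ℕ) : AlgebraicClosure k) := ⟨hexpK⟩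
  haveI instRU : HasEnoughRootsOfUnity (AlgebraicClosure k) (Monoid.exponent Y) :=
    IsSepClosed.hasEnoughRootsOfUnity (AlgebraicClosure k) (Monoid.exponent Y)
  let bc : Module.End k E →* Module.End (AlgebraicClosure k) (AlgebraicClosure k ⊗[k] E) :=
    MonoidHomClass.toMonoidHom (Module.End.baseChangeHom k (AlgebraicClosure k) E)
  have hbc : ∀ f : Module.End k E, bc f = f.baseChange (AlgebraicClosure k) := fun f => rfl
  let φ : Y →* Module.End (AlgebraicClosure k) (AlgebraicClosure k ⊗[k] E) :=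
    bc.comp (L.comp Y.subtype)
  have hφ : ∀ a : Y, φ a = bc (L (a : Γ)) := fun a => rfl
  let α : MulAut Y := conjAut Y h hnorm
  have hα : α ^ q = 1 := by
    ext y
    rw [conjAut_pow, hhq]
    simp
  have hg : (bc (L h)) ^ q = 1 := by
    rw [← map_pow, ← map_pow, hhq, map_one, map_one]
  have hgφ : ∀ a : Y, bc (L h) * φ a = φ (α a) * bc (L h) := by
    intro a
    rw [hφ, hφ, ← map_mul, ← map_mul, ← map_mul, ← map_mul]
    congr 2
    show h * (a : Γ) = h * (a : Γ) * h⁻¹ * h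
    rw [inv_mul_cancel_right]
  have hfpf' : ∀ a : Y, α a = a → a = 1 := by
    intro a ha
    have h1 : h * (a : Γ) * h⁻¹ = a := congrArg Subtype.val ha
    have h2 : h * (a : Γ) = a * h := mul_inv_eq_iff_eq_mul.mp h1
    exact Subtype.ext (hfpf a a.2 h2)
  have hsum0 : ∑ a : Y, L (a : Γ) = 0 := by
    apply LinearMap.ext
    intro u
    rw [LinearMap.zero_apply]
    apply hfix
    intro y hy
    rw [LinearMap.sum_apply, map_sum]
    refine Fintype.sum_equiv (Equiv.mulLeft (⟨y, hy⟩ : Y)) _ _ (fun a => ?_)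
    show L y (L (a : Γ) u) = L (y * (a : Γ)) u
    rw [map_mul]; rfl
  have hsum : ∑ a : Y, φ a = 0 := by
    have h1 : ∑ a : Y, φ a
        = (Module.End.baseChangeHom k (AlgebraicClosure k) E) (∑ a : Y, L (a : Γ)) := by
      rw [map_sum]; rfl
    rw [h1, hsum0, map_zero]
  have hcard' : (Fintype.card Y : AlgebraicClosure k) ≠ 0 := by
    rw [← Nat.card_eq_fintype_card]; exact hcardK
  have key := finrank_of_char (K := AlgebraicClosure k) (W := AlgebraicClosure k ⊗[k] E)
    φ α (bc (L h)) q hq hα hg hgφ hfpf' hsum hcard'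
  rw [Module.finrank_baseChange] at key
  rw [key]
  congr 1
  have h2 : bc (L h) - 1 = (L h - 1).baseChange (AlgebraicClosure k) := by
    rw [hbc]
    ext x
    simp
  rw [h2]
  have h3 := (LinearMap.tensorKerEquiv (AlgebraicClosure k) (AlgebraicClosure k)
    (L h - 1)).finrank_eq
  rw [Module.finrank_baseChange] at h3
  exact h3.symm

/-- The module form of FREE. -/
theorem free_count_lin (V : Type*) [CommGroup V] [Finite V] (ℓ : ℕ) [Fact ℓ.Prime]
    [Module (ZMod ℓ) (Additive V)] (Y : Subgroup (MulAut V)) (h : MulAut V) (q : ℕ)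
    (hq : q.Prime)
    (hhq : h ^ q = 1) (hYab : ∀ y ∈ Y, ∀ y' ∈ Y, y * y' = y' * y)
    (hcop : (Nat.card Y).Coprime ℓ) (hnorm : h ∈ Subgroup.normalizer (Y : Set (MulAut V)))
    (hfpf : ∀ y ∈ Y, h * y = y * h → y = 1) (hfix : ∀ v : V, (∀ y ∈ Y, y v = v) → v = 1) :
    Nat.card V = Nat.card {v : V // h v = v} ^ q := by
  classical
  have hℓ : ℓ.Prime := Fact.out
  haveI instFin : Finite (Additive V) := inferInstanceAs (Finite V)
  haveI instMF : Module.Finite (ZMod ℓ) (Additive V) := Module.Finite.of_finite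
  haveI instFinY : Finite Y := inferInstance
  have hcard : ((Nat.card Y : ℕ) : ZMod ℓ) ≠ 0 := by
    intro h0
    have h1 : ℓ ∣ Nat.card Y := (CharP.cast_eq_zero_iff (ZMod ℓ) ℓ _).mp h0
    have h2 : ℓ ∣ 1 := by
      have := Nat.dvd_gcd h1 (dvd_refl ℓ)
      rwa [hcop] at this
    exact hℓ.one_lt.ne' (Nat.dvd_one.mp h2)
  let L : MulAut V →* Module.End (ZMod ℓ) (Additive V) := pqLin ℓ
  have hfix' : ∀ u : Additive V, (∀ y ∈ Y, L y u = u) → u = 0 := by
    intro u hu
    have h1 := hfix (Additive.toMul u) (fun y hy => congrArg Additive.toMul (hu y hy))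
    exact congrArg Additive.ofMul h1
  have key : Module.finrank (ZMod ℓ) (Additive V)
      = q * Module.finrank (ZMod ℓ) (LinearMap.ker (L h - 1)) :=
    finrank_fixed_of_frob L Y h q hq hhq hYab hcard hnorm hfpf hfix'
  have h1 : Nat.card V = ℓ ^ Module.finrank (ZMod ℓ) (Additive V) := by
    have h := Module.natCard_eq_pow_finrank (K := ZMod ℓ) (V := Additive V)
    rw [Nat.card_zmod] at h
    exact h
  have h2 : Nat.card {v : V // h v = v}
      = ℓ ^ Module.finrank (ZMod ℓ) (LinearMap.ker (L h - 1)) := by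
    have h' := Module.natCard_eq_pow_finrank (K := ZMod ℓ) (V := LinearMap.ker (L h - 1))
    rw [Nat.card_zmod] at h'
    rw [← h']
    apply Nat.card_congr
    refine Equiv.subtypeEquiv Additive.ofMul (fun v => ?_)
    rw [LinearMap.mem_ker, LinearMap.sub_apply, sub_eq_zero]
    exact ⟨fun hv => congrArg Additive.ofMul hv, fun hv => congrArg Additive.toMul hv⟩
  rw [h1, h2, key, ← pow_mul, mul_comm]

/-- **FREE**: a Frobenius group `Y ⋊ ⟨h⟩` (`Y` abelian, `h` of prime order `q` fixed-point-free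
on `Y`) acting on an elementary abelian `ℓ`-group `V` with `C_V(Y) = 1`, `|Y|` prime to `ℓ`:
then `|V| = |C_V(h)| ^ q`. -/
theorem free_count_aux (V : Type*) [CommGroup V] [Finite V] (ℓ : ℕ) (hℓ : ℓ.Prime)
    (hV : ∀ v : V, v ^ ℓ = 1) (Y : Subgroup (MulAut V)) (h : MulAut V) (q : ℕ) (hq : q.Prime)
    (hhq : h ^ q = 1) (hYab : ∀ y ∈ Y, ∀ y' ∈ Y, y * y' = y' * y)
    (hcop : (Nat.card Y).Coprime ℓ) (hnorm : h ∈ Subgroup.normalizer (Y : Set (MulAut V)))
    (hfpf : ∀ y ∈ Y, h * y = y * h → y = 1) (hfix : ∀ v : V, (∀ y ∈ Y, y v = v) → v = 1) :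
    Nat.card V = Nat.card {v : V // h v = v} ^ q := by
  haveI instFact : Fact ℓ.Prime := ⟨hℓ⟩
  have hexp : ∀ a : Additive V, ℓ • a = 0 := by
    intro a
    apply Additive.toMul.injective
    rw [toMul_nsmul, hV]
    rfl
  letI instMod : Module (ZMod ℓ) (Additive V) := AddCommGroup.zmodModule hexp
  exact free_count_lin V ℓ Y h q hq hhq hYab hcop hnorm hfpf hfix

end Cfsg.Agent.Lib.helper25.PQFree

namespace Cfsg.Agent.Lib.helper75.PQ

/-- FREE: a Frobenius group `Y ⋊ ⟨h⟩` (`Y` abelian, `h` of prime order `q` fixed-point-free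
on `Y`) acting on an elementary abelian `ℓ`-group `V` with `C_V(Y) = 1`, `|Y|` prime to `ℓ`:
then `|V| = |C_V(h)| ^ q`. -/
theorem free_count (V : Type*) [CommGroup V] [Finite V] (ℓ : ℕ) (hℓ : ℓ.Prime)
    (hV : ∀ v : V, v ^ ℓ = 1) (Y : Subgroup (MulAut V)) (h : MulAut V) (q : ℕ) (hq : q.Prime)
    (hhq : h ^ q = 1) (hYab : ∀ y ∈ Y, ∀ y' ∈ Y, y * y' = y' * y)
    (hcop : (Nat.card Y).Coprime ℓ) (hnorm : h ∈ Subgroup.normalizer (Y : Set (MulAut V)))
    (hfpf : ∀ y ∈ Y, h * y = y * h → y = 1) (hfix : ∀ v : V, (∀ y ∈ Y, y v = v) → v = 1) :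
    Nat.card V = Nat.card {v : V // h v = v} ^ q :=
  Cfsg.Agent.Lib.helper25.PQFree.free_count_aux V ℓ hℓ hV Y h q hq hhq hYab hcop hnorm hfpf hfix

end Cfsg.Agent.Lib.helper75.PQ
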