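import Mathlib
import Cfsg.Agent.Lib.helper65.PearlBasic

set_option autoImplicit false

namespace Cfsg.Agent.Lib.helper65.PearlPow

open Cfsg.Agent.Lib.helper68

variable {H : Type*} [Group H]

/-- Q core: the verbatim `q_claim` statement with the D1 / I1 / S / U statements as hypotheses. -/
theorem h25_q_claim_core
    (hD1 : ∀ {u v : ℕ} {s s' : ℕ → H}, PolySeq v s → Rel u s s' → Rel (u + 1) (dl s) (dl s'))
    (hI1 : ∀ {v j : ℕ} {s : ℕ → H} {y : H}, PolySeq v s → y ∈ gam H j →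
        Rel (v + 1 + j) (dl s) (dl (fun n => s n * y)))
    (x g : H) {w : ℕ} (hg : g ∈ gam H w)
    (hS : ∀ j : ℕ, Rel (w + j + 2) ((ph x)^[j] (dl (tt x g))) (dl ((ph x)^[j] (tt x g))))
    (hU : ∀ j : ℕ, Rel (w + j + 2) (fun n => (ph x)^[j + 1] (tt x g) n * yk x (com x g) j)
      ((ph x)^[j] (dl (tt x g))))
    (k : ℕ) :
    Rel (w + k + 2) (fun n => (ph x)^[k + 1] (tt x g) n * yk x (com x g) k)
      (dl^[k + 1] (tt x g)) := by
  induction k with
  | zero =>
    apply rel_of_eq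
    show (fun n => ph x (tt x g) n * com x g) = dl (tt x g)
    rw [dl_tt]
  | succ k ih =>
    have hP : PolySeq (w + (k + 1)) ((ph x)^[k + 1] (tt x g)) :=
      polyseq_ph_iter x (tt_polyseq x g hg) (k + 1)
    have hy : yk x (com x g) k ∈ gam H (w + 1 + k) := yk_mem x g hg k
    have hPy : PolySeq (w + (k + 1)) (fun n => (ph x)^[k + 1] (tt x g) n * yk x (com x g) k) :=
      PolySeq.mul hP (PolySeq.mono (by omega) (polyseq_const hy))
    have h1 := hD1 hPy ih
    have h2 := hI1 hP hy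
    have h3 := hS (k + 1)
    have h4 := hU (k + 1)
    rw [Function.iterate_succ_apply' dl]
    exact rel_trans (rel_mono (by omega) h4) (rel_trans (rel_mono (by omega) h3)
      (rel_trans (rel_mono (by omega) h2) (rel_mono (by omega) h1)))

/-- TOP core: the verbatim `top` statement with the `q_claim` statement as a hypothesis. -/
theorem h25_top_core (x g : H) {w : ℕ} (hg : g ∈ gam H w) (p : ℕ) (hp : 1 ≤ p)
    (hnil : gam H (w + 1 + p) = ⊥)
    (hQ : ∀ k : ℕ, Rel (w + k + 2) (fun n => (ph x)^[k + 1] (tt x g) n * yk x (com x g) k)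
      (dl^[k + 1] (tt x g))) :
    dl^[p] (tt x g) 0 = yk x (com x g) (p - 1) := by
  obtain ⟨k, rfl⟩ : ∃ k, p = k + 1 := ⟨p - 1, by omega⟩
  have h := hQ k
  unfold Rel at h
  have hm := h.mem 0
  have e : w + k + 2 = w + 1 + (k + 1) := by omega
  rw [e, hnil, Subgroup.mem_bot] at hm
  have h0 : ((ph x)^[k + 1] (tt x g)) 0 = 1 := ph_iter_zero x (tt_zero x g) (k + 1)
  have hm' : ((ph x)^[k + 1] (tt x g) 0 * yk x (com x g) k)⁻¹ * dl^[k + 1] (tt x g) 0 = 1 := hm
  rw [h0, one_mul] at hm'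
  rw [Nat.add_sub_cancel]
  exact (inv_mul_eq_one.1 hm').symm

end Cfsg.Agent.Lib.helper65.PearlPow
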