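import Mathlib
import Cfsg.Agent.Lib.helper44.PresDefs
import Cfsg.Agent.Lib.helper92.PresPW
import Cfsg.Agent.Lib.helper43.PresX1Core
import Cfsg.Agent.Lib.helper97.PresX2
import Cfsg.Agent.Lib.helper92.PresBR

/-! S2286 split, piece ASO: the abstract side in odd characteristic (`conf_odd`), assembled from
the pieces PW, X2 (`h_param`), BR (`bp_scale`, `bp_of_rel`) and helper43's core of X1. -/

set_option autoImplicit false

namespace Cfsg.Agent.Lib.helper44.Pres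

open Polynomial

/-- The statement of piece X1 (`exists_param`), from helper43's core and the landed piece PW
(private copy under a prefixed name, so that ASO does not wait for the canonical X1 module). -/
theorem helper25_exists_param {G : Type*} [Group G] {F : Type*} [Field F] [Fintype F] {p : ℕ}
    [Fact p.Prime] [Algebra (ZMod p) F] (u g : G) (μ : F)
    (hμ : Algebra.adjoin (ZMod p) {μ} = ⊤) (hp : u ^ p = 1)
    (hcomm : ∀ n : ℕ, Commute u (g ^ n * u * (g ^ n)⁻¹))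
    (hrel : polyWord g u (minpoly (ZMod p) μ) = 1) :
    ∃ x : F → G, x 1 = u ∧ (∀ a b, x (a + b) = x a * x b) ∧ (∀ a, g * x a * g⁻¹ = x (μ * a)) ∧
      ∀ f : (ZMod p)[X], x (aeval μ f) = polyWord g u f :=
  Cfsg.Agent.Lib.helper43.Pres.exists_param_core u g μ (polyWord g u) (polyWord_one g u)
    (polyWord_X_mul g u) (polyWord_add g u hp hcomm) hμ hrel

-- ASO
theorem conf_odd {G : Type*} [Group G] {F : Type*} [Field F] [Fintype F] {p : ℕ} [Fact p.Prime]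
    [Algebra (ZMod p) F] (u t h : G) (ζ : Fˣ) (hζ : ∀ y : Fˣ, y ∈ Subgroup.zpowers ζ) (i : ℕ)
    (hμ : Algebra.adjoin (ZMod p) {((ζ : F) ^ 2) ^ i} = ⊤) (hp : u ^ p = 1)
    (hcomm : ∀ n : ℕ, Commute u ((h ^ i) ^ n * u * ((h ^ i) ^ n)⁻¹))
    (hG : polyWord (h ^ i) u (minpoly (ZMod p) (((ζ : F) ^ 2) ^ i)) = 1)
    (L Z Z' : (ZMod p)[X]) (hL : aeval (((ζ : F) ^ 2) ^ i) L = (ζ : F) ^ 2)
    (hZ : aeval (((ζ : F) ^ 2) ^ i) Z = (ζ : F))
    (hZ' : aeval (((ζ : F) ^ 2) ^ i) Z' = ((ζ⁻¹ : Fˣ) : F))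
    (hLrel : h * u * h⁻¹ = polyWord (h ^ i) u L) (hD : t * h * t⁻¹ = h⁻¹)
    (h6 : u * t * u * t⁻¹ * u = t)
    (h7 : polyWord (h ^ i) u Z * t * polyWord (h ^ i) u Z' * t⁻¹ * polyWord (h ^ i) u Z = h * t)
    (n s : ℕ) (ht2 : t * t = h ^ s) (hn : h ^ n = 1) (hn0 : 0 < n) :
    ∃ x : F → G, IsBConf x u t h ((ζ : F) ^ 2) n s := by
  classical
  obtain ⟨x, hx1, hxa, hxg, hxf⟩ := helper25_exists_param u (h ^ i) (((ζ : F) ^ 2) ^ i) hμ hp hcomm hG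
  have hgh : Commute h (h ^ i) := (Commute.refl h).pow_right i
  have hhx := h_param u (h ^ i) h (((ζ : F) ^ 2) ^ i) ((ζ : F) ^ 2) hμ x hx1 hxa hxg hxf hgh L hL
    hLrel
  have hb1 : BP x t h 1 := by
    apply bp_of_rel x t h ((ζ : F) ^ 2) n s hxa hhx hD ht2 hn hn0 1 1 0
    rw [hx1, pow_zero, one_mul]
    exact h6
  have e1 : x (ζ : F) = polyWord (h ^ i) u Z := by rw [← hxf, hZ]
  have e2 : x ((ζ⁻¹ : Fˣ) : F) = polyWord (h ^ i) u Z' := by rw [← hxf, hZ']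
  have hbz : BP x t h ((ζ⁻¹ : Fˣ) : F) := by
    apply bp_of_rel x t h ((ζ : F) ^ 2) n s hxa hhx hD ht2 hn hn0 (ζ : F) ((ζ⁻¹ : Fˣ) : F) 1
    rw [e1, e2, pow_one]
    exact h7
  refine ⟨x, ⟨hx1, hxa, hhx, hD, ht2, hn, hn0, ?_⟩⟩
  intro a ha
  obtain ⟨m, hm⟩ : ∃ m : ℕ, a = (ζ : F) ^ m := by
    have h1 : Units.mk0 a ha ∈ Submonoid.powers ζ :=
      mem_powers_iff_mem_zpowers.mpr (hζ (Units.mk0 a ha))
    obtain ⟨m, hm⟩ := (Submonoid.mem_powers_iff _ _).mp h1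
    refine ⟨m, ?_⟩
    have h2 := congrArg (fun y : Fˣ => (y : F)) hm
    simp only [Units.val_pow_eq_pow_val, Units.val_mk0] at h2
    exact h2.symm
  have hζζ : (ζ : F) * ((ζ⁻¹ : Fˣ) : F) = 1 := Units.mul_inv ζ
  rcases Nat.even_or_odd' m with ⟨k, hk | hk⟩
  · have h3 := bp_scale x t h ((ζ : F) ^ 2) n hxa hhx hD hn hn0 1 k hb1
    have h4 : ((ζ : F) ^ 2) ^ k * 1 = a := by
      rw [hm, hk, mul_one, pow_mul]
    rw [h4] at h3
    exact h3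
  · have h3 := bp_scale x t h ((ζ : F) ^ 2) n hxa hhx hD hn hn0 ((ζ⁻¹ : Fˣ) : F) (k + 1) hbz
    have h4 : ((ζ : F) ^ 2) ^ (k + 1) * ((ζ⁻¹ : Fˣ) : F) = a := by
      rw [hm, hk, ← pow_mul]
      have h5 : 2 * (k + 1) = (2 * k + 1) + 1 := by ring
      rw [h5, pow_succ, mul_assoc, hζζ, mul_one]
    rw [h4] at h3
    exact h3

end Cfsg.Agent.Lib.helper44.Pres
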