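import Mathlib
import Cfsg.Agent.Lib.helper44.PresDefs
import Cfsg.Agent.Lib.helper92.PresPW
import Cfsg.Agent.Lib.helper28.PresPG
import Cfsg.Agent.Lib.helper77.PresMATa
import Cfsg.Agent.Lib.helper77.PresMATb
import Cfsg.Agent.Lib.helper27.PresMATc
import Cfsg.Agent.Lib.helper25.PresASO

/-! S2286 split, piece GPSL: the generic theorem for `PSL₂(F)` in odd characteristic
(`psl_odd_generic`), assembled from the pieces PW, ASO, PG, MATa, MATb, MATc. -/

set_option autoImplicit false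

namespace Cfsg.Agent.Lib.helper44.Pres

open Polynomial

/-- The lift of three elements of a presented group on `Fin 3` given as classes of the free
generators is the quotient map. -/
theorem helper25_lift_mk (rels : Set (FreeGroup (Fin 3))) :
    FreeGroup.lift ![PresentedGroup.mk rels gu, PresentedGroup.mk rels gt,
      PresentedGroup.mk rels gh] = PresentedGroup.mk rels := by
  apply FreeGroup.ext_hom
  intro j
  rw [FreeGroup.lift_apply_of]
  fin_cases j <;> rfl

/-- Lifting commutes with a homomorphism of the target. -/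
theorem helper25_lift_comp {S S' : Type*} [Group S] [Group S'] (φ : S →* S') (f : Fin 3 → S)
    (r : FreeGroup (Fin 3)) :
    FreeGroup.lift (fun j => φ (f j)) r = φ (FreeGroup.lift f r) := by
  have h : FreeGroup.lift (fun j => φ (f j)) = φ.comp (FreeGroup.lift f) := by
    apply FreeGroup.ext_hom
    intro j
    rw [FreeGroup.lift_apply_of, MonoidHom.comp_apply, FreeGroup.lift_apply_of]
  rw [h, MonoidHom.comp_apply]

theorem helper25_mU_zero {F : Type*} [Field F] : mU F 0 = 1 := by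
  have h := mU_mul (F := F) 0 0
  rw [add_zero] at h
  exact mul_eq_left.mp h

theorem helper25_lift_gu {S : Type*} [Group S] (a b c : S) :
    FreeGroup.lift ![a, b, c] gu = a := by
  unfold gu
  rw [FreeGroup.lift_apply_of]
  rfl

theorem helper25_lift_gt {S : Type*} [Group S] (a b c : S) :
    FreeGroup.lift ![a, b, c] gt = b := by
  unfold gt
  rw [FreeGroup.lift_apply_of]
  rfl

theorem helper25_lift_gh {S : Type*} [Group S] (a b c : S) :
    FreeGroup.lift ![a, b, c] gh = c := by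
  unfold gh
  rw [FreeGroup.lift_apply_of]
  rfl

-- GPSL
theorem psl_odd_generic {F : Type*} [Field F] [Fintype F] {p : ℕ} [Fact p.Prime]
    [Algebra (ZMod p) F] (hp2 : p ≠ 2) (ζ : Fˣ) (hζ : ∀ y : Fˣ, y ∈ Subgroup.zpowers ζ) (i : ℕ)
    (hμ : Algebra.adjoin (ZMod p) {((ζ : F) ^ 2) ^ i} = ⊤)
    (extra : List (FreeGroup (Fin 3))) (hlen : extra.length ≤ 3)
    (hPSL : ∀ r ∈ extra, FreeGroup.lift ![mU F 1, mT F, mH ζ] r ∈
      Subgroup.center (Matrix.SpecialLinearGroup (Fin 2) F))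
    (hcomm : ∀ (G : Type) [Group G] (u t h : G),
      polyWord (h ^ i) u (minpoly (ZMod p) (((ζ : F) ^ 2) ^ i)) = 1 →
      (∀ r ∈ extra, FreeGroup.lift ![u, t, h] r = 1) →
      u ^ p = 1 ∧ h ^ ((Fintype.card F - 1) / 2) = 1 ∧
        ∀ n : ℕ, Commute u ((h ^ i) ^ n * u * ((h ^ i) ^ n)⁻¹)) :
    ∃ rels : Finset (FreeGroup (Fin 3)), rels.card ≤ 9 ∧
      Nonempty (PresentedGroup (↑rels : Set (FreeGroup (Fin 3))) ≃*
        Matrix.ProjectiveSpecialLinearGroup (Fin 2) F) := by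
  classical
  have hp : p.Prime := Fact.out
  -- arithmetic of `q`
  have : CharP F p :=
    charP_of_injective_algebraMap (algebraMap (ZMod p) F).injective p
  obtain ⟨e, -, hq⟩ := FiniteField.card F p
  have hodd : Odd (Fintype.card F) := by
    rw [hq]
    exact (hp.odd_of_ne_two hp2).pow
  have hq1 : 1 < Fintype.card F := Fintype.one_lt_card
  have hn0 : 0 < (Fintype.card F - 1) / 2 := by
    obtain ⟨k, hk⟩ := hodd
    omega
  -- polynomials representing `ζ²`, `ζ`, `ζ⁻¹`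
  obtain ⟨μ, hμdef⟩ : ∃ μ : F, μ = ((ζ : F) ^ 2) ^ i := ⟨_, rfl⟩
  rw [← hμdef] at hμ hcomm
  have hsurj : ∀ a : F, ∃ f : (ZMod p)[X], aeval μ f = a := by
    intro a
    have h1 : a ∈ Algebra.adjoin (ZMod p) {μ} := by
      rw [hμ]
      exact Algebra.mem_top
    rw [Algebra.adjoin_singleton_eq_range_aeval] at h1
    exact h1
  obtain ⟨L, hL⟩ := hsurj ((ζ : F) ^ 2)
  obtain ⟨Z, hZ⟩ := hsurj (ζ : F)
  obtain ⟨Z', hZ'⟩ := hsurj ((ζ⁻¹ : Fˣ) : F)
  -- the relators
  obtain ⟨r1, hr1⟩ : ∃ r : FreeGroup (Fin 3), r = polyWord (gh ^ i) gu (minpoly (ZMod p) μ) :=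
    ⟨_, rfl⟩
  obtain ⟨r2, hr2⟩ : ∃ r : FreeGroup (Fin 3),
      r = gh * gu * gh⁻¹ * (polyWord (gh ^ i) gu L)⁻¹ := ⟨_, rfl⟩
  obtain ⟨r3, hr3⟩ : ∃ r : FreeGroup (Fin 3), r = gt * gh * gt⁻¹ * gh := ⟨_, rfl⟩
  obtain ⟨r4, hr4⟩ : ∃ r : FreeGroup (Fin 3), r = gu * gt * gu * gt⁻¹ * gu * gt⁻¹ := ⟨_, rfl⟩
  obtain ⟨r5, hr5⟩ : ∃ r : FreeGroup (Fin 3),
      r = polyWord (gh ^ i) gu Z * gt * polyWord (gh ^ i) gu Z' * gt⁻¹ * polyWord (gh ^ i) gu Z *
        (gh * gt)⁻¹ := ⟨_, rfl⟩
  obtain ⟨r6, hr6⟩ : ∃ r : FreeGroup (Fin 3), r = gt * gt := ⟨_, rfl⟩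
  obtain ⟨lst, hlst⟩ : ∃ l : List (FreeGroup (Fin 3)), l = [r1, r2, r3, r4, r5, r6] ++ extra :=
    ⟨_, rfl⟩
  have hmem : ∀ r, r ∈ (↑lst.toFinset : Set (FreeGroup (Fin 3))) ↔ r ∈ lst := by
    intro r
    rw [Finset.mem_coe, List.mem_toFinset]
  refine ⟨lst.toFinset, ?_, ?_⟩
  · have h1 : lst.length ≤ 9 := by
      rw [hlst, List.length_append]
      simp only [List.length_cons, List.length_nil]
      omega
    exact (List.toFinset_card_le lst).trans h1
  -- the presented group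
  obtain ⟨rels, hrels⟩ : ∃ rels : Set (FreeGroup (Fin 3)), rels = ↑lst.toFinset := ⟨_, rfl⟩
  rw [← hrels]
  rw [← hrels] at hmem
  have hrel : ∀ r ∈ lst, PresentedGroup.mk rels r = 1 := by
    intro r hr
    exact (QuotientGroup.eq_one_iff r).mpr (Subgroup.subset_normalClosure ((hmem r).mpr hr))
  have hin : ∀ r, r ∈ [r1, r2, r3, r4, r5, r6] → r ∈ lst := by
    intro r hr
    rw [hlst]
    exact List.mem_append_left _ hr
  obtain ⟨U, hU⟩ : ∃ U : PresentedGroup rels, U = PresentedGroup.mk rels gu := ⟨_, rfl⟩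
  obtain ⟨T, hT⟩ : ∃ T : PresentedGroup rels, T = PresentedGroup.mk rels gt := ⟨_, rfl⟩
  obtain ⟨Hh, hHh⟩ : ∃ Hh : PresentedGroup rels, Hh = PresentedGroup.mk rels gh := ⟨_, rfl⟩
  have hpw : ∀ f : (ZMod p)[X],
      PresentedGroup.mk rels (polyWord (gh ^ i) gu f) = polyWord (Hh ^ i) U f := by
    intro f
    rw [polyWord_map, map_pow, ← hU, ← hHh]
  -- the relations in the presented group
  have e1 : polyWord (Hh ^ i) U (minpoly (ZMod p) μ) = 1 := by
    have h1 := hrel r1 (hin r1 (by simp))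
    rw [hr1, hpw] at h1
    exact h1
  have e2 : Hh * U * Hh⁻¹ = polyWord (Hh ^ i) U L := by
    have h1 := hrel r2 (hin r2 (by simp))
    rw [hr2, map_mul, map_mul, map_mul, map_inv, map_inv, hpw, ← hU, ← hHh] at h1
    exact mul_inv_eq_one.mp h1
  have e3 : T * Hh * T⁻¹ = Hh⁻¹ := by
    have h1 := hrel r3 (hin r3 (by simp))
    rw [hr3, map_mul, map_mul, map_mul, map_inv, ← hT, ← hHh] at h1
    exact mul_eq_one_iff_eq_inv.mp h1
  have e4 : U * T * U * T⁻¹ * U = T := by
    have h1 := hrel r4 (hin r4 (by simp))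
    rw [hr4, map_mul, map_mul, map_mul, map_mul, map_mul, map_inv, ← hT, ← hU] at h1
    exact mul_inv_eq_one.mp h1
  have e5 : polyWord (Hh ^ i) U Z * T * polyWord (Hh ^ i) U Z' * T⁻¹ * polyWord (Hh ^ i) U Z
      = Hh * T := by
    have h1 := hrel r5 (hin r5 (by simp))
    rw [hr5, map_mul, map_mul, map_mul, map_mul, map_mul, map_inv, map_inv, map_mul, hpw, hpw,
      ← hT, ← hHh] at h1
    exact mul_inv_eq_one.mp h1
  have e6 : T * T = Hh ^ 0 := by
    have h1 := hrel r6 (hin r6 (by simp))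
    rw [hr6, map_mul, ← hT] at h1
    rw [pow_zero]
    exact h1
  have hextra : ∀ r ∈ extra, FreeGroup.lift ![U, T, Hh] r = 1 := by
    intro r hr
    rw [hU, hT, hHh, helper25_lift_mk]
    apply hrel
    rw [hlst]
    exact List.mem_append_right _ hr
  obtain ⟨hUp, hHn, hcm⟩ := hcomm (PresentedGroup rels) U T Hh e1 hextra
  rw [hμdef] at hμ e1 hL hZ hZ'
  obtain ⟨x, hx⟩ := conf_odd U T Hh ζ hζ i hμ hUp hcm e1 L Z Z' hL hZ hZ' e2 e3 e4 e5
    ((Fintype.card F - 1) / 2) 0 e6 hHn hn0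
  -- the matrix side
  obtain ⟨φ, hφ⟩ : ∃ φ : Matrix.SpecialLinearGroup (Fin 2) F →*
      Matrix.ProjectiveSpecialLinearGroup (Fin 2) F,
      φ = QuotientGroup.mk' (Subgroup.center (Matrix.SpecialLinearGroup (Fin 2) F)) := ⟨_, rfl⟩
  have hφsurj : Function.Surjective φ := by
    rw [hφ]
    exact QuotientGroup.mk'_surjective _
  have hφ1 : ∀ g : Matrix.SpecialLinearGroup (Fin 2) F,
      g ∈ Subgroup.center (Matrix.SpecialLinearGroup (Fin 2) F) → φ g = 1 := by
    intro g hg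
    rw [hφ]
    exact (QuotientGroup.eq_one_iff g).mpr hg
  have hUT : U = PresentedGroup.of (0 : Fin 3) := by rw [hU]; rfl
  have hTT : T = PresentedGroup.of (1 : Fin 3) := by rw [hT]; rfl
  have hHT : Hh = PresentedGroup.of (2 : Fin 3) := by rw [hHh]; rfl
  rw [hUT, hTT, hHT] at hx
  have hpwm : ∀ f : (ZMod p)[X],
      FreeGroup.lift ![mU F 1, mT F, mH ζ] (polyWord (gh ^ i) gu f)
        = mU F (aeval (((ζ : F) ^ 2) ^ i) f) := by
    intro f
    rw [polyWord_map, map_pow, helper25_lift_gu, helper25_lift_gh, polyWord_mU]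
  have hone : (1 : Matrix.SpecialLinearGroup (Fin 2) F) ∈
      Subgroup.center (Matrix.SpecialLinearGroup (Fin 2) F) := Subgroup.one_mem _
  apply pres_of_conf rels (fun j => φ (![mU F 1, mT F, mH ζ] j)) ?_ ?_ x ((ζ : F) ^ 2)
    ((Fintype.card F - 1) / 2) 0 hx (card_psl_ge hodd)
  · intro r hr
    rw [helper25_lift_comp]
    apply hφ1
    have hr' := (hmem r).mp hr
    rw [hlst, List.mem_append] at hr'
    rcases hr' with hr' | hr'
    · simp only [List.mem_cons, List.not_mem_nil, or_false] at hr'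
      rcases hr' with rfl | rfl | rfl | rfl | rfl | rfl
      · rw [hr1, hμdef, hpwm, minpoly.aeval, helper25_mU_zero]
        exact hone
      · rw [hr2, map_mul, map_mul, map_mul, map_inv, map_inv, hpwm, helper25_lift_gu,
          helper25_lift_gh, hL]
        have h1 := mH_pow_conj ζ 1 (1 : F)
        rw [pow_one, pow_one, mul_one] at h1
        rw [h1, mul_inv_cancel]
        exact hone
      · rw [hr3, map_mul, map_mul, map_mul, map_inv, helper25_lift_gt, helper25_lift_gh, mT_mH,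
          inv_mul_cancel]
        exact hone
      · rw [hr4, map_mul, map_mul, map_mul, map_mul, map_mul, map_inv, helper25_lift_gt,
          helper25_lift_gu, mat_rel6, mul_inv_cancel]
        exact hone
      · rw [hr5, map_mul, map_mul, map_mul, map_mul, map_mul, map_inv, map_inv, map_mul, hpwm,
          hpwm, helper25_lift_gt, helper25_lift_gh, hZ, hZ', mat_rel7, mul_inv_cancel]
        exact hone
      · rw [hr6, map_mul, helper25_lift_gt]
        exact mT_sq_mem_center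
    · exact hPSL r hr'
  · have h1 := mat_closure ζ i hμ
    have h2 : Set.range (fun j => φ (![mU F 1, mT F, mH ζ] j))
        = φ '' Set.range ![mU F 1, mT F, mH ζ] := by
      rw [← Set.range_comp]
      rfl
    rw [h2, ← MonoidHom.map_closure, h1, ← MonoidHom.range_eq_map]
    exact MonoidHom.range_eq_top.mpr hφsurj

end Cfsg.Agent.Lib.helper44.Pres
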