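import Mathlib
import Cfsg.Agent.Lib.helper74.QODefs

/-! S1935 split, piece L6a: two additive subgroups with zero products whose "unit groups"
`1 + P`, `1 + Q` normalize each other. -/

set_option autoImplicit false

namespace Cfsg.Agent.Lib.helper25.QO

open Cfsg.Agent.Lib.helper74.QO

variable {R : Type*} [Ring R]

/-- PIECE L6a -/
theorem comm_of_normalizes (P Q : AddSubgroup R)
    (hP : ∀ p ∈ P, ∀ p' ∈ P, p * p' = 0) (hQ : ∀ q ∈ Q, ∀ q' ∈ Q, q * q' = 0)
    (h1 : ∀ p ∈ P, ∀ q ∈ Q, (1 - q) * (1 + p) * (1 + q) - 1 ∈ P)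
    (h2 : ∀ p ∈ P, ∀ q ∈ Q, (1 - p) * (1 + q) * (1 + p) - 1 ∈ Q) :
    ∀ p ∈ P, ∀ q ∈ Q, p * q - q * p ∈ P ∧ p * q - q * p ∈ Q ∧ p * q * p = 0 ∧ q * p * q = 0 := by
  intro p hp q hq
  have hpp : p * p = 0 := hP p hp p hp
  have hqq : q * q = 0 := hQ q hq q hq
  have hκ : (1 - q) * (1 + p) * (1 + q) - 1 = p + p * q - q * p - q * p * q := by
    have h : (1 - q) * (1 + p) * (1 + q) - 1 = p + p * q - q * p - q * p * q - q * q := by
      noncomm_ring
    rw [h, hqq, sub_zero]
  have hκ' : (1 - p) * (1 + q) * (1 + p) - 1 = q + q * p - p * q - p * q * p := by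
    have h : (1 - p) * (1 + q) * (1 + p) - 1 = q + q * p - p * q - p * q * p - p * p := by
      noncomm_ring
    rw [h, hpp, sub_zero]
  have hκP := h1 p hp q hq
  have hκQ := h2 p hp q hq
  rw [hκ] at hκP
  rw [hκ'] at hκQ
  have e1 := hP p hp _ hκP
  have e2 := hQ q hq _ hκQ
  have hpqp : p * q * p = 0 := by
    have h3 : p * q * p * (1 + q) = p * p * (1 + q) - p * (p + p * q - q * p - q * p * q) := by
      noncomm_ring
    rw [hpp, e1, zero_mul, sub_zero] at h3
    have h4 : p * q * p = p * q * p * (1 + q) * (1 - q) + p * q * p * (q * q) := by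
      noncomm_ring
    rw [h4, h3, hqq, zero_mul, mul_zero, add_zero]
  have hqpq : q * p * q = 0 := by
    have h3 : q * p * q * (1 + p) = q * q * (1 + p) - q * (q + q * p - p * q - p * q * p) := by
      noncomm_ring
    rw [hqq, e2, zero_mul, sub_zero] at h3
    have h4 : q * p * q = q * p * q * (1 + p) * (1 - p) + q * p * q * (p * p) := by
      noncomm_ring
    rw [h4, h3, hpp, zero_mul, mul_zero, add_zero]
  refine ⟨?_, ?_, hpqp, hqpq⟩
  · have h6 : (p + p * q - q * p - q * p * q) - p ∈ P := P.sub_mem hκP hp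
    have h5 : p * q - q * p = ((p + p * q - q * p - q * p * q) - p) + q * p * q := by abel
    rw [h5]
    exact P.add_mem h6 (by rw [hqpq]; exact P.zero_mem)
  · have h6 : (q + q * p - p * q - p * q * p) - q ∈ Q := Q.sub_mem hκQ hq
    have h5 : p * q - q * p = -(((q + q * p - p * q - p * q * p) - q) + p * q * p) := by abel
    rw [h5]
    exact Q.neg_mem (Q.add_mem h6 (by rw [hpqp]; exact Q.zero_mem))

end Cfsg.Agent.Lib.helper25.QO
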