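import Mathlib
import Cfsg.Agent.Lib.helper74.QODefs

/-! S1935 split, piece L6b: the product `(1 + p) (1 + q) (1 + r)` of three "quadratic" units whose
sum has square zero, as `(1 + (p + q + r))` times a commutator correction. -/

set_option autoImplicit false

namespace Cfsg.Agent.Lib.helper25.QO

open Cfsg.Agent.Lib.helper74.QO

variable {R : Type*} [Ring R]

/-- PIECE L6b -/
theorem triple_identity (P Q T : AddSubgroup R)
    (hP : ∀ p ∈ P, ∀ p' ∈ P, p * p' = 0) (hQ : ∀ q ∈ Q, ∀ q' ∈ Q, q * q' = 0)
    (hT : ∀ r ∈ T, ∀ r' ∈ T, r * r' = 0)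
    (hPQ : ∀ p ∈ P, ∀ q ∈ Q,
      p * q - q * p ∈ P ∧ p * q - q * p ∈ Q ∧ p * q * p = 0 ∧ q * p * q = 0)
    (hPT : ∀ p ∈ P, ∀ r ∈ T,
      p * r - r * p ∈ P ∧ p * r - r * p ∈ T ∧ p * r * p = 0 ∧ r * p * r = 0)
    (hQT : ∀ q ∈ Q, ∀ r ∈ T,
      q * r - r * q ∈ Q ∧ q * r - r * q ∈ T ∧ q * r * q = 0 ∧ r * q * r = 0)
    (k : ℕ) (hk : ((2 * k : ℕ) : R) = 1)
    (p q r : R) (hp : p ∈ P) (hq : q ∈ Q) (hr : r ∈ T)
    (h0 : (p + q + r) * (p + q + r) = 0) :
    (1 + p) * (1 + q) * (1 + r)
      = (1 + (p + q + r)) * (1 + k • ((p * q - q * p) + (p * r - r * p) + (q * r - r * q))) := by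
  have hpp : p * p = 0 := hP p hp p hp
  have hqq : q * q = 0 := hQ q hq q hq
  have hrr : r * r = 0 := hT r hr r hr
  obtain ⟨-, -, hpqp, hqpq⟩ := hPQ p hp q hq
  obtain ⟨-, -, hprp, hrpr⟩ := hPT p hp r hr
  obtain ⟨-, -, hqrq, hrqr⟩ := hQT q hq r hr
  -- the symmetric sum vanishes
  have hS : p * q + q * p + p * r + r * p + q * r + r * q = 0 := by
    have h : p * q + q * p + p * r + r * p + q * r + r * q
        = (p + q + r) * (p + q + r) - p * p - q * q - r * r := by noncomm_ring
    rw [h, h0, hpp, hqq, hrr]
    simp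
  -- the six relations between the triple products
  have R1 : p * q * r + p * r * q = 0 := by
    have h : p * q * r + p * r * q
        = p * (p * q + q * p + p * r + r * p + q * r + r * q) - p * p * q - p * q * p
          - p * p * r - p * r * p := by noncomm_ring
    rw [h, hS, hpp, hpqp, hprp]
    simp
  have R2 : q * r * p + r * q * p = 0 := by
    have h : q * r * p + r * q * p
        = (p * q + q * p + p * r + r * p + q * r + r * q) * p - p * q * p - q * (p * p)
          - p * r * p - r * (p * p) := by noncomm_ring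
    rw [h, hS, hpp, hpqp, hprp]
    simp
  have R3 : q * p * r + q * r * p = 0 := by
    have h : q * p * r + q * r * p
        = q * (p * q + q * p + p * r + r * p + q * r + r * q) - q * p * q - q * q * p
          - q * q * r - q * r * q := by noncomm_ring
    rw [h, hS, hqq, hqpq, hqrq]
    simp
  have R4 : p * r * q + r * p * q = 0 := by
    have h : p * r * q + r * p * q
        = (p * q + q * p + p * r + r * p + q * r + r * q) * q - p * (q * q) - q * p * q
          - q * r * q - r * (q * q) := by noncomm_ring
    rw [h, hS, hqq, hqpq, hqrq]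
    simp
  have R6 : p * q * r + q * p * r = 0 := by
    have h : p * q * r + q * p * r
        = (p * q + q * p + p * r + r * p + q * r + r * q) * r - p * (r * r) - r * p * r
          - q * (r * r) - r * q * r := by noncomm_ring
    rw [h, hS, hrr, hrpr, hrqr]
    simp
  -- all triple products in terms of `p * q * r`
  have e_prq : p * r * q = -(p * q * r) := by
    rw [eq_neg_iff_add_eq_zero, add_comm]
    exact R1
  have e_qpr : q * p * r = -(p * q * r) := by
    rw [eq_neg_iff_add_eq_zero, add_comm]
    exact R6
  have e_qrp : q * r * p = p * q * r := by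
    have h : q * r * p = -(q * p * r) := by
      rw [eq_neg_iff_add_eq_zero, add_comm]
      exact R3
    rw [h, e_qpr, neg_neg]
  have e_rqp : r * q * p = -(p * q * r) := by
    have h : r * q * p = -(q * r * p) := by
      rw [eq_neg_iff_add_eq_zero, add_comm]
      exact R2
    rw [h, e_qrp]
  have e_rpq : r * p * q = p * q * r := by
    have h : r * p * q = -(p * r * q) := by
      rw [eq_neg_iff_add_eq_zero, add_comm]
      exact R4
    rw [h, e_prq, neg_neg]
  -- the two halves
  have hG : (p * q - q * p) + (p * r - r * p) + (q * r - r * q)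
      = (p * q + p * r + q * r) + (p * q + p * r + q * r) := by
    have h : (p * q - q * p) + (p * r - r * p) + (q * r - r * q)
        = (p * q + p * r + q * r) + (p * q + p * r + q * r)
          - (p * q + q * p + p * r + r * p + q * r + r * q) := by abel
    rw [h, hS, sub_zero]
  have hkA : ∀ y : R, k • (y + y) = y := by
    intro y
    rw [← two_nsmul, ← mul_nsmul, nsmul_eq_mul, hk, one_mul]
  have hLG : (p + q + r) * ((p * q - q * p) + (p * r - r * p) + (q * r - r * q))
      = p * q * r + p * q * r := by
    have h : (p + q + r) * ((p * q - q * p) + (p * r - r * p) + (q * r - r * q))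
        = p * q * r - p * r * q + q * p * r - q * r * p + r * p * q - r * q * p
          + (p * p * q - p * q * p + p * p * r - p * r * p + q * p * q - q * q * p
            + q * q * r - q * r * q + r * p * r - r * r * p + r * q * r - r * r * q) := by
      noncomm_ring
    rw [h, hpp, hqq, hrr, hpqp, hprp, hqpq, hqrq, hrpr, hrqr, e_prq, e_qpr, e_qrp, e_rpq, e_rqp]
    simp only [zero_mul, add_zero, sub_self]
    abel
  have hL : (1 + p) * (1 + q) * (1 + r)
      = 1 + (p + q + r) + (p * q + p * r + q * r) + p * q * r := by noncomm_ring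
  have hRexp : (1 + (p + q + r)) *
        (1 + k • ((p * q - q * p) + (p * r - r * p) + (q * r - r * q)))
      = 1 + (p + q + r) + k • ((p * q - q * p) + (p * r - r * p) + (q * r - r * q))
        + k • ((p + q + r) * ((p * q - q * p) + (p * r - r * p) + (q * r - r * q))) := by
    rw [mul_add, mul_one, mul_smul_comm, add_mul, one_mul, smul_add, ← add_assoc]
  rw [hL, hRexp, hLG, hG, hkA, hkA]

end Cfsg.Agent.Lib.helper25.QO
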