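import Mathlib
import Cfsg.Prelude.Def_GeometricClasses

set_option autoImplicit false

namespace Cfsg.Agent.Lib.helper2

open Cfsg.Geo Matrix

/-- `F`-level computations for QK. -/
theorem helper25_qk_facts {F : Type*} [Field F] {ι : Type} [Fintype ι] [DecidableEq ι]
    (h2 : (2 : F) ≠ 0) (Q : (ι → F) → F) (hQ : IsNondegenerateQuadraticForm Q)
    (δ : F) (κ : Matrix ι ι F) (hκ : κ * κ = δ • (1 : Matrix ι ι F))
    (hsa : ∀ u v : ι → F, QuadraticMap.polar Q (κ *ᵥ u) v = QuadraticMap.polar Q u (κ *ᵥ v)) :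
    (∀ u v, QuadraticMap.polar Q u v = QuadraticMap.polar Q v u) ∧
    (∀ (a b : F) (v : ι → F), Q (a • v + b • (κ *ᵥ v)) =
        (a ^ 2 + δ * b ^ 2) * Q v + a * b * QuadraticMap.polar Q (κ *ᵥ v) v) ∧
    (∀ (a b : F) (v : ι → F),
      QuadraticMap.polar Q (κ *ᵥ (a • v + b • (κ *ᵥ v))) (a • v + b • (κ *ᵥ v)) =
        (a ^ 2 + δ * b ^ 2) * QuadraticMap.polar Q (κ *ᵥ v) v + 4 * a * b * δ * Q v) ∧
    (∀ (a b : F) (v v' : ι → F), QuadraticMap.polar Q (κ *ᵥ (a • v + b • (κ *ᵥ v))) v' =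
        a * QuadraticMap.polar Q (κ *ᵥ v) v' + b * δ * QuadraticMap.polar Q v v') ∧
    (∀ (v v' : ι → F), QuadraticMap.polar Q (κ *ᵥ (v + v')) (v + v') =
        QuadraticMap.polar Q (κ *ᵥ v) v + QuadraticMap.polar Q (κ *ᵥ v') v' +
          2 * QuadraticMap.polar Q (κ *ᵥ v) v') := by
  have hbl := hQ.polar_bilinear
  have hsymm : ∀ u v, QuadraticMap.polar Q u v = QuadraticMap.polar Q v u :=
    fun u v => QuadraticMap.polar_comm Q u v
  have hadd : ∀ x y, Q (x + y) = Q x + Q y + QuadraticMap.polar Q x y := by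
    intro x y
    unfold QuadraticMap.polar
    ring
  have hBvv : ∀ v, QuadraticMap.polar Q v v = 2 * Q v := by
    intro v
    unfold QuadraticMap.polar
    have h : v + v = (2 : F) • v := (two_smul F v).symm
    rw [h, hQ.smul]
    ring
  have hκκ : ∀ v, κ *ᵥ (κ *ᵥ v) = δ • v := by
    intro v
    rw [Matrix.mulVec_mulVec, hκ, Matrix.smul_mulVec, Matrix.one_mulVec]
  have hQκ : ∀ v, Q (κ *ᵥ v) = δ * Q v := by
    intro v
    have h1 := hsa (κ *ᵥ v) v
    rw [hκκ, hbl.smul_left, hBvv, hBvv] at h1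
    have h3 : 2 * Q (κ *ᵥ v) = 2 * (δ * Q v) := by rw [← h1]; ring
    exact mul_left_cancel₀ h2 h3
  have hκlin : ∀ (a b : F) (v : ι → F),
      κ *ᵥ (a • v + b • (κ *ᵥ v)) = a • (κ *ᵥ v) + (b * δ) • v := by
    intro a b v
    rw [Matrix.mulVec_add, Matrix.mulVec_smul, Matrix.mulVec_smul, hκκ, smul_smul]
  refine ⟨hsymm, ?_, ?_, ?_, ?_⟩
  · intro a b v
    rw [hadd, hQ.smul, hQ.smul, hQκ, hbl.smul_left, hbl.smul_right, hsymm v (κ *ᵥ v)]
    ring
  · intro a b v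
    rw [hκlin]
    simp only [hbl.add_left, hbl.add_right, hbl.smul_left, hbl.smul_right]
    rw [hBvv (κ *ᵥ v), hBvv v, hQκ, hsymm v (κ *ᵥ v)]
    ring
  · intro a b v v'
    rw [hκlin]
    simp only [hbl.add_left, hbl.smul_left]
  · intro v v'
    rw [Matrix.mulVec_add]
    simp only [hbl.add_left, hbl.add_right]
    rw [hsa v' v, hsymm v' (κ *ᵥ v)]
    ring

/-- QK -/
theorem qfc_qk_nondeg {F : Type*} [Field F] {ι : Type} [Fintype ι] [DecidableEq ι]
    (h2 : (2 : F) ≠ 0) (Q : (ι → F) → F) (hQ : IsNondegenerateQuadraticForm Q)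
    (δ : F) [Fact (∀ r : F, r ^ 2 ≠ δ + 0 * r)] (κ : Matrix ι ι F)
    (hκ : κ * κ = δ • (1 : Matrix ι ι F))
    (hsa : ∀ u v : ι → F, QuadraticMap.polar Q (κ *ᵥ u) v = QuadraticMap.polar Q u (κ *ᵥ v))
    (d : ℕ) (Φ : (Fin d → QuadraticAlgebra F δ 0) ≃+ (ι → F))
    (hΦ : ∀ (z : QuadraticAlgebra F δ 0) (k : Fin d → QuadraticAlgebra F δ 0),
        Φ (z • k) = z.re • Φ k + z.im • (κ *ᵥ Φ k)) :
    IsNondegenerateQuadraticForm
      (fun k : Fin d → QuadraticAlgebra F δ 0 =>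
        (⟨Q (Φ k), QuadraticMap.polar Q (κ *ᵥ Φ k) (Φ k) / (2 * δ)⟩ : QuadraticAlgebra F δ 0)) := by
  obtain ⟨hsymm, hF1, hF3, hF4, hF5⟩ := helper25_qk_facts h2 Q hQ δ κ hκ hsa
  have hδ : δ ≠ 0 := by
    intro h
    have h0 := (Fact.out : ∀ r : F, r ^ 2 ≠ δ + 0 * r) 0
    apply h0
    rw [h]
    ring
  have hbl := hQ.polar_bilinear
  obtain ⟨qK, hqK⟩ : ∃ qK : (Fin d → QuadraticAlgebra F δ 0) → QuadraticAlgebra F δ 0,
      qK = fun k : Fin d → QuadraticAlgebra F δ 0 =>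
        (⟨Q (Φ k), QuadraticMap.polar Q (κ *ᵥ Φ k) (Φ k) / (2 * δ)⟩ : QuadraticAlgebra F δ 0) :=
    ⟨_, rfl⟩
  rw [← hqK]
  have hqKa : ∀ k, qK k =
      (⟨Q (Φ k), QuadraticMap.polar Q (κ *ᵥ Φ k) (Φ k) / (2 * δ)⟩ : QuadraticAlgebra F δ 0) := by
    intro k
    rw [hqK]
  have hpol : ∀ k k' : Fin d → QuadraticAlgebra F δ 0, QuadraticMap.polar qK k k' =
      ⟨QuadraticMap.polar Q (Φ k) (Φ k'), QuadraticMap.polar Q (κ *ᵥ Φ k) (Φ k') / δ⟩ := by
    intro k k'
    have h1 : QuadraticMap.polar qK k k' = qK (k + k') - qK k - qK k' := rfl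
    rw [h1, hqKa, hqKa, hqKa, map_add, hF5]
    apply QuadraticAlgebra.ext
    · simp only [QuadraticAlgebra.re_sub]
      rfl
    · simp only [QuadraticAlgebra.im_sub]
      field_simp
      ring
  have hsl : ∀ (z : QuadraticAlgebra F δ 0) (x v : Fin d → QuadraticAlgebra F δ 0),
      QuadraticMap.polar qK (z • x) v = z * QuadraticMap.polar qK x v := by
    intro z x v
    rw [hpol, hpol, hΦ, hF4, hbl.add_left, hbl.smul_left, hbl.smul_left]
    apply QuadraticAlgebra.ext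
    · simp only [QuadraticAlgebra.re_mul]
      field_simp
    · simp only [QuadraticAlgebra.im_mul]
      field_simp
      ring
  have hal : ∀ (x y v : Fin d → QuadraticAlgebra F δ 0),
      QuadraticMap.polar qK (x + y) v = QuadraticMap.polar qK x v + QuadraticMap.polar qK y v := by
    intro x y v
    rw [hpol, hpol, hpol, map_add, Matrix.mulVec_add, hbl.add_left, hbl.add_left]
    apply QuadraticAlgebra.ext
    · simp only [QuadraticAlgebra.re_add]
    · simp only [QuadraticAlgebra.im_add]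
      ring
  refine ⟨?_, ⟨hal, hsl, ?_, ?_⟩, ?_⟩
  · intro z k
    rw [hqKa, hqKa, hΦ, hF1, hF3, pow_two z]
    apply QuadraticAlgebra.ext
    · simp only [QuadraticAlgebra.re_mul, QuadraticAlgebra.im_mul]
      field_simp
      ring
    · simp only [QuadraticAlgebra.im_mul, QuadraticAlgebra.re_mul]
      field_simp
      ring
  · intro v x y
    rw [QuadraticMap.polar_comm qK v (x + y), hal, QuadraticMap.polar_comm qK x v,
      QuadraticMap.polar_comm qK y v]
  · intro z v x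
    rw [QuadraticMap.polar_comm qK v (z • x), hsl, QuadraticMap.polar_comm qK x v]
  · intro k hk
    have hv : Φ k ≠ 0 := by
      intro h
      apply hk
      apply Φ.injective
      rw [h, map_zero]
    obtain ⟨⟨x, hx⟩, ⟨y, hy⟩⟩ := hQ.nondegenerate (Φ k) hv
    refine ⟨⟨Φ.symm x, ?_⟩, ⟨Φ.symm y, ?_⟩⟩
    · rw [hpol]
      intro h0
      apply hx
      have h1 := congrArg QuadraticAlgebra.re h0
      rw [AddEquiv.apply_symm_apply] at h1
      exact h1
    · rw [hpol]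
      intro h0
      apply hy
      have h1 := congrArg QuadraticAlgebra.re h0
      rw [AddEquiv.apply_symm_apply] at h1
      exact h1

end Cfsg.Agent.Lib.helper2
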