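import Mathlib
import Cfsg.Agent.Lib.helper45.RUDefs

/-!
# S2279 piece I (helper25): all last-row elementary matrices from the `Om` sets.
-/

set_option autoImplicit false

namespace Cfsg.Agent.Lib.helper45.RU

open Matrix Cfsg.Agent.Lib.helper44

variable {n : ℕ} {F : Type*} [Field F] {S : Set (Matrix (Fin n) (Fin n) F)}

/-- Auxiliary induction for `last_row`: every row supported on the first `m` coordinates. -/
theorem h25_last_row_aux (hS : MatGrp S) (l : Fin n) (hl : l.val + 1 = n)
    (h : ∀ k, k + 2 ≤ n → ∀ x : F, x ∈ Om S l k) (hn : 2 ≤ n) :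
    ∀ m : ℕ, m + 1 ≤ n → ∀ φ : Fin n → F, (∀ i : Fin n, m ≤ i.val → φ i = 0) →
      1 + vecMulVec (Pi.single l 1) φ ∈ S := by
  intro m
  induction m with
  | zero =>
    intro _ φ hφ
    have h0 : φ = 0 := by
      ext i
      exact hφ i (Nat.zero_le _)
    have h1 : (0 : F) ∈ Om S l 0 := h 0 (by omega) 0
    rw [mem_Om, zero_smul] at h1
    rw [h0]
    exact h1
  | succ m ih =>
    intro hm φ hφ
    have hmn : m < n := by omega
    have h1 := ih (by omega) (φ - (φ ⟨m, hmn⟩) • rowv F n m) (by
      intro i hi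
      rw [Pi.sub_apply, Pi.smul_apply, smul_eq_mul]
      by_cases hij : i.val = m
      · have hi' : i = ⟨m, hmn⟩ := Fin.ext hij
        rw [hi']
        have := rowv_apply_self (F := F) (⟨m, hmn⟩ : Fin n)
        simp only at this
        rw [this, mul_one, sub_self]
      · have hlt : m < i.val := by omega
        rw [hφ i (by omega), rowv_apply_eq_zero m i hlt, mul_zero, sub_zero])
    have h2 : φ ⟨m, hmn⟩ ∈ Om S l m := h m (by omega) (φ ⟨m, hmn⟩)
    rw [mem_Om] at h2
    have h3 := hS.mul h1 h2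
    rw [rankOne_mul_right] at h3
    · rwa [sub_add_cancel] at h3
    · rw [dotProduct_single, mul_one, Pi.sub_apply, Pi.smul_apply, smul_eq_mul,
        hφ l (by omega), rowv_apply_eq_zero m l (by omega), mul_zero, sub_zero]

/-- I -/
theorem last_row (hS : MatGrp S) (l : Fin n) (hl : l.val + 1 = n)
    (h : ∀ k, k + 2 ≤ n → ∀ x : F, x ∈ Om S l k) :
    ∀ j : Fin n, j ≠ l → ∀ x : F, 1 + Matrix.single l j x ∈ S := by
  intro j hjl x
  have hjv : j.val ≠ l.val := fun e => hjl (Fin.ext e)
  have hj2 : j.val + 2 ≤ n := by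
    have := j.isLt
    omega
  rw [one_add_single_eq]
  apply h25_last_row_aux hS l hl h (by omega) (j.val + 1) (by omega)
  intro i hi
  have hij : i ≠ j := by
    intro e
    rw [e] at hi
    omega
  rw [Pi.smul_apply, Pi.single_apply, if_neg hij, smul_zero]

end Cfsg.Agent.Lib.helper45.RU
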