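import Mathlib
import Cfsg.Agent.Lib.helper45.RUDefs

/-!
# S2279 piece M (helper25): the transposed Jordan block as a product of lower elementary
matrices.
-/

set_option autoImplicit false

namespace Cfsg.Agent.Lib.helper45.RU

open Matrix Cfsg.Agent.Lib.helper44

variable {n : ℕ} {F : Type*} [Field F] {S : Set (Matrix (Fin n) (Fin n) F)}

/-- Partial products `∏_{j < m} (1 + E_{j+1,j})`. -/
theorem h25_jmT_aux (hn : 2 ≤ n) (hS : MatGrp S)
    (h : ∀ j k : Fin n, j < k → 1 + Matrix.single k j (1 : F) ∈ S) :
    ∀ m : ℕ, m + 1 ≤ n →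
      (Matrix.of fun i j : Fin n => if i = j then (1 : F) else
        if i.val = j.val + 1 ∧ j.val < m then 1 else 0) ∈ S := by
  intro m
  induction m with
  | zero =>
    intro _
    have h1 : (1 : Matrix (Fin n) (Fin n) F) ∈ S :=
      MatGrp_one_mem hS (h ⟨0, by omega⟩ ⟨1, by omega⟩ (by simp [Fin.lt_def]))
    have h2 : (Matrix.of fun i j : Fin n => if i = j then (1 : F) else
        if i.val = j.val + 1 ∧ j.val < 0 then 1 else 0) = 1 := by
      ext i j
      simp [Matrix.one_apply]
    rw [h2]
    exact h1
  | succ m ih =>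
    intro hm
    have h1 := ih (by omega)
    have hm1 : m < n := by omega
    have hm2 : m + 1 < n := by omega
    have h2 := h ⟨m, hm1⟩ ⟨m + 1, hm2⟩ (by simp [Fin.lt_def])
    have h3 := hS.mul h1 h2
    have h4 : (Matrix.of fun i j : Fin n => if i = j then (1 : F) else
        if i.val = j.val + 1 ∧ j.val < m then 1 else 0) *
          (1 + Matrix.single (⟨m + 1, hm2⟩ : Fin n) (⟨m, hm1⟩ : Fin n) (1 : F)) =
        (Matrix.of fun i j : Fin n => if i = j then (1 : F) else
          if i.val = j.val + 1 ∧ j.val < m + 1 then 1 else 0) := by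
      ext i j
      rw [mul_add, mul_one, Matrix.add_apply]
      by_cases hj : j = ⟨m, hm1⟩
      · rw [hj, Matrix.mul_single_apply_same]
        simp only [Matrix.of_apply, Fin.ext_iff, mul_one]
        by_cases hi1 : i.val = m
        · have e1 : ¬ (i.val = m + 1) := by omega
          simp [hi1]
        · by_cases hi2 : i.val = m + 1
          · simp [hi2]
          · simp [hi1, hi2]
      · rw [Matrix.mul_single_apply_of_ne (hbj := hj), add_zero]
        simp only [Matrix.of_apply]
        have hjv : j.val ≠ m := fun e => hj (Fin.ext e)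
        by_cases hij : i = j
        · simp [hij]
        · rw [if_neg hij, if_neg hij]
          by_cases hc : i.val = j.val + 1 ∧ j.val < m
          · rw [if_pos hc, if_pos ⟨hc.1, by omega⟩]
          · rw [if_neg hc, if_neg (by
              intro hc'
              exact hc ⟨hc'.1, by omega⟩)]
    rw [h4] at h3
    exact h3

/-- M -/
theorem jmT_mem (hn : 2 ≤ n) (hS : MatGrp S)
    (h : ∀ j k : Fin n, j < k → 1 + Matrix.single k j (1 : F) ∈ S) : (jm F n)ᵀ ∈ S := by
  have h1 := h25_jmT_aux hn hS h (n - 1) (by omega)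
  have h2 : (jm F n)ᵀ = (Matrix.of fun i j : Fin n => if i = j then (1 : F) else
        if i.val = j.val + 1 ∧ j.val < n - 1 then 1 else 0) := by
    ext i j
    rw [Matrix.transpose_apply]
    unfold jm
    rw [Matrix.add_apply, shiftMat_apply, Matrix.one_apply, Matrix.of_apply]
    by_cases hij : i = j
    · have e1 : ¬ (i.val = j.val + 1) := by rw [hij]; omega
      rw [if_pos hij, if_pos hij.symm, if_neg e1, add_zero]
    · have e1 : ¬ (j = i) := fun e => hij e.symm
      rw [if_neg hij, if_neg e1, zero_add]
      by_cases hc : i.val = j.val + 1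
      · have := i.isLt
        rw [if_pos hc, if_pos ⟨hc, by omega⟩]
      · rw [if_neg hc, if_neg (fun hc' => hc hc'.1)]
  rw [h2]
  exact h1

end Cfsg.Agent.Lib.helper45.RU
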