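import Mathlib
import Cfsg.Prelude.Def_LieRecognition

set_option autoImplicit false

namespace Cfsg.Agent.Lib.helper25

open MulAction

variable {G Ω : Type*} [Group G] [MulAction G Ω] {a : Ω} {t : G} {Q : Subgroup G}

theorem rankOne_t_inv (hS : Cfsg.IsRankOneSetup G Ω a t Q) : t⁻¹ = t :=
  inv_eq_of_mul_eq_one_left hS.mul_self

theorem rankOne_tt_smul (hS : Cfsg.IsRankOneSetup G Ω a t Q) (b : Ω) : t • t • b = b := by
  rw [← mul_smul, hS.mul_self, one_smul]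

/-- `t` normalises the two-point stabiliser `D`. -/
theorem rankOne_conj_D (hS : Cfsg.IsRankOneSetup G Ω a t Q) {d : G}
    (hd : d ∈ stabilizer G a ⊓ stabilizer G (t • a)) :
    t * d * t ∈ stabilizer G a ⊓ stabilizer G (t • a) := by
  obtain ⟨h1, h2⟩ := Subgroup.mem_inf.mp hd
  rw [mem_stabilizer_iff] at h1 h2
  refine Subgroup.mem_inf.mpr ⟨?_, ?_⟩
  · rw [mem_stabilizer_iff, mul_smul, mul_smul, h2, rankOne_tt_smul hS]
  · rw [mem_stabilizer_iff, mul_smul, mul_smul, rankOne_tt_smul hS, h1]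

theorem rankOne_Q_inf_D (hS : Cfsg.IsRankOneSetup G Ω a t Q) {y : G} (hy : y ∈ Q)
    (hy' : y ∈ stabilizer G (t • a)) : y = 1 := by
  have : y ∈ Q ⊓ stabilizer G (t • a) := ⟨hy, hy'⟩
  rw [hS.inf_eq_bot] at this
  exact Subgroup.mem_bot.mp this

/-- Uniqueness of the canonical form `g h t f` with `g, f ∈ Q`, `h ∈ D`. -/
theorem rankOne_canon_unique (hS : Cfsg.IsRankOneSetup G Ω a t Q) {g h f g' h' f' : G}
    (hg : g ∈ Q) (hh : h ∈ stabilizer G a ⊓ stabilizer G (t • a)) (hf : f ∈ Q)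
    (hg' : g' ∈ Q) (hh' : h' ∈ stabilizer G a ⊓ stabilizer G (t • a)) (hf' : f' ∈ Q)
    (e : g * h * t * f = g' * h' * t * f') : g = g' ∧ h = h' ∧ f = f' := by
  have htinv := rankOne_t_inv hS
  set D := stabilizer G a ⊓ stabilizer G (t • a) with hD
  have hDa : D ≤ stabilizer G a := inf_le_left
  have hDta : D ≤ stabilizer G (t • a) := inf_le_right
  -- b = h'⁻¹ g'⁻¹ g h
  have hb1 : h'⁻¹ * g'⁻¹ * g * h ∈ stabilizer G a :=
    Subgroup.mul_mem _ (Subgroup.mul_mem _ (Subgroup.mul_mem _ (Subgroup.inv_mem _ (hDa hh'))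
      (Subgroup.inv_mem _ (hS.le hg'))) (hS.le hg)) (hDa hh)
  have hb2 : t⁻¹ * (h'⁻¹ * g'⁻¹ * g * h) * t = f' * f⁻¹ := by
    calc t⁻¹ * (h'⁻¹ * g'⁻¹ * g * h) * t = t⁻¹ * h'⁻¹ * g'⁻¹ * (g * h * t * f) * f⁻¹ := by group
      _ = t⁻¹ * h'⁻¹ * g'⁻¹ * (g' * h' * t * f') * f⁻¹ := by rw [e]
      _ = f' * f⁻¹ := by group
  have hb3 : t⁻¹ * (h'⁻¹ * g'⁻¹ * g * h) * t ∈ stabilizer G a := by
    rw [hb2]; exact hS.le (Q.mul_mem hf' (Q.inv_mem hf))
  have hb4 : h'⁻¹ * g'⁻¹ * g * h ∈ stabilizer G (t • a) := by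
    rw [mem_stabilizer_iff] at hb3 ⊢
    rw [mul_smul, mul_smul] at hb3
    have := congrArg (fun y => t • y) hb3
    simp only [smul_inv_smul] at this
    exact this
  have hg1 : g'⁻¹ * g ∈ stabilizer G (t • a) := by
    have h1 : g'⁻¹ * g = h' * (h'⁻¹ * g'⁻¹ * g * h) * h⁻¹ := by group
    rw [h1]
    exact Subgroup.mul_mem _ (Subgroup.mul_mem _ (hDta hh') hb4) (Subgroup.inv_mem _ (hDta hh))
  have hg2 : g'⁻¹ * g = 1 := rankOne_Q_inf_D hS (Q.mul_mem (Q.inv_mem hg') hg) hg1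
  have hgg : g = g' := by
    have := inv_mul_eq_one.mp hg2
    exact this.symm
  subst hgg
  have hc2 : t⁻¹ * (h'⁻¹ * h) * t = f' * f⁻¹ := by
    rw [← hb2]; group
  have hc3 : t * (h'⁻¹ * h) * t ∈ D := rankOne_conj_D hS (D.mul_mem (D.inv_mem hh') hh)
  rw [htinv] at hc2
  have hc4 : t * (h'⁻¹ * h) * t = 1 := by
    apply rankOne_Q_inf_D hS _ (hDta hc3)
    rw [hc2]; exact Q.mul_mem hf' (Q.inv_mem hf)
  have hhh : h = h' := by
    have h1 : h'⁻¹ * h = t⁻¹ * (t * (h'⁻¹ * h) * t) * t⁻¹ := by group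
    rw [hc4] at h1
    have h2 : h'⁻¹ * h = 1 := by rw [h1, htinv, mul_one, hS.mul_self]
    exact (inv_mul_eq_one.mp h2).symm
  subst hhh
  exact ⟨rfl, rfl, mul_left_cancel e⟩

end Cfsg.Agent.Lib.helper25
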