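import Mathlib

set_option autoImplicit false

namespace Cfsg.Agent.Lib.helper25.RegLin

/-- A finite nontrivial ring without zero divisors is commutative (Wedderburn). -/
theorem finite_domain_comm {D : Type*} [Ring D] [Finite D] [Nontrivial D]
    (h : ∀ a b : D, a * b = 0 → a = 0 ∨ b = 0) (a b : D) : a * b = b * a := by
  have h1 : NoZeroDivisors D := ⟨fun {a b} hab => h a b hab⟩
  have h2 : IsDomain D := NoZeroDivisors.to_isDomain D
  exact (Finite.isDomain_to_isField D).mul_comm a b

section

variable {p : ℕ} [Fact p.Prime] {V : Type*} [AddCommGroup V] [Module (ZMod p) V] [Finite V]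

theorem finite_end : Finite (Module.End (ZMod p) V) :=
  Finite.of_injective (fun f : Module.End (ZMod p) V => (f : V → V)) DFunLike.coe_injective

/-- Two endomorphisms commuting with an irreducible set of endomorphisms commute. -/
theorem commutant_comm (S : Set (Module.End (ZMod p) V))
    (hirr : ∀ W : Submodule (ZMod p) V, (∀ s ∈ S, ∀ v ∈ W, s v ∈ W) → W = ⊥ ∨ W = ⊤)
    (f g : Module.End (ZMod p) V) (hf : ∀ s ∈ S, s * f = f * s) (hg : ∀ s ∈ S, s * g = g * s) :
    f * g = g * f := by
  rcases subsingleton_or_nontrivial V with hV | hV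
  · apply LinearMap.ext; intro v; exact Subsingleton.elim _ _
  · have hfin : Finite (Module.End (ZMod p) V) := finite_end
    have hnt : Nontrivial (Subring.centralizer S) := by
      refine ⟨⟨0, 1, ?_⟩⟩
      intro h01
      have h1 : (0 : Module.End (ZMod p) V) = 1 := congrArg Subtype.val h01
      obtain ⟨v, hv⟩ := exists_ne (0 : V)
      have h2 := congrArg (fun f : Module.End (ZMod p) V => f v) h1
      simp at h2
      exact hv h2.symm
    have hnz : ∀ a b : Subring.centralizer S, a * b = 0 → a = 0 ∨ b = 0 := by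
      intro a b hab
      by_cases hb : b = 0
      · exact Or.inr hb
      · left
        have hker : LinearMap.ker b.1 = ⊥ ∨ LinearMap.ker b.1 = ⊤ := by
          apply hirr
          intro s hs v hv
          rw [LinearMap.mem_ker] at hv ⊢
          have h1 := b.2 s hs
          have h2 := congrArg (fun f : Module.End (ZMod p) V => f v) h1
          simp only [Module.End.mul_apply] at h2
          rw [← h2, hv, map_zero]
        rcases hker with hker | hker
        · have hinj : Function.Injective b.1 := LinearMap.ker_eq_bot.mp hker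
          have hsurj : Function.Surjective b.1 := Finite.injective_iff_surjective.mp hinj
          apply Subtype.ext
          apply LinearMap.ext
          intro y
          obtain ⟨x, rfl⟩ := hsurj y
          have h3 := congrArg (fun f : Subring.centralizer S => f.1 x) hab
          simpa [Module.End.mul_apply] using h3
        · exfalso; apply hb
          apply Subtype.ext
          exact LinearMap.ker_eq_top.mp hker
    have h4 := finite_domain_comm hnz ⟨f, hf⟩ ⟨g, hg⟩
    exact congrArg Subtype.val h4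

variable (H : Subgroup (V ≃ₗ[ZMod p] V))

/-- coercion of elements of `H` to endomorphisms -/
def toEnd (h : H) : Module.End (ZMod p) V := ((h : V ≃ₗ[ZMod p] V) : V →ₗ[ZMod p] V)

theorem toEnd_apply (h : H) (v : V) : toEnd H h v = (h : V ≃ₗ[ZMod p] V) v := rfl

theorem toEnd_mul (a b : H) : toEnd H (a * b) = toEnd H a * toEnd H b := by
  apply LinearMap.ext; intro v; rfl

theorem toEnd_one : toEnd H 1 = 1 := by
  apply LinearMap.ext; intro v; rfl

theorem toEnd_injective : Function.Injective (toEnd H) := by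
  intro a b hab
  apply Subtype.ext
  apply LinearEquiv.ext
  intro v
  exact congrArg (fun f : Module.End (ZMod p) V => f v) hab

/-- In a linear group transitive on nonzero vectors, a normal subgroup that is not commutative
acts irreducibly. -/
theorem irreducible_of_normal
    (hreg : ∀ v w : V, v ≠ 0 → w ≠ 0 → ∃ h : H, (h : V ≃ₗ[ZMod p] V) v = w)
    (N : Subgroup H) (hNn : N.Normal) (hNna : ¬ ∀ a b : H, a ∈ N → b ∈ N → a * b = b * a)
    (W : Submodule (ZMod p) V)
    (hW : ∀ n ∈ N, ∀ v ∈ W, ((n : H) : V ≃ₗ[ZMod p] V) v ∈ W) : W = ⊥ ∨ W = ⊤ := by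
  by_contra hcon
  push Not at hcon
  obtain ⟨hWb, hWt⟩ := hcon
  apply hNna
  have hfin : Finite (Module.End (ZMod p) V) := finite_end
  obtain ⟨x₀, hx₀W, hx₀⟩ := Submodule.exists_mem_ne_zero_of_ne_bot hWb
  obtain ⟨z₀, hz₀⟩ : ∃ z₀ : V, z₀ ∉ W := by
    by_contra h
    push Not at h
    exact hWt (Submodule.eq_top_iff'.mpr h)
  have hinv : ∀ h : H, toEnd H h * toEnd H h⁻¹ = 1 := fun h => by
    rw [← toEnd_mul, mul_inv_cancel, toEnd_one]
  have hinv' : ∀ h : H, toEnd H h⁻¹ * toEnd H h = 1 := fun h => by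
    rw [← toEnd_mul, inv_mul_cancel, toEnd_one]
  -- the ring generated by N
  have hRW : ∀ r ∈ Subring.closure {f | ∃ n ∈ N, f = toEnd H n}, ∀ v ∈ W, r v ∈ W := by
    intro r hr
    induction hr using Subring.closure_induction with
    | mem x hx => obtain ⟨n, hn, rfl⟩ := hx; intro v hv; exact hW n hn v hv
    | zero => intro v hv; simp
    | one => intro v hv; simpa using hv
    | add x y hx hy ihx ihy => intro v hv; simpa using W.add_mem (ihx v hv) (ihy v hv)
    | neg x hx ih => intro v hv; simpa using W.neg_mem (ih v hv)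
    | mul x y hx hy ihx ihy => intro v hv; exact ihx _ (ihy v hv)
  have hconj : ∀ h : H, ∀ r ∈ Subring.closure {f | ∃ n ∈ N, f = toEnd H n},
      toEnd H h * r * toEnd H h⁻¹ ∈ Subring.closure {f | ∃ n ∈ N, f = toEnd H n} := by
    intro h r hr
    induction hr using Subring.closure_induction with
    | mem x hx =>
      obtain ⟨n, hn, rfl⟩ := hx
      apply Subring.subset_closure
      refine ⟨h * n * h⁻¹, hNn.conj_mem n hn h, ?_⟩
      rw [toEnd_mul, toEnd_mul]
    | zero => rw [mul_zero, zero_mul]; exact Subring.zero_mem _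
    | one => rw [mul_one, hinv]; exact Subring.one_mem _
    | add x y hx hy ihx ihy => rw [mul_add, add_mul]; exact Subring.add_mem _ ihx ihy
    | neg x hx ih => rw [mul_neg, neg_mul]; exact Subring.neg_mem _ ih
    | mul x y hx hy ihx ihy =>
      have e : toEnd H h * (x * y) * toEnd H h⁻¹
          = (toEnd H h * x * toEnd H h⁻¹) * (toEnd H h * y * toEnd H h⁻¹) := by
        calc toEnd H h * (x * y) * toEnd H h⁻¹
            = toEnd H h * x * 1 * y * toEnd H h⁻¹ := by simp [mul_assoc]
          _ = (toEnd H h * x * toEnd H h⁻¹) * (toEnd H h * y * toEnd H h⁻¹) := by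
              rw [← hinv' h]; simp only [mul_assoc]
      rw [e]; exact Subring.mul_mem _ ihx ihy
  -- cyclic submodules
  set R := Subring.closure {f : Module.End (ZMod p) V | ∃ n ∈ N, f = toEnd H n} with hR
  set C : V → Set V := fun x => {y | ∃ r ∈ R, r x = y} with hC
  have hCself : ∀ x, x ∈ C x := fun x => ⟨1, Subring.one_mem _, by simp⟩
  have hC0 : ∀ x, (0 : V) ∈ C x := fun x => ⟨0, Subring.zero_mem _, by simp⟩
  have hCsub : ∀ x y, y ∈ C x → C y ⊆ C x := by
    rintro x y ⟨r, hr, rfl⟩ z ⟨s, hs, rfl⟩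
    exact ⟨s * r, Subring.mul_mem _ hs hr, rfl⟩
  have hCimg : ∀ (h : H) (x : V), (fun v => (h : V ≃ₗ[ZMod p] V) v) '' C x
      = C ((h : V ≃ₗ[ZMod p] V) x) := by
    intro h x
    apply Set.Subset.antisymm
    · rintro _ ⟨y, ⟨r, hr, rfl⟩, rfl⟩
      refine ⟨toEnd H h * r * toEnd H h⁻¹, hconj h r hr, ?_⟩
      have e1 : toEnd H h⁻¹ ((h : V ≃ₗ[ZMod p] V) x) = x := by
        have := congrArg (fun f : Module.End (ZMod p) V => f x) (hinv' h)
        simpa [Module.End.mul_apply, toEnd_apply] using this
      simp only [Module.End.mul_apply, e1]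
      rfl
    · rintro z ⟨r, hr, rfl⟩
      refine ⟨toEnd H h⁻¹ (r ((h : V ≃ₗ[ZMod p] V) x)), ?_, ?_⟩
      · refine ⟨toEnd H h⁻¹ * r * toEnd H (h⁻¹)⁻¹, hconj h⁻¹ r hr, ?_⟩
        simp only [Module.End.mul_apply, inv_inv]
        rfl
      · have := congrArg (fun f : Module.End (ZMod p) V => f (r ((h : V ≃ₗ[ZMod p] V) x))) (hinv h)
        simpa [Module.End.mul_apply, toEnd_apply] using this
  have hCcard : ∀ x y : V, x ≠ 0 → y ≠ 0 → (C x).ncard = (C y).ncard := by
    intro x y hx hy
    obtain ⟨h, rfl⟩ := hreg x y hx hy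
    rw [← hCimg]
    exact (Set.ncard_image_of_injective _ (LinearEquiv.injective _)).symm
  have hCeq : ∀ x y : V, y ∈ C x → y ≠ 0 → x ≠ 0 → C y = C x := by
    intro x y hy hy0 hx0
    exact Set.eq_of_subset_of_ncard_le (hCsub x y hy) (le_of_eq (hCcard x y hx0 hy0))
  have hCne : ∀ x : V, x ≠ 0 → ∃ z, z ∉ C x := by
    intro x hx
    by_contra h
    push Not at h
    have e : C x₀ = Set.univ := by
      apply Set.eq_of_subset_of_ncard_le (Set.subset_univ _)
      rw [hCcard x₀ x hx₀ hx]
      exact Set.ncard_le_ncard (fun z _ => h z)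
    have : z₀ ∈ C x₀ := e ▸ Set.mem_univ z₀
    obtain ⟨r, hr, rfl⟩ := this
    exact hz₀ (hRW r hr x₀ hx₀W)
  have step1 : ∀ r ∈ R, ∀ x y : V, x ≠ 0 → y ∉ C x → r x = 0 → r y = 0 := by
    intro r hr x y hx hy hrx
    by_contra hry
    have hy0 : y ≠ 0 := fun h => hy (h ▸ hC0 x)
    have hxy : x + y ≠ 0 := by
      intro h
      apply hy
      refine ⟨-1, Subring.neg_mem _ (Subring.one_mem _), ?_⟩
      have e : y = -x := by rw [eq_neg_iff_add_eq_zero, add_comm]; exact h
      simp [e]
    have h1 : C (r y) = C y := hCeq y (r y) ⟨r, hr, rfl⟩ hry hy0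
    have h2 : C (r y) = C (x + y) :=
      hCeq (x + y) (r y) ⟨r, hr, by rw [map_add, hrx, zero_add]⟩ hry hxy
    have h3 : x + y ∈ C y := by rw [← h1, h2]; exact hCself _
    obtain ⟨s, hs, hsy⟩ := h3
    have h4 : x ∈ C y := ⟨s - 1, Subring.sub_mem _ hs (Subring.one_mem _), by simp [hsy]⟩
    have h5 : C x = C y := hCeq y x h4 hx hy0
    exact hy (h5 ▸ hCself y)
  have step2 : ∀ r ∈ R, ∀ x : V, x ≠ 0 → r x = 0 → ∀ y, r y = 0 := by
    intro r hr x hx hrx y
    by_cases hy : y ∈ C x
    · by_cases hy0 : y = 0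
      · rw [hy0, map_zero]
      · obtain ⟨z, hz⟩ := hCne x hx
        have hz0 : z ≠ 0 := fun h => hz (h ▸ hC0 x)
        have hrz := step1 r hr x z hx hz hrx
        apply step1 r hr z y hz0 _ hrz
        intro hyz
        have e1 : C y = C z := hCeq z y hyz hy0 hz0
        have e2 : C y = C x := hCeq x y hy hy0 hx
        exact hz (e2 ▸ e1 ▸ hCself z)
    · exact step1 r hr x y hx hy hrx
  have hVnt : Nontrivial V := ⟨⟨x₀, 0, hx₀⟩⟩
  have hnt : Nontrivial R := by
    refine ⟨⟨0, 1, ?_⟩⟩
    intro h01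
    have h1 : (0 : Module.End (ZMod p) V) = 1 := congrArg Subtype.val h01
    have h2 := congrArg (fun f : Module.End (ZMod p) V => f x₀) h1
    simp at h2
    exact hx₀ h2.symm
  have hnz : ∀ a b : R, a * b = 0 → a = 0 ∨ b = 0 := by
    intro a b hab
    by_cases hb : b = 0
    · exact Or.inr hb
    · left
      have hex : ∃ x, b.1 x ≠ 0 := by
        by_contra h; push Not at h
        apply hb; apply Subtype.ext; apply LinearMap.ext; intro x; simpa using h x
      obtain ⟨x, hx⟩ := hex
      have h0 : a.1 (b.1 x) = 0 := by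
        have h3 := congrArg (fun f : R => f.1 x) hab
        simpa [Module.End.mul_apply] using h3
      apply Subtype.ext; apply LinearMap.ext; intro y
      simpa using step2 a.1 a.2 (b.1 x) hx h0 y
  intro a b ha hb
  have h5 := finite_domain_comm hnz ⟨toEnd H a, Subring.subset_closure ⟨a, ha, rfl⟩⟩
    ⟨toEnd H b, Subring.subset_closure ⟨b, hb, rfl⟩⟩
  have h6 : toEnd H a * toEnd H b = toEnd H b * toEnd H a := congrArg Subtype.val h5
  rw [← toEnd_mul, ← toEnd_mul] at h6
  exact toEnd_injective H h6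

end

end Cfsg.Agent.Lib.helper25.RegLin
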