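import Mathlib
import Cfsg.Agent.Lib.helper81.S0197Defs
import Cfsg.Agent.S0215

/-!
# S0197: pieces GD4 (`gd_fusion`) and GD5 (`gd_count`)  (helper25)

Exact statements of `tools/S0197_Skel.lean.txt`.
-/

set_option autoImplicit false

namespace Cfsg.Agent.Lib.helper25.S0197

open Cfsg Cfsg.Agent.Lib.helper81.S0197

universe u

section core

variable {G : Type u} [Group G] {H : Type*} [Group H]

theorem self_mem_cent (t : G) : t ∈ Subgroup.centralizer ({t} : Set G) := by
  rw [Subgroup.mem_centralizer_iff]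
  intro h hh
  rw [Set.mem_singleton_iff] at hh
  rw [hh]

theorem e_t_eq (t : G) (ht : orderOf t = 2) (z0 w0 : H) (hH : GLFacts H z0 w0)
    (e : Subgroup.centralizer ({t} : Set G) ≃* H) :
    e ⟨t, self_mem_cent t⟩ = z0 ^ 4 := by
  have hc : ∀ y : H, e ⟨t, self_mem_cent t⟩ * y = y * e ⟨t, self_mem_cent t⟩ := by
    intro y
    obtain ⟨c, rfl⟩ := e.surjective y
    rw [← map_mul, ← map_mul]
    congr 1
    apply Subtype.ext
    have := c.2
    rw [Subgroup.mem_centralizer_iff] at this
    exact this t (Set.mem_singleton t)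
  rcases hH.center _ hc with h | h
  · exfalso
    have h1 : (⟨t, self_mem_cent t⟩ : Subgroup.centralizer ({t} : Set G)) = 1 := by
      apply e.injective; rw [h, map_one]
    have h2 : t = 1 := congrArg Subtype.val h1
    rw [h2, orderOf_one] at ht
    omega
  · exact h

theorem coe_symm_mul {t : G} (e : Subgroup.centralizer ({t} : Set G) ≃* H) (a b : H) :
    ((e.symm (a * b) : Subgroup.centralizer ({t} : Set G)) : G)
      = ((e.symm a : Subgroup.centralizer ({t} : Set G)) : G)
        * ((e.symm b : Subgroup.centralizer ({t} : Set G)) : G) := by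
  rw [map_mul]; rfl

theorem coe_symm_inv {t : G} (e : Subgroup.centralizer ({t} : Set G) ≃* H) (a : H) :
    ((e.symm a⁻¹ : Subgroup.centralizer ({t} : Set G)) : G)
      = ((e.symm a : Subgroup.centralizer ({t} : Set G)) : G)⁻¹ := by
  rw [map_inv]; rfl

theorem coe_symm_pow {t : G} (e : Subgroup.centralizer ({t} : Set G) ≃* H) (a : H) (n : ℕ) :
    ((e.symm (a ^ n) : Subgroup.centralizer ({t} : Set G)) : G)
      = ((e.symm a : Subgroup.centralizer ({t} : Set G)) : G) ^ n := by
  rw [map_pow]; rfl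

theorem coe_symm_one {t : G} (e : Subgroup.centralizer ({t} : Set G) ≃* H) :
    ((e.symm 1 : Subgroup.centralizer ({t} : Set G)) : G) = 1 := by
  rw [map_one]; rfl

theorem coe_symm_inj {t : G} (e : Subgroup.centralizer ({t} : Set G) ≃* H) {a b : H}
    (h : ((e.symm a : Subgroup.centralizer ({t} : Set G)) : G)
      = ((e.symm b : Subgroup.centralizer ({t} : Set G)) : G)) : a = b :=
  e.symm.injective (Subtype.ext h)

theorem coe_symm_apply {t : G} (e : Subgroup.centralizer ({t} : Set G) ≃* H) (c : G)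
    (hc : c ∈ Subgroup.centralizer ({t} : Set G)) :
    ((e.symm (e ⟨c, hc⟩) : Subgroup.centralizer ({t} : Set G)) : G) = c := by
  rw [MulEquiv.symm_apply_apply]

theorem coe_symm_z4 (t : G) (ht : orderOf t = 2) (z0 w0 : H) (hH : GLFacts H z0 w0)
    (e : Subgroup.centralizer ({t} : Set G) ≃* H) :
    ((e.symm (z0 ^ 4) : Subgroup.centralizer ({t} : Set G)) : G) = t := by
  rw [← e_t_eq t ht z0 w0 hH e, MulEquiv.symm_apply_apply]

theorem t_sq (t : G) (ht : orderOf t = 2) : t ^ 2 = 1 := by
  have := pow_orderOf_eq_one t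
  rwa [ht] at this

theorem t_ne_one (t : G) (ht : orderOf t = 2) : t ≠ 1 := by
  intro h
  rw [h, orderOf_one] at ht
  omega

theorem conj_sq {t a : G} (ht : orderOf t = 2) (h : IsConj t a) : a ^ 2 = 1 := by
  obtain ⟨c, hc⟩ := isConj_iff.mp h
  rw [← hc, conj_pow, t_sq t ht]
  group

theorem conj_ne_one {t a : G} (ht : orderOf t = 2) (h : IsConj t a) : a ≠ 1 := by
  obtain ⟨c, hc⟩ := isConj_iff.mp h
  intro ha
  apply t_ne_one t ht
  rw [ha] at hc
  calc t = c⁻¹ * (c * t * c⁻¹) * c := by group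
    _ = 1 := by rw [hc]; group

/-- core of GD4, with the `Z*`-theorem as a hypothesis -/
theorem gd_fusion_core [Finite G] [IsSimpleGroup G]
    (hZ : ∀ (P : Sylow 2 G) (u : G), orderOf u = 2 → u ∈ P →
      (∀ g : G, g * u * g⁻¹ ∈ P → g * u * g⁻¹ = u) →
      ∃ N : Subgroup G, N.Normal ∧ Odd (Nat.card N) ∧ ∀ g : G, (u * g * u⁻¹ * g⁻¹) ∈ N)
    (t : G) (ht : orderOf t = 2) (z0 w0 : H) (hH : GLFacts H z0 w0)
    (e : Subgroup.centralizer ({t} : Set G) ≃* H)
    (hP : ∃ P : Sylow 2 G, t ∈ P ∧ (P : Subgroup G) ≤ Subgroup.centralizer ({t} : Set G)) :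
    ∀ u : G, u ∈ Subgroup.centralizer ({t} : Set G) → u ^ 2 = 1 → u ≠ 1 → IsConj t u := by
  obtain ⟨P, htP, hPC⟩ := hP
  have h1 : ∃ g : G, g * t * g⁻¹ ∈ P ∧ g * t * g⁻¹ ≠ t := by
    by_contra hcon
    push Not at hcon
    obtain ⟨N, hN, hodd, hcomm⟩ := hZ P t ht htP hcon
    rcases hN.eq_bot_or_eq_top with h | h
    · -- `t` is central in `G`
      have htc : t ∈ Subgroup.center G := by
        rw [Subgroup.mem_center_iff]
        intro g
        have := hcomm g
        rw [h, Subgroup.mem_bot] at this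
        calc g * t = (t * g * t⁻¹ * g⁻¹)⁻¹ * (t * g) := by group
          _ = t * g := by rw [this, inv_one, one_mul]
      have hcen : Subgroup.center G = ⊤ := by
        rcases (Subgroup.center G).normal_of_characteristic.eq_bot_or_eq_top with h' | h'
        · rw [h', Subgroup.mem_bot] at htc
          exact absurd htc (t_ne_one t ht)
        · exact h'
      have hcomG : ∀ a b : G, a * b = b * a := by
        intro a b
        have : b ∈ Subgroup.center G := by rw [hcen]; trivial
        rw [Subgroup.mem_center_iff] at this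
        exact this a
      have hall : ∀ x : H, x = 1 ∨ x = z0 ^ 4 := by
        intro x
        apply hH.center
        intro y
        apply coe_symm_inj e
        rw [coe_symm_mul, coe_symm_mul]
        exact hcomG _ _
      have hsub : (Set.univ : Set H) ⊆ {1, z0 ^ 4} := by
        intro x _
        rcases hall x with h' | h' <;> simp [h']
      have hcard : Nat.card H ≤ 2 := by
        rw [← Set.ncard_univ]
        calc (Set.univ : Set H).ncard ≤ ({1, z0 ^ 4} : Set H).ncard :=
              Set.ncard_le_ncard hsub (Set.toFinite _)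
          _ ≤ ({z0 ^ 4} : Set H).ncard + 1 := Set.ncard_insert_le _ _
          _ = 2 := by rw [Set.ncard_singleton]
      rw [hH.card] at hcard
      omega
    · rw [h, Subgroup.card_top] at hodd
      have h2 : 2 ∣ Nat.card G := by
        rw [← ht]; exact orderOf_dvd_natCard t
      rcases hodd with ⟨k, hk⟩
      omega
  obtain ⟨g, hgP, hgt⟩ := h1
  have hu'C : g * t * g⁻¹ ∈ Subgroup.centralizer ({t} : Set G) := hPC hgP
  have hu'2 : (g * t * g⁻¹) ^ 2 = 1 := conj_sq ht (isConj_iff.mpr ⟨g, rfl⟩)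
  have hu'1 : g * t * g⁻¹ ≠ 1 := conj_ne_one ht (isConj_iff.mpr ⟨g, rfl⟩)
  intro u huC hu2 hu1
  by_cases hut : u = t
  · rw [hut]
  · have key : ∀ (v : G) (hv : v ∈ Subgroup.centralizer ({t} : Set G)), v ^ 2 = 1 → v ≠ 1 →
        v ≠ t → (e ⟨v, hv⟩) ^ 2 = 1 ∧ e ⟨v, hv⟩ ≠ 1 ∧ e ⟨v, hv⟩ ≠ z0 ^ 4 := by
      intro v hv hv2 hv1 hvt
      refine ⟨?_, ?_, ?_⟩
      · rw [← map_pow]
        have : (⟨v, hv⟩ : Subgroup.centralizer ({t} : Set G)) ^ 2 = 1 := Subtype.ext hv2
        rw [this, map_one]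
      · intro h
        apply hv1
        have := e.injective (h.trans (map_one e).symm)
        exact congrArg Subtype.val this
      · intro h
        apply hvt
        rw [← e_t_eq t ht z0 w0 hH e] at h
        exact congrArg Subtype.val (e.injective h)
    obtain ⟨ha2, ha1, ha4⟩ := key _ hu'C hu'2 hu'1 hgt
    obtain ⟨hb2, hb1, hb4⟩ := key u huC hu2 hu1 hut
    obtain ⟨n, hn⟩ := hH.invol _ _ ha2 ha1 ha4 hb2 hb1 hb4
    have hconj : ((e.symm n : Subgroup.centralizer ({t} : Set G)) : G) * (g * t * g⁻¹)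
        * ((e.symm n : Subgroup.centralizer ({t} : Set G)) : G)⁻¹ = u := by
      have h := congrArg (fun x => ((e.symm x : Subgroup.centralizer ({t} : Set G)) : G)) hn
      simp only [coe_symm_mul, coe_symm_inv, coe_symm_apply] at h
      exact h
    rw [isConj_iff]
    refine ⟨((e.symm n : Subgroup.centralizer ({t} : Set G)) : G) * g, ?_⟩
    rw [← hconj]
    group

end core

/-- PIECE GD4: fusion (Glauberman Z*, landed S0215): every involution of `C_G(t)` is
`G`-conjugate to `t`. -/
theorem gd_fusion {G : Type u} [Group G] [Finite G] [IsSimpleGroup G] (t : G)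
    (ht : orderOf t = 2) {H : Type*} [Group H] (z0 w0 : H) (hH : GLFacts H z0 w0)
    (e : Subgroup.centralizer ({t} : Set G) ≃* H)
    (hP : ∃ P : Sylow 2 G, t ∈ P ∧ (P : Subgroup G) ≤ Subgroup.centralizer ({t} : Set G)) :
    ∀ u : G, u ∈ Subgroup.centralizer ({t} : Set G) → u ^ 2 = 1 → u ≠ 1 → IsConj t u :=
  gd_fusion_core (fun P u hu huP hiso => Cfsg.Agent.S0215.result P u hu huP hiso)
    t ht z0 w0 hH e hP

/-- PIECE GD5: the number of pairs of conjugates of `t` with product `z ^ 2` is `4`. -/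
theorem gd_count {G : Type u} [Group G] [Finite G] [IsSimpleGroup G] (t : G)
    (ht : orderOf t = 2) {H : Type*} [Group H] (z0 w0 : H) (hH : GLFacts H z0 w0)
    (e : Subgroup.centralizer ({t} : Set G) ≃* H)
    (hfus : ∀ u : G, u ∈ Subgroup.centralizer ({t} : Set G) → u ^ 2 = 1 → u ≠ 1 → IsConj t u) :
    Nat.card {p : G × G // IsConj t p.1 ∧ IsConj t p.2 ∧
      p.1 * p.2 = ((e.symm z0 : Subgroup.centralizer ({t} : Set G)) : G) ^ 2} = 4 := by
  rw [← hH.pairs]
  symm
  -- images of involutions are conjugates of `t`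
  have hinv : ∀ x : H, x ^ 2 = 1 → x ≠ 1 →
      IsConj t ((e.symm x : Subgroup.centralizer ({t} : Set G)) : G) := by
    intro x hx2 hx1
    refine hfus _ (e.symm x).2 ?_ ?_
    · rw [← coe_symm_pow, hx2, coe_symm_one]
    · intro h
      apply hx1
      apply coe_symm_inj e
      rw [h, coe_symm_one]
  have ht2 : t ^ 2 = 1 := t_sq t ht
  have ht1 : t ≠ 1 := t_ne_one t ht
  have hy2 : (((e.symm z0 : Subgroup.centralizer ({t} : Set G)) : G) ^ 2) ^ 2 = t := by
    rw [← pow_mul, ← coe_symm_pow]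
    exact coe_symm_z4 t ht z0 w0 hH e
  have hyC : ((e.symm z0 : Subgroup.centralizer ({t} : Set G)) : G) ^ 2
      ∈ Subgroup.centralizer ({t} : Set G) := by
    rw [← coe_symm_pow]
    exact (e.symm (z0 ^ 2)).2
  refine Nat.card_congr (Equiv.ofBijective
    (fun x => ⟨(((e.symm x.1 : Subgroup.centralizer ({t} : Set G)) : G),
      ((e.symm (x.1⁻¹ * z0 ^ 2) : Subgroup.centralizer ({t} : Set G)) : G)),
      hinv _ x.2.1 x.2.2.1, hinv _ x.2.2.2.2.1 x.2.2.2.2.2.1, by
        show ((e.symm x.1 : Subgroup.centralizer ({t} : Set G)) : G)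
          * ((e.symm (x.1⁻¹ * z0 ^ 2) : Subgroup.centralizer ({t} : Set G)) : G) = _
        rw [← coe_symm_mul, mul_inv_cancel_left, coe_symm_pow]⟩) ⟨?_, ?_⟩)
  · -- injective
    intro x x' hxx
    have h1 := congrArg (fun p => p.1.1) hxx
    exact Subtype.ext (coe_symm_inj e h1)
  · -- surjective
    rintro ⟨⟨a, b⟩, hca, hcb, hab⟩
    simp only at hca hcb hab
    have ha2 : a ^ 2 = 1 := conj_sq ht hca
    have hb2 : b ^ 2 = 1 := conj_sq ht hcb
    have ha1 : a ≠ 1 := conj_ne_one ht hca
    have hb1 : b ≠ 1 := conj_ne_one ht hcb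
    have hai : a⁻¹ = a := inv_eq_of_mul_eq_one_left (by rw [← pow_two]; exact ha2)
    have hbi : b⁻¹ = b := inv_eq_of_mul_eq_one_left (by rw [← pow_two]; exact hb2)
    -- `a` inverts `y = a * b`
    have hinvy : a * (a * b) * a⁻¹ = (a * b)⁻¹ := by
      rw [mul_inv_rev, hai, hbi]
      calc a * (a * b) * a = a ^ 2 * b * a := by rw [pow_two]; group
        _ = b * a := by rw [ha2, one_mul]
    have hat : a * t * a⁻¹ = t := by
      rw [← hy2, ← hab, ← conj_pow, hinvy, inv_pow, hab, hy2]
      exact inv_eq_of_mul_eq_one_left (by rw [← pow_two]; exact ht2)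
    have haC : a ∈ Subgroup.centralizer ({t} : Set G) := by
      rw [Subgroup.mem_centralizer_iff]
      intro x hx
      rw [Set.mem_singleton_iff] at hx
      subst hx
      calc x * a = (a * x * a⁻¹) * a := by rw [hat]
        _ = a * x := by group
    have hbC : b ∈ Subgroup.centralizer ({t} : Set G) := by
      have : b = a⁻¹ * (((e.symm z0 : Subgroup.centralizer ({t} : Set G)) : G) ^ 2) := by
        rw [← hab]; group
      rw [this]
      exact Subgroup.mul_mem _ (Subgroup.inv_mem _ haC) hyC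
    have htb : t * b = b * t := by
      rw [Subgroup.mem_centralizer_iff] at hbC
      exact hbC t (Set.mem_singleton t)
    have hta : t * a = a * t := by
      rw [Subgroup.mem_centralizer_iff] at haC
      exact haC t (Set.mem_singleton t)
    have hat' : a ≠ t := by
      intro h
      rw [h] at hab
      -- `t * b = y`, so `y ^ 2 = t ^ 2 * b ^ 2 = 1`
      have : (t * b) ^ 2 = 1 := by
        rw [(show Commute t b from htb).mul_pow, ht2, hb2, one_mul]
      rw [hab, hy2] at this
      exact ht1 this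
    have hbt' : b ≠ t := by
      intro h
      rw [h] at hab
      have : (a * t) ^ 2 = 1 := by
        rw [(show Commute a t from hta.symm).mul_pow, ht2, ha2, one_mul]
      rw [hab, hy2] at this
      exact ht1 this
    have key : ∀ (v : G) (hv : v ∈ Subgroup.centralizer ({t} : Set G)), v ^ 2 = 1 → v ≠ 1 →
        v ≠ t → (e ⟨v, hv⟩) ^ 2 = 1 ∧ e ⟨v, hv⟩ ≠ 1 ∧ e ⟨v, hv⟩ ≠ z0 ^ 4 := by
      intro v hv hv2 hv1 hvt
      refine ⟨?_, ?_, ?_⟩
      · rw [← map_pow]
        have : (⟨v, hv⟩ : Subgroup.centralizer ({t} : Set G)) ^ 2 = 1 := Subtype.ext hv2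
        rw [this, map_one]
      · intro h
        apply hv1
        have := e.injective (h.trans (map_one e).symm)
        exact congrArg Subtype.val this
      · intro h
        apply hvt
        rw [← e_t_eq t ht z0 w0 hH e] at h
        exact congrArg Subtype.val (e.injective h)
    obtain ⟨hA2, hA1, hA4⟩ := key a haC ha2 ha1 hat'
    obtain ⟨hB2, hB1, hB4⟩ := key b hbC hb2 hb1 hbt'
    have hAB : (e ⟨a, haC⟩)⁻¹ * z0 ^ 2 = e ⟨b, hbC⟩ := by
      apply coe_symm_inj e
      rw [coe_symm_mul, coe_symm_inv, coe_symm_apply, coe_symm_apply, coe_symm_pow, ← hab]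
      group
    refine ⟨⟨e ⟨a, haC⟩, hA2, hA1, hA4, ?_, ?_, ?_⟩, ?_⟩
    · rw [hAB]; exact hB2
    · rw [hAB]; exact hB1
    · rw [hAB]; exact hB4
    · apply Subtype.ext
      apply Prod.ext
      · exact coe_symm_apply e a haC
      · show ((e.symm ((e ⟨a, haC⟩)⁻¹ * z0 ^ 2) : Subgroup.centralizer ({t} : Set G)) : G) = b
        rw [hAB]
        exact coe_symm_apply e b hbC

end Cfsg.Agent.Lib.helper25.S0197
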