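import Mathlib

/-!
# S2343, piece E3: three lemmas on a complex representation (idempotents and traces)
-/

set_option autoImplicit false

namespace Cfsg.Agent.Lib.helper25.ReeLS

/-- E3a. `Q = ∑_b ρ(ζ b)` satisfies `Q * Q = |F| Q` and has trace `0`; an idempotent of trace `0`
over `ℂ` is `0`. -/
theorem sum_rep_eq_zero {G : Type*} [Group G] {k : ℕ} (ρ : Representation ℂ G (Fin k → ℂ))
    {F : Type*} [AddCommGroup F] [Fintype F] (ζ : F → G) (hζ : ∀ a b : F, ζ (a + b) = ζ a * ζ b)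
    (h0 : ∑ b : F, ρ.character (ζ b) = 0) : ∑ b : F, ρ (ζ b) = 0 := by
  classical
  have hn : (Fintype.card F : ℂ) ≠ 0 := by
    have h1 : Fintype.card F ≠ 0 := Fintype.card_ne_zero
    exact_mod_cast h1
  have hmul : ∀ a : F, ρ (ζ a) * ∑ b : F, ρ (ζ b) = ∑ b : F, ρ (ζ b) := by
    intro a
    rw [Finset.mul_sum]
    refine Fintype.sum_equiv (Equiv.addLeft a) _ _ (fun b => ?_)
    show ρ (ζ a) * ρ (ζ b) = ρ (ζ (a + b))
    rw [hζ, map_mul]
  have hQQ : (∑ b : F, ρ (ζ b)) * (∑ b : F, ρ (ζ b))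
      = (Fintype.card F : ℂ) • ∑ b : F, ρ (ζ b) := by
    conv_lhs => rw [Finset.sum_mul]
    rw [Finset.sum_congr rfl (fun a _ => hmul a), Finset.sum_const, Finset.card_univ,
      ← Nat.cast_smul_eq_nsmul ℂ]
  have htr : LinearMap.trace ℂ (Fin k → ℂ) (∑ b : F, ρ (ζ b)) = 0 := by
    rw [map_sum]; exact h0
  have hE2 : IsIdempotentElem ((Fintype.card F : ℂ)⁻¹ • ∑ b : F, ρ (ζ b)) := by
    show ((Fintype.card F : ℂ)⁻¹ • ∑ b : F, ρ (ζ b)) * ((Fintype.card F : ℂ)⁻¹ • ∑ b : F, ρ (ζ b))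
      = (Fintype.card F : ℂ)⁻¹ • ∑ b : F, ρ (ζ b)
    rw [smul_mul_assoc, mul_smul_comm, hQQ, smul_smul, smul_smul, mul_assoc,
      inv_mul_cancel₀ hn, mul_one]
  have hEtr : LinearMap.trace ℂ (Fin k → ℂ) ((Fintype.card F : ℂ)⁻¹ • ∑ b : F, ρ (ζ b)) = 0 := by
    rw [map_smul, htr, smul_zero]
  have hE0 := LinearMap.IsIdempotentElem.eq_zero_of_trace_eq_zero hE2 hEtr
  have h2 : ∑ b : F, ρ (ζ b)
      = (Fintype.card F : ℂ) • ((Fintype.card F : ℂ)⁻¹ • ∑ b : F, ρ (ζ b)) := by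
    rw [smul_smul, mul_inv_cancel₀ hn, one_smul]
  rw [h2, hE0, smul_zero]

/-- E3b. If `s` inverts `ζ(F)` (of exponent `3`) and the character sums to `0` on `ζ(F)`, then the
character vanishes at `s`. -/
theorem char_eq_zero_of_inverting {G : Type*} [Group G] {k : ℕ}
    (ρ : Representation ℂ G (Fin k → ℂ))
    {F : Type*} [AddCommGroup F] [Fintype F] (h3 : ∀ b : F, b + b + b = 0)
    (ζ : F → G) (hζ : ∀ a b : F, ζ (a + b) = ζ a * ζ b) (s : G)
    (hs : ∀ b : F, s * ζ b * s⁻¹ = ζ (-b))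
    (h0 : ∑ b : F, ρ.character (ζ b) = 0) : ρ.character s = 0 := by
  classical
  have hQ := sum_rep_eq_zero ρ ζ hζ h0
  have hζ0 : ζ 0 = 1 := by
    have h1 := hζ 0 0
    rw [add_zero] at h1
    exact left_eq_mul.mp h1
  have hζinv : ∀ b : F, (ζ b)⁻¹ = ζ (-b) := by
    intro b
    have h1 : ζ b * ζ (-b) = 1 := by rw [← hζ, add_neg_cancel, hζ0]
    exact (eq_inv_of_mul_eq_one_right h1).symm
  have hconj : ∀ b : F, ζ b * s * (ζ b)⁻¹ = ζ (-b) * s := by
    intro b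
    have h1 : s * ζ (-b) = ζ b * s := by
      have h := hs (-b)
      rw [neg_neg] at h
      rw [← h]
      group
    have h2 : ζ b * ζ b = ζ (-b) := by
      rw [← hζ]
      congr 1
      exact eq_neg_of_add_eq_zero_left (h3 b)
    rw [hζinv, mul_assoc, h1, ← mul_assoc, h2]
  have hchar : ∀ b : F, ρ.character (ζ (-b) * s) = ρ.character s := by
    intro b
    rw [← hconj, Representation.char_conj]
  have hsum : ∑ b : F, ρ.character (ζ (-b) * s) = 0 := by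
    have h1 : ∑ b : F, ρ.character (ζ (-b) * s)
        = LinearMap.trace ℂ (Fin k → ℂ) ((∑ b : F, ρ (ζ b)) * ρ s) := by
      rw [Finset.sum_mul, map_sum]
      refine Fintype.sum_equiv (Equiv.neg F) _ _ (fun b => ?_)
      show ρ.character (ζ (-b) * s) = LinearMap.trace ℂ (Fin k → ℂ) (ρ (ζ (-b)) * ρ s)
      rw [← map_mul]
      rfl
    rw [h1, hQ, zero_mul, map_zero]
  rw [Finset.sum_congr rfl (fun b _ => hchar b), Finset.sum_const, Finset.card_univ,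
    nsmul_eq_mul] at hsum
  rcases mul_eq_zero.mp hsum with h | h
  · have h1 : Fintype.card F ≠ 0 := Fintype.card_ne_zero
    exact absurd h (by exact_mod_cast h1)
  · exact h

/-- E3c. `E = (1 + ρ a + ρ b + ρ (a b)) / 4` is idempotent of trace `k / 4`, and the trace of an
idempotent is a natural number. -/
theorem four_dvd_of_char_zero {G : Type*} [Group G] {k : ℕ} (ρ : Representation ℂ G (Fin k → ℂ))
    (a b : G) (ha : a * a = 1) (hb : b * b = 1) (hab : a * b = b * a)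
    (h1 : ρ.character a = 0) (h2 : ρ.character b = 0) (h3 : ρ.character (a * b) = 0) : 4 ∣ k := by
  classical
  have hA2 : ρ a * ρ a = 1 := by rw [← map_mul, ha, map_one]
  have hB2 : ρ b * ρ b = 1 := by rw [← map_mul, hb, map_one]
  have hAB : ρ a * ρ b = ρ b * ρ a := by rw [← map_mul, ← map_mul, hab]
  have hAS : ρ a * (1 + ρ a + ρ b + ρ a * ρ b) = 1 + ρ a + ρ b + ρ a * ρ b := by
    rw [mul_add, mul_add, mul_add, mul_one, hA2, ← mul_assoc, hA2, one_mul]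
    abel
  have hBS : ρ b * (1 + ρ a + ρ b + ρ a * ρ b) = 1 + ρ a + ρ b + ρ a * ρ b := by
    rw [mul_add, mul_add, mul_add, mul_one, hB2, ← mul_assoc, ← hAB, mul_assoc, hB2, mul_one]
    abel
  have hSS : (1 + ρ a + ρ b + ρ a * ρ b) * (1 + ρ a + ρ b + ρ a * ρ b)
      = (4 : ℂ) • (1 + ρ a + ρ b + ρ a * ρ b) := by
    conv_lhs => rw [add_mul, add_mul, add_mul, one_mul, mul_assoc, hBS, hAS]
    rw [show (4 : ℂ) = 1 + 1 + 1 + 1 by norm_num, add_smul, add_smul, add_smul, one_smul]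
  have hE2 : IsIdempotentElem ((4 : ℂ)⁻¹ • (1 + ρ a + ρ b + ρ a * ρ b)) := by
    show ((4 : ℂ)⁻¹ • (1 + ρ a + ρ b + ρ a * ρ b)) * ((4 : ℂ)⁻¹ • (1 + ρ a + ρ b + ρ a * ρ b))
      = (4 : ℂ)⁻¹ • (1 + ρ a + ρ b + ρ a * ρ b)
    rw [smul_mul_assoc, mul_smul_comm, hSS, smul_smul, smul_smul, mul_assoc,
      inv_mul_cancel₀ (by norm_num : (4 : ℂ) ≠ 0), mul_one]
  have htr1 : LinearMap.trace ℂ (Fin k → ℂ) ((4 : ℂ)⁻¹ • (1 + ρ a + ρ b + ρ a * ρ b))
      = (4 : ℂ)⁻¹ * (k : ℂ) := by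
    have e1 : LinearMap.trace ℂ (Fin k → ℂ) (ρ a) = 0 := h1
    have e2 : LinearMap.trace ℂ (Fin k → ℂ) (ρ b) = 0 := h2
    have e3 : LinearMap.trace ℂ (Fin k → ℂ) (ρ a * ρ b) = 0 := by
      rw [← map_mul]; exact h3
    rw [map_smul, map_add, map_add, map_add, e1, e2, e3, LinearMap.trace_one,
      Module.finrank_fin_fun, add_zero, add_zero, add_zero, smul_eq_mul]
  have htr2 := (LinearMap.IsIdempotentElem.isProj_range _ hE2).trace
  rw [htr1] at htr2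
  have h4 : (k : ℂ) = ((4 * Module.finrank ℂ
      (LinearMap.range ((4 : ℂ)⁻¹ • (1 + ρ a + ρ b + ρ a * ρ b))) : ℕ) : ℂ) := by
    rw [Nat.cast_mul, ← htr2]
    push_cast
    field_simp
  exact ⟨_, Nat.cast_injective h4⟩

end Cfsg.Agent.Lib.helper25.ReeLS
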