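import Mathlib

/-! S3664 split, piece SYLC (insurance copy, Mathlib only): if `p² ∤ |G|` then any two elements
of order `p` are conjugate up to a power. -/

set_option autoImplicit false

namespace Cfsg.Agent.Lib.helper25.S3664

/-- A cyclic subgroup of prime order `p` is a Sylow `p`-subgroup when `p² ∤ |G|`. -/
theorem helper25_zpowers_eq_sylow {G : Type*} [Group G] [Finite G] (p : ℕ) (hp : p.Prime)
    (hp2 : ¬ p ^ 2 ∣ Nat.card G) (x : G) (hx : orderOf x = p) :
    ∃ P : Sylow p G, (P : Subgroup G) = Subgroup.zpowers x := by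
  have : Fact p.Prime := ⟨hp⟩
  have hcard : Nat.card (Subgroup.zpowers x) = p := by rw [Nat.card_zpowers, hx]
  have hpg : IsPGroup p (Subgroup.zpowers x) := IsPGroup.of_card (n := 1) (by rw [hcard, pow_one])
  obtain ⟨P, hP⟩ := hpg.exists_le_sylow
  refine ⟨P, ?_⟩
  have hdvd : p ∣ Nat.card G := by
    rw [← hx]
    exact orderOf_dvd_natCard x
  have hG0 : Nat.card G ≠ 0 := Nat.card_pos.ne'
  have hfac : (Nat.card G).factorization p = 1 := by
    have h1 : 1 ≤ (Nat.card G).factorization p :=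
      (hp.dvd_iff_one_le_factorization hG0).mp hdvd
    have h2 : ¬ 2 ≤ (Nat.card G).factorization p := by
      intro h
      exact hp2 ((hp.pow_dvd_iff_le_factorization hG0).mpr h)
    omega
  have hPcard : Nat.card (P : Subgroup G) = p := by
    rw [Sylow.card_eq_multiplicity, hfac, pow_one]
  symm
  apply Subgroup.eq_of_le_of_card_ge hP
  rw [hPcard, hcard]

/-- PIECE SYLC -/
theorem sylow_conj {G : Type*} [Group G] [Finite G] (p : ℕ) (hp : p.Prime)
    (hp2 : ¬ p ^ 2 ∣ Nat.card G) (x y : G) (hx : orderOf x = p) (hy : orderOf y = p) :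
    ∃ (c : G) (j : ℕ), y = c * x ^ j * c⁻¹ := by
  have : Fact p.Prime := ⟨hp⟩
  obtain ⟨P, hP⟩ := helper25_zpowers_eq_sylow p hp hp2 x hx
  obtain ⟨Q, hQ⟩ := helper25_zpowers_eq_sylow p hp hp2 y hy
  obtain ⟨c, hc⟩ := MulAction.exists_smul_eq G P Q
  have hy' : y ∈ ((c • P : Sylow p G) : Subgroup G) := by
    rw [hc, hQ]
    exact Subgroup.mem_zpowers y
  rw [Sylow.coe_subgroup_smul, Subgroup.mem_pointwise_smul_iff_inv_smul_mem, hP] at hy'
  have hfin : IsOfFinOrder x := isOfFinOrder_of_finite x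
  obtain ⟨j, hj⟩ := (hfin.mem_powers_iff_mem_zpowers).mpr hy'
  refine ⟨c, j, ?_⟩
  have hj' : x ^ j = c⁻¹ * y * c := by
    have h1 : x ^ j = (MulAut.conj c)⁻¹ • y := hj
    rw [h1, MulAut.smul_def, ← map_inv, MulAut.conj_apply, inv_inv]
  rw [hj']
  group

end Cfsg.Agent.Lib.helper25.S3664
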