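import Mathlib
import Cfsg.Agent.Lib.helper89.S60Defs

set_option autoImplicit false

namespace Cfsg.Agent.Lib.helper89.S60

open Matrix Cfsg Cfsg.Geo

/-- Two linear equations in four unknowns have a non-zero solution. -/
theorem h25_s60_exists_orth {F : Type*} [Field F] (a b : Fin 4 → F) :
    ∃ x : Fin 4 → F, x ≠ 0 ∧ a ⬝ᵥ x = 0 ∧ b ⬝ᵥ x = 0 := by
  let f : (Fin 4 → F) →ₗ[F] (Fin 2 → F) :=
    { toFun := fun x => ![a ⬝ᵥ x, b ⬝ᵥ x]
      map_add' := by
        intro x y
        ext i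
        fin_cases i <;> simp [dotProduct_add]
      map_smul' := by
        intro c x
        ext i
        fin_cases i <;> simp [dotProduct_smul] }
  have h : LinearMap.ker f ≠ ⊥ := by
    apply LinearMap.ker_ne_bot_of_finrank_lt
    simp
  obtain ⟨x, hx, hx0⟩ := (Submodule.ne_bot_iff _).1 h
  have hfx : f x = 0 := LinearMap.mem_ker.1 hx
  refine ⟨x, hx0, ?_, ?_⟩
  · have := congrFun hfx 0
    simpa [f] using this
  · have := congrFun hfx 1
    simpa [f] using this

/-- If `Y = 1 + u wᵀ` and `Y S = C S Y` with `S` invertible, then `1 - C` is not invertible. -/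
theorem h25_s60_transv_aux {F : Type*} [Field F] (Y S C : Matrix (Fin 4) (Fin 4) F) (u w : Fin 4 → F)
    (hY : Y = 1 + Matrix.vecMulVec u w) (Si : Matrix (Fin 4) (Fin 4) F) (hSi : Si * S = 1)
    (hrel : Y * S = C * S * Y) (D : Matrix (Fin 4) (Fin 4) F) (hD : D * (1 - C) = 1) : False := by
  obtain ⟨x, hx0, hx1, hx2⟩ := h25_s60_exists_orth w (w ᵥ* S)
  have hx2' : w ⬝ᵥ (S *ᵥ x) = 0 := by rw [Matrix.dotProduct_mulVec]; exact hx2
  have hYv : ∀ v : Fin 4 → F, w ⬝ᵥ v = 0 → Y *ᵥ v = v := by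
    intro v hv
    rw [hY, Matrix.add_mulVec, Matrix.one_mulVec, Matrix.vecMulVec_mulVec, hv]
    simp
  have h1 : (Y * S) *ᵥ x = S *ᵥ x := by
    rw [← Matrix.mulVec_mulVec, hYv _ hx2']
  have h2 : (C * S * Y) *ᵥ x = C *ᵥ (S *ᵥ x) := by
    rw [← Matrix.mulVec_mulVec, hYv _ hx1, ← Matrix.mulVec_mulVec]
  have h3 : (1 - C) *ᵥ (S *ᵥ x) = 0 := by
    rw [Matrix.sub_mulVec, Matrix.one_mulVec, ← h2, ← hrel, h1, sub_self]
  have h4 : S *ᵥ x = 0 := by
    have h5 : (D * (1 - C)) *ᵥ (S *ᵥ x) = 0 := by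
      rw [← Matrix.mulVec_mulVec, h3, Matrix.mulVec_zero]
    rw [hD, Matrix.one_mulVec] at h5
    exact h5
  apply hx0
  have h6 : (Si * S) *ᵥ x = 0 := by
    rw [← Matrix.mulVec_mulVec, h4, Matrix.mulVec_zero]
  rw [hSi, Matrix.one_mulVec] at h6
  exact h6

/-- The commutator `c(s) = y s y⁻¹ s⁻¹` lies in `R`, is an involution, and is `1` if it is scalar. -/
theorem h25_s60_comm_facts {F : Type*} [Field F] (h2 : (2 : F) ≠ 0) (R : Subgroup (GL (Fin 4) F))
    (w : F) (hG : Good R w) (y : GL (Fin 4) F) (hy : y ∈ subgroupNormalizer R)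
    (u v : Fin 4 → F) (hyu : (y : Matrix (Fin 4) (Fin 4) F) = 1 + Matrix.vecMulVec u v)
    (s : GL (Fin 4) F) (hs : s ∈ R) :
    y * s * y⁻¹ * s⁻¹ ∈ R ∧
      (y * s * y⁻¹ * s⁻¹) * (y * s * y⁻¹ * s⁻¹) = 1 ∧
      (∀ e : F, ((y * s * y⁻¹ * s⁻¹ : GL (Fin 4) F) : Matrix (Fin 4) (Fin 4) F) =
        e • (1 : Matrix (Fin 4) (Fin 4) F) → y * s * y⁻¹ * s⁻¹ = 1) := by
  have hcR : y * s * y⁻¹ * s⁻¹ ∈ R := by
    have h1 : y * s * y⁻¹ ∈ R := (Subgroup.mem_normalizer_iff.1 hy s).1 hs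
    exact R.mul_mem h1 (R.inv_mem hs)
  obtain ⟨c, hc⟩ : ∃ c : GL (Fin 4) F, c = y * s * y⁻¹ * s⁻¹ := ⟨_, rfl⟩
  rw [← hc] at hcR ⊢
  have hrel : (y : Matrix (Fin 4) (Fin 4) F) * (s : Matrix (Fin 4) (Fin 4) F) =
      (c : Matrix (Fin 4) (Fin 4) F) * (s : Matrix (Fin 4) (Fin 4) F) *
        (y : Matrix (Fin 4) (Fin 4) F) := by
    have : y * s = c * s * y := by rw [hc]; group
    exact congrArg (fun g : GL (Fin 4) F => (g : Matrix (Fin 4) (Fin 4) F)) this
  have hSi : ((s⁻¹ : GL (Fin 4) F) : Matrix (Fin 4) (Fin 4) F) *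
      (s : Matrix (Fin 4) (Fin 4) F) = 1 := by
    have : s⁻¹ * s = 1 := inv_mul_cancel s
    exact congrArg (fun g : GL (Fin 4) F => (g : Matrix (Fin 4) (Fin 4) F)) this
  have h2' : (2 : F)⁻¹ * 2 = 1 := inv_mul_cancel₀ h2
  have key : ∀ D : Matrix (Fin 4) (Fin 4) F, D * (1 - (c : Matrix (Fin 4) (Fin 4) F)) = 1 → False :=
    fun D hD => h25_s60_transv_aux _ _ _ u v hyu _ hSi hrel D hD
  refine ⟨hcR, ?_, ?_⟩
  · rcases hG.sq c hcR with h | h
    · exact Units.ext h
    · exfalso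
      apply key ((2 : F)⁻¹ • (1 + (c : Matrix (Fin 4) (Fin 4) F)))
      rw [Matrix.smul_mul]
      have : (1 + (c : Matrix (Fin 4) (Fin 4) F)) * (1 - (c : Matrix (Fin 4) (Fin 4) F)) =
          (2 : F) • (1 : Matrix (Fin 4) (Fin 4) F) := by
        rw [Matrix.add_mul, Matrix.mul_sub, Matrix.mul_sub, h, two_smul]
        simp
        abel
      rw [this, smul_smul, h2', one_smul]
  · intro e he
    by_cases he1 : e = 1
    · apply Units.ext
      rw [he, he1, one_smul]
      rfl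
    · exfalso
      have hne : (1 - e) ≠ 0 := sub_ne_zero.2 (Ne.symm he1)
      apply key ((1 - e)⁻¹ • (1 : Matrix (Fin 4) (Fin 4) F))
      rw [he, Matrix.smul_mul, Matrix.one_mul]
      have : (1 : Matrix (Fin 4) (Fin 4) F) - e • (1 : Matrix (Fin 4) (Fin 4) F) =
          (1 - e) • (1 : Matrix (Fin 4) (Fin 4) F) := by
        rw [sub_smul, one_smul]
      rw [this, smul_smul, inv_mul_cancel₀ hne, one_smul]

/-- BTV (L), racer copy of `s60_transv_central` (verbatim statement). -/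
theorem h25_s60_transv_central {F : Type*} [Field F] [Fintype F] (h2 : (2 : F) ≠ 0) (R : Subgroup (GL (Fin 4) F)) (w : F) (hG : Good R w)
    (y : GL (Fin 4) F) (hy : y ∈ subgroupNormalizer R) (k : ℕ) (hk : Odd k) (hyk : y ^ k = 1)
    (u v : Fin 4 → F) (hyu : (y : Matrix (Fin 4) (Fin 4) F) = 1 + Matrix.vecMulVec u v) :
    ∀ s ∈ R, y * s = s * y := by
  have hcoe : ∀ a b : GL (Fin 4) F, ((a * b : GL (Fin 4) F) : Matrix (Fin 4) (Fin 4) F) =
      (a : Matrix (Fin 4) (Fin 4) F) * (b : Matrix (Fin 4) (Fin 4) F) := fun a b => rfl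
  have hext : ∀ a b : GL (Fin 4) F,
      (a : Matrix (Fin 4) (Fin 4) F) = (b : Matrix (Fin 4) (Fin 4) F) → a = b :=
    fun a b h => Units.ext h
  have facts := fun s hs => h25_s60_comm_facts h2 R w hG y hy u v hyu s hs
  -- c(s) commutes with s
  have hcomm : ∀ s ∈ R, (y * s * y⁻¹ * s⁻¹) * s = s * (y * s * y⁻¹ * s⁻¹) := by
    intro s hs
    obtain ⟨hcR, hcc', -⟩ := facts s hs
    obtain ⟨c, hc⟩ : ∃ c : GL (Fin 4) F, c = y * s * y⁻¹ * s⁻¹ := ⟨_, rfl⟩
    rw [← hc] at hcR hcc' ⊢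
    have hss : y * (s * s) = (s * s) * y := by
      rcases hG.sq s hs with h | h
      · have : s * s = 1 := hext _ _ (by rw [hcoe]; exact h)
        rw [this, mul_one, one_mul]
      · apply hext
        simp only [hcoe]
        rw [h]
        simp
    have h1 : c * s = y * s * y⁻¹ := by rw [hc]; group
    have h3 : (c * s) * (c * s) = s * s := by
      rw [h1]
      calc y * s * y⁻¹ * (y * s * y⁻¹) = y * (s * s) * y⁻¹ := by group
        _ = s * s := by rw [hss]; group
    have h4 : c * s * c = s := by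
      have : c * s * c * s = s * s := by rw [← h3]; group
      exact mul_right_cancel this
    calc c * s = c * (c * s * c) := by rw [h4]
      _ = (c * c) * s * c := by group
      _ = s * c := by rw [hcc', one_mul]
  -- c(s) and c(t) commute
  have hcc : ∀ s ∈ R, ∀ t ∈ R, (y * s * y⁻¹ * s⁻¹) * (y * t * y⁻¹ * t⁻¹) =
      (y * t * y⁻¹ * t⁻¹) * (y * s * y⁻¹ * s⁻¹) := by
    intro s hs t ht
    obtain ⟨hcsR, hcs2, -⟩ := facts s hs
    obtain ⟨hctR, hct2, -⟩ := facts t ht
    obtain ⟨-, hcst2, -⟩ := facts (s * t) (R.mul_mem hs ht)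
    obtain ⟨cs, hcs⟩ : ∃ c : GL (Fin 4) F, c = y * s * y⁻¹ * s⁻¹ := ⟨_, rfl⟩
    obtain ⟨ct, hct⟩ : ∃ c : GL (Fin 4) F, c = y * t * y⁻¹ * t⁻¹ := ⟨_, rfl⟩
    rw [← hcs] at hcsR hcs2 ⊢
    rw [← hct] at hctR hct2 ⊢
    have hid : y * (s * t) * y⁻¹ * (s * t)⁻¹ = cs * s * ct * s⁻¹ := by rw [hcs, hct]; group
    rw [hid] at hcst2
    have hprod : (cs * ct) * (cs * ct) = 1 := by
      rcases hG.comm s hs ct hctR with h | h
      · have hsc : s * ct = ct * s := hext _ _ (by rw [hcoe, hcoe]; exact h)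
        have e1 : cs * s * ct * s⁻¹ = cs * ct := by
          calc cs * s * ct * s⁻¹ = cs * (s * ct) * s⁻¹ := by group
            _ = cs * (ct * s) * s⁻¹ := by rw [hsc]
            _ = cs * ct := by group
        rw [e1] at hcst2
        exact hcst2
      · apply hext
        show (cs : Matrix (Fin 4) (Fin 4) F) * (ct : Matrix (Fin 4) (Fin 4) F) *
          ((cs : Matrix (Fin 4) (Fin 4) F) * (ct : Matrix (Fin 4) (Fin 4) F)) = 1
        have hSS : (s : Matrix (Fin 4) (Fin 4) F) *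
            ((s⁻¹ : GL (Fin 4) F) : Matrix (Fin 4) (Fin 4) F) = 1 := by
          rw [← hcoe, mul_inv_cancel]; rfl
        have hM : (cs : Matrix (Fin 4) (Fin 4) F) * (s : Matrix (Fin 4) (Fin 4) F) *
            (ct : Matrix (Fin 4) (Fin 4) F) * ((s⁻¹ : GL (Fin 4) F) : Matrix (Fin 4) (Fin 4) F) =
            -((cs : Matrix (Fin 4) (Fin 4) F) * (ct : Matrix (Fin 4) (Fin 4) F)) := by
          calc (cs : Matrix (Fin 4) (Fin 4) F) * (s : Matrix (Fin 4) (Fin 4) F) *
                (ct : Matrix (Fin 4) (Fin 4) F) * ((s⁻¹ : GL (Fin 4) F) : Matrix (Fin 4) (Fin 4) F)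
              = (cs : Matrix (Fin 4) (Fin 4) F) * ((s : Matrix (Fin 4) (Fin 4) F) *
                (ct : Matrix (Fin 4) (Fin 4) F)) *
                  ((s⁻¹ : GL (Fin 4) F) : Matrix (Fin 4) (Fin 4) F) := by
                simp only [Matrix.mul_assoc]
            _ = (cs : Matrix (Fin 4) (Fin 4) F) * (-((ct : Matrix (Fin 4) (Fin 4) F) *
                (s : Matrix (Fin 4) (Fin 4) F))) *
                  ((s⁻¹ : GL (Fin 4) F) : Matrix (Fin 4) (Fin 4) F) := by rw [h]
            _ = -((cs : Matrix (Fin 4) (Fin 4) F) * (ct : Matrix (Fin 4) (Fin 4) F) *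
                ((s : Matrix (Fin 4) (Fin 4) F) *
                  ((s⁻¹ : GL (Fin 4) F) : Matrix (Fin 4) (Fin 4) F))) := by
                simp only [Matrix.mul_neg, Matrix.neg_mul, Matrix.mul_assoc]
            _ = -((cs : Matrix (Fin 4) (Fin 4) F) * (ct : Matrix (Fin 4) (Fin 4) F)) := by
                rw [hSS, Matrix.mul_one]
        have hm : (cs : Matrix (Fin 4) (Fin 4) F) * (s : Matrix (Fin 4) (Fin 4) F) *
            (ct : Matrix (Fin 4) (Fin 4) F) * ((s⁻¹ : GL (Fin 4) F) : Matrix (Fin 4) (Fin 4) F) *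
            ((cs : Matrix (Fin 4) (Fin 4) F) * (s : Matrix (Fin 4) (Fin 4) F) *
            (ct : Matrix (Fin 4) (Fin 4) F) * ((s⁻¹ : GL (Fin 4) F) : Matrix (Fin 4) (Fin 4) F)) = 1 :=
          congrArg (fun g : GL (Fin 4) F => (g : Matrix (Fin 4) (Fin 4) F)) hcst2
        rw [hM, neg_mul_neg] at hm
        exact hm
    have hfin : ct * cs = cs * ct := by
      calc ct * cs = (cs * cs) * (ct * cs) * (ct * ct) := by rw [hcs2, hct2, one_mul, mul_one]
        _ = cs * ((cs * ct) * (cs * ct)) * ct := by group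
        _ = cs * ct := by rw [hprod, mul_one]
    exact hfin.symm
  -- y commutes with c(s)
  have hyc : ∀ s ∈ R, y * (y * s * y⁻¹ * s⁻¹) = (y * s * y⁻¹ * s⁻¹) * y := by
    intro s hs
    obtain ⟨haR, -, -⟩ := facts s hs
    obtain ⟨a, ha⟩ : ∃ a : GL (Fin 4) F, a = y * s * y⁻¹ * s⁻¹ := ⟨_, rfl⟩
    rw [← ha] at haR ⊢
    obtain ⟨hdR, -, hdscal⟩ := facts a haR
    obtain ⟨d, hd⟩ : ∃ d : GL (Fin 4) F, d = y * a * y⁻¹ * a⁻¹ := ⟨_, rfl⟩
    rw [← hd] at hdR hdscal
    have hdb : ∀ b ∈ R, d * b = b * d := by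
      intro b hb
      obtain ⟨heR, -, -⟩ := facts b hb
      have hae : a * (y * b * y⁻¹ * b⁻¹) = (y * b * y⁻¹ * b⁻¹) * a := by
        rw [ha]; exact hcc s hs b hb
      have hde : d * (y * b * y⁻¹ * b⁻¹) = (y * b * y⁻¹ * b⁻¹) * d := by
        rw [hd]; exact hcc a haR b hb
      obtain ⟨e, he⟩ : ∃ e : GL (Fin 4) F, e = y * b * y⁻¹ * b⁻¹ := ⟨_, rfl⟩
      rw [← he] at heR hae hde
      have hda : d * a = y * a * y⁻¹ := by rw [hd]; group
      have heb : e * b = y * b * y⁻¹ := by rw [he]; group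
      have g1 : d * e * (a * b) = y * (a * b) * y⁻¹ := by
        calc d * e * (a * b) = d * (e * a) * b := by group
          _ = d * (a * e) * b := by rw [hae]
          _ = (d * a) * (e * b) := by group
          _ = y * (a * b) * y⁻¹ := by rw [hda, heb]; group
      have g2 : e * b * (d * a) = y * (b * a) * y⁻¹ := by rw [hda, heb]; group
      have key : d * e * (b * a) = e * b * (d * a) := by
        rcases hG.comm a haR b hb with h | h
        · have hab : a * b = b * a := hext _ _ (by rw [hcoe, hcoe]; exact h)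
          rw [g2, ← hab, g1]
        · apply hext
          have m1 : (d : Matrix (Fin 4) (Fin 4) F) * (e : Matrix (Fin 4) (Fin 4) F) *
              ((a : Matrix (Fin 4) (Fin 4) F) * (b : Matrix (Fin 4) (Fin 4) F)) =
              (y : Matrix (Fin 4) (Fin 4) F) * ((a : Matrix (Fin 4) (Fin 4) F) *
                (b : Matrix (Fin 4) (Fin 4) F)) *
                ((y⁻¹ : GL (Fin 4) F) : Matrix (Fin 4) (Fin 4) F) :=
            congrArg (fun g : GL (Fin 4) F => (g : Matrix (Fin 4) (Fin 4) F)) g1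
          have m2 : (e : Matrix (Fin 4) (Fin 4) F) * (b : Matrix (Fin 4) (Fin 4) F) *
              ((d : Matrix (Fin 4) (Fin 4) F) * (a : Matrix (Fin 4) (Fin 4) F)) =
              (y : Matrix (Fin 4) (Fin 4) F) * ((b : Matrix (Fin 4) (Fin 4) F) *
                (a : Matrix (Fin 4) (Fin 4) F)) *
                ((y⁻¹ : GL (Fin 4) F) : Matrix (Fin 4) (Fin 4) F) :=
            congrArg (fun g : GL (Fin 4) F => (g : Matrix (Fin 4) (Fin 4) F)) g2
          have hba : (b : Matrix (Fin 4) (Fin 4) F) * (a : Matrix (Fin 4) (Fin 4) F) =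
              -((a : Matrix (Fin 4) (Fin 4) F) * (b : Matrix (Fin 4) (Fin 4) F)) := by
            rw [h, neg_neg]
          show (d : Matrix (Fin 4) (Fin 4) F) * (e : Matrix (Fin 4) (Fin 4) F) *
              ((b : Matrix (Fin 4) (Fin 4) F) * (a : Matrix (Fin 4) (Fin 4) F)) =
            (e : Matrix (Fin 4) (Fin 4) F) * (b : Matrix (Fin 4) (Fin 4) F) *
              ((d : Matrix (Fin 4) (Fin 4) F) * (a : Matrix (Fin 4) (Fin 4) F))
          rw [m2, hba]
          simp only [Matrix.mul_neg, Matrix.neg_mul]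
          rw [m1]
      have k1 : d * e * b * a = e * b * d * a := by
        calc d * e * b * a = d * e * (b * a) := by group
          _ = e * b * (d * a) := key
          _ = e * b * d * a := by group
      have k2 : d * e * b = e * b * d := mul_right_cancel k1
      have k3 : e * (d * b) = e * (b * d) := by
        calc e * (d * b) = (e * d) * b := by group
          _ = (d * e) * b := by rw [hde]
          _ = e * b * d := k2
          _ = e * (b * d) := by group
      exact mul_left_cancel k3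
    obtain ⟨e0, he0⟩ := hG.schur (d : Matrix (Fin 4) (Fin 4) F) (fun b hb =>
      congrArg (fun g : GL (Fin 4) F => (g : Matrix (Fin 4) (Fin 4) F)) (hdb b hb))
    have hd1 : d = 1 := hdscal e0 he0
    rw [hd] at hd1
    calc y * a = (y * a * y⁻¹ * a⁻¹) * a * y := by group
      _ = a * y := by rw [hd1, one_mul]
  -- y * y commutes with s
  intro s hs
  obtain ⟨hcR, hcc', -⟩ := facts s hs
  have hyc1 := hyc s hs
  obtain ⟨c, hc⟩ : ∃ c : GL (Fin 4) F, c = y * s * y⁻¹ * s⁻¹ := ⟨_, rfl⟩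
  rw [← hc] at hcR hcc' hyc1
  have hys : y * s = c * s * y := by rw [hc]; group
  have hyy : (y * y) * s = s * (y * y) := by
    calc y * y * s = y * (y * s) := by group
      _ = y * (c * s * y) := by rw [hys]
      _ = (y * c) * s * y := by group
      _ = c * (y * s) * y := by rw [hyc1]; group
      _ = c * (c * s * y) * y := by rw [hys]
      _ = (c * c) * s * y * y := by group
      _ = s * (y * y) := by rw [hcc']; group
  obtain ⟨j, hj⟩ := hk
  have hy' : y = (y * y) ^ (j + 1) := by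
    have h8 : (y * y) ^ (j + 1) = y ^ k * y := by
      rw [hj, ← pow_two, ← pow_mul, ← pow_succ]
      congr 1
    rw [h8, hyk, one_mul]
  have hcm : Commute (y * y) s := hyy
  have h9 := hcm.pow_left (j + 1)
  rw [← hy'] at h9
  exact h9

end Cfsg.Agent.Lib.helper89.S60
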