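import Mathlib
import Cfsg.Agent.Lib.helper24.S6eDefs

set_option autoImplicit false

namespace Cfsg.Agent.Lib.helper24

open Matrix Cfsg Cfsg.Geo

/-- Two linear equations in four unknowns have a non-zero solution. -/
theorem helper25_exists_orth {F : Type*} [Field F] (a b : S6I → F) :
    ∃ x : S6I → F, x ≠ 0 ∧ a ⬝ᵥ x = 0 ∧ b ⬝ᵥ x = 0 := by
  let f : (S6I → F) →ₗ[F] (Fin 2 → F) :=
    { toFun := fun x => ![a ⬝ᵥ x, b ⬝ᵥ x]
      map_add' := by
        intro x y
        ext i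
        fin_cases i <;> simp [dotProduct_add]
      map_smul' := by
        intro c x
        ext i
        fin_cases i <;> simp [dotProduct_smul] }
  have h : LinearMap.ker f ≠ ⊥ := by
    apply LinearMap.ker_ne_bot_of_finrank_lt
    simp
  obtain ⟨x, hx, hx0⟩ := (Submodule.ne_bot_iff _).1 h
  have hfx : f x = 0 := LinearMap.mem_ker.1 hx
  refine ⟨x, hx0, ?_, ?_⟩
  · have := congrFun hfx 0
    simpa [f] using this
  · have := congrFun hfx 1
    simpa [f] using this

/-- If `Y = 1 + u wᵀ` and `Y S = C S Y` with `S` invertible, then `1 - C` is not invertible. -/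
theorem helper25_transv_aux {F : Type*} [Field F] (Y S C : Matrix S6I S6I F) (u w : S6I → F)
    (hY : Y = 1 + Matrix.vecMulVec u w) (Si : Matrix S6I S6I F) (hSi : Si * S = 1)
    (hrel : Y * S = C * S * Y) (D : Matrix S6I S6I F) (hD : D * (1 - C) = 1) : False := by
  obtain ⟨x, hx0, hx1, hx2⟩ := helper25_exists_orth w (w ᵥ* S)
  have hx2' : w ⬝ᵥ (S *ᵥ x) = 0 := by rw [Matrix.dotProduct_mulVec]; exact hx2
  have hYv : ∀ v : S6I → F, w ⬝ᵥ v = 0 → Y *ᵥ v = v := by
    intro v hv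
    rw [hY, Matrix.add_mulVec, Matrix.one_mulVec, Matrix.vecMulVec_mulVec, hv]
    simp
  have h1 : (Y * S) *ᵥ x = S *ᵥ x := by
    rw [← Matrix.mulVec_mulVec, hYv _ hx2']
  have h2 : (C * S * Y) *ᵥ x = C *ᵥ (S *ᵥ x) := by
    rw [← Matrix.mulVec_mulVec, hYv _ hx1, ← Matrix.mulVec_mulVec]
  have h3 : (1 - C) *ᵥ (S *ᵥ x) = 0 := by
    rw [Matrix.sub_mulVec, Matrix.one_mulVec, ← h2, ← hrel, h1, sub_self]
  have h4 : S *ᵥ x = 0 := by
    have h5 : (D * (1 - C)) *ᵥ (S *ᵥ x) = 0 := by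
      rw [← Matrix.mulVec_mulVec, h3, Matrix.mulVec_zero]
    rw [hD, Matrix.one_mulVec] at h5
    exact h5
  apply hx0
  have h6 : (Si * S) *ᵥ x = 0 := by
    rw [← Matrix.mulVec_mulVec, h4, Matrix.mulVec_zero]
  rw [hSi, Matrix.one_mulVec] at h6
  exact h6

/-- The commutator `c(s) = y s y⁻¹ s⁻¹` of a transvection-like `y` normalizing `R` with `s ∈ R`
lies in `R`, is an involution and is not `-1`. -/
theorem helper25_comm_facts {F : Type*} [Field F] (h2 : (2 : F) ≠ 0) (R : Subgroup (GL S6I F))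
    (hG : S6Good R) (y : GL S6I F) (hy : y ∈ subgroupNormalizer R)
    (u w : S6I → F) (hyu : (y : Matrix S6I S6I F) = 1 + Matrix.vecMulVec u w)
    (s : GL S6I F) (hs : s ∈ R) :
    y * s * y⁻¹ * s⁻¹ ∈ R ∧
      ((y * s * y⁻¹ * s⁻¹ : GL S6I F) : Matrix S6I S6I F) *
        ((y * s * y⁻¹ * s⁻¹ : GL S6I F) : Matrix S6I S6I F) = 1 ∧
      ((y * s * y⁻¹ * s⁻¹ : GL S6I F) : Matrix S6I S6I F) ≠ -1 := by
  have hcR : y * s * y⁻¹ * s⁻¹ ∈ R := by
    have h1 : y * s * y⁻¹ ∈ R := (Subgroup.mem_normalizer_iff.1 hy s).1 hs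
    exact R.mul_mem h1 (R.inv_mem hs)
  obtain ⟨c, hc⟩ : ∃ c : GL S6I F, c = y * s * y⁻¹ * s⁻¹ := ⟨_, rfl⟩
  rw [← hc] at hcR ⊢
  have hrel : (y : Matrix S6I S6I F) * (s : Matrix S6I S6I F) =
      (c : Matrix S6I S6I F) * (s : Matrix S6I S6I F) * (y : Matrix S6I S6I F) := by
    have : y * s = c * s * y := by rw [hc]; group
    have h' := congrArg (fun g : GL S6I F => (g : Matrix S6I S6I F)) this
    simpa using h'
  have hSi : ((s⁻¹ : GL S6I F) : Matrix S6I S6I F) * (s : Matrix S6I S6I F) = 1 := by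
    have : s⁻¹ * s = 1 := inv_mul_cancel s
    have h' := congrArg (fun g : GL S6I F => (g : Matrix S6I S6I F)) this
    simpa using h'
  have h2' : (2 : F)⁻¹ * 2 = 1 := inv_mul_cancel₀ h2
  have key : ∀ D : Matrix S6I S6I F, D * (1 - (c : Matrix S6I S6I F)) = 1 → False :=
    fun D hD => helper25_transv_aux _ _ _ u w hyu _ hSi hrel D hD
  have hne : (c : Matrix S6I S6I F) ≠ -1 := by
    intro h
    apply key ((2 : F)⁻¹ • (1 : Matrix S6I S6I F))
    rw [h, sub_neg_eq_add, Matrix.smul_mul, Matrix.one_mul, ← two_smul F (1 : Matrix S6I S6I F),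
      smul_smul, h2', one_smul]
  refine ⟨hcR, ?_, hne⟩
  rcases hG.sq c hcR with h | h
  · exact h
  · exfalso
    apply key ((2 : F)⁻¹ • (1 + (c : Matrix S6I S6I F)))
    rw [Matrix.smul_mul]
    have : (1 + (c : Matrix S6I S6I F)) * (1 - (c : Matrix S6I S6I F)) =
        (2 : F) • (1 : Matrix S6I S6I F) := by
      rw [Matrix.add_mul, Matrix.mul_sub, Matrix.mul_sub, h, two_smul]
      simp
      abel
    rw [this, smul_smul, h2', one_smul]

/-- BTV (L). -/
theorem s6_transv_central {F : Type*} [Field F] [Fintype F] (h2 : (2 : F) ≠ 0) (R : Subgroup (GL S6I F)) (hG : S6Good R)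
    (y : GL S6I F) (hy : y ∈ subgroupNormalizer R) (k : ℕ) (hk : Odd k) (hyk : y ^ k = 1)
    (u w : S6I → F) (hyu : (y : Matrix S6I S6I F) = 1 + Matrix.vecMulVec u w) :
    ∀ s ∈ R, y * s = s * y := by
  have hcoe : ∀ a b : GL S6I F, ((a * b : GL S6I F) : Matrix S6I S6I F) =
      (a : Matrix S6I S6I F) * (b : Matrix S6I S6I F) := fun a b => rfl
  have hext : ∀ a b : GL S6I F, (a : Matrix S6I S6I F) = (b : Matrix S6I S6I F) → a = b :=
    fun a b h => Units.ext h
  have facts := fun s hs => helper25_comm_facts h2 R hG y hy u w hyu s hs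
  -- c(s) commutes with s
  have hcomm : ∀ s ∈ R, (y * s * y⁻¹ * s⁻¹) * s = s * (y * s * y⁻¹ * s⁻¹) := by
    intro s hs
    obtain ⟨hcR, hcc, hcne⟩ := facts s hs
    obtain ⟨c, hc⟩ : ∃ c : GL S6I F, c = y * s * y⁻¹ * s⁻¹ := ⟨_, rfl⟩
    rw [← hc] at hcR hcc hcne ⊢
    have hcc' : c * c = 1 := hext _ _ (by rw [hcoe]; exact hcc)
    have hss : y * (s * s) = (s * s) * y := by
      rcases hG.sq s hs with h | h
      · have : s * s = 1 := hext _ _ (by rw [hcoe]; exact h)
        rw [this, mul_one, one_mul]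
      · apply hext
        simp only [hcoe]
        rw [h]
        simp
    have h1 : c * s = y * s * y⁻¹ := by rw [hc]; group
    have h3 : (c * s) * (c * s) = s * s := by
      rw [h1]
      calc y * s * y⁻¹ * (y * s * y⁻¹) = y * (s * s) * y⁻¹ := by group
        _ = s * s := by rw [hss]; group
    have h4 : c * s * c = s := by
      have : c * s * c * s = s * s := by rw [← h3]; group
      exact mul_right_cancel this
    calc c * s = c * (c * s * c) := by rw [h4]
      _ = (c * c) * s * c := by group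
      _ = s * c := by rw [hcc', one_mul]
  -- y commutes with c(s)
  have hyc : ∀ s ∈ R, y * (y * s * y⁻¹ * s⁻¹) = (y * s * y⁻¹ * s⁻¹) * y := by
    intro s hs
    obtain ⟨hcR, hcc, hcne⟩ := facts s hs
    obtain ⟨c, hc⟩ : ∃ c : GL S6I F, c = y * s * y⁻¹ * s⁻¹ := ⟨_, rfl⟩
    rw [← hc] at hcR hcc hcne ⊢
    by_cases hc1 : c = 1
    · rw [hc1, mul_one, one_mul]
    obtain ⟨hdR, hdd, hdne⟩ := facts c hcR
    have hdc := hcomm c hcR
    obtain ⟨d, hd⟩ : ∃ d : GL S6I F, d = y * c * y⁻¹ * c⁻¹ := ⟨_, rfl⟩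
    rw [← hd] at hdR hdd hdne hdc
    by_cases hd1 : d = 1
    · rw [hd] at hd1
      calc y * c = (y * c * y⁻¹ * c⁻¹) * c * y := by group
        _ = c * y := by rw [hd1, one_mul]
    exfalso
    have hc1' : (c : Matrix S6I S6I F) ≠ 1 := fun h => hc1 (hext _ _ h)
    have hd1' : (d : Matrix S6I S6I F) ≠ 1 := fun h => hd1 (hext _ _ h)
    have hcd : (c : Matrix S6I S6I F) * (d : Matrix S6I S6I F) =
        (d : Matrix S6I S6I F) * (c : Matrix S6I S6I F) := by
      rw [← hcoe, ← hcoe, hdc]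
    have hyc' : y * c * y⁻¹ = d * c := by rw [hd]; group
    rcases hG.anti c hcR d hdR hcc hdd hc1' hcne hd1' hdne hcd with h | h
    · have hdc' : d = c := hext _ _ h
      have h5 : y * c * y⁻¹ = 1 := by
        rw [hyc', hdc']
        exact hext _ _ (by rw [hcoe]; exact hcc)
      apply hc1
      calc c = y⁻¹ * (y * c * y⁻¹) * y := by group
        _ = 1 := by rw [h5]; group
    · apply hcne
      have h5 : ((y * c * y⁻¹ : GL S6I F) : Matrix S6I S6I F) = -1 := by
        rw [hyc', hcoe, h, Matrix.neg_mul, hcc]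
      have h6 : c = y⁻¹ * (y * c * y⁻¹) * y := by group
      have h7 : ((y⁻¹ : GL S6I F) : Matrix S6I S6I F) * (y : Matrix S6I S6I F) = 1 := by
        rw [← hcoe, inv_mul_cancel]; rfl
      rw [h6, hcoe, hcoe, h5, Matrix.mul_neg, Matrix.mul_one, Matrix.neg_mul, h7]
  -- y * y commutes with s
  intro s hs
  obtain ⟨hcR, hcc, hcne⟩ := facts s hs
  have hyc1 := hyc s hs
  obtain ⟨c, hc⟩ : ∃ c : GL S6I F, c = y * s * y⁻¹ * s⁻¹ := ⟨_, rfl⟩
  rw [← hc] at hcR hcc hcne hyc1
  have hcc' : c * c = 1 := hext _ _ (by rw [hcoe]; exact hcc)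
  have hys : y * s = c * s * y := by rw [hc]; group
  have hyy : (y * y) * s = s * (y * y) := by
    calc y * y * s = y * (y * s) := by group
      _ = y * (c * s * y) := by rw [hys]
      _ = (y * c) * s * y := by group
      _ = c * (y * s) * y := by rw [hyc1]; group
      _ = c * (c * s * y) * y := by rw [hys]
      _ = (c * c) * s * y * y := by group
      _ = s * (y * y) := by rw [hcc']; group
  obtain ⟨j, hj⟩ := hk
  have hy' : y = (y * y) ^ (j + 1) := by
    have h8 : (y * y) ^ (j + 1) = y ^ k * y := by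
      rw [hj, ← pow_two, ← pow_mul, ← pow_succ]
      congr 1
    rw [h8, hyk, one_mul]
  have hcm : Commute (y * y) s := hyy
  have h9 := hcm.pow_left (j + 1)
  rw [← hy'] at h9
  exact h9

end Cfsg.Agent.Lib.helper24
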