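import Mathlib
import Cfsg.Agent.Lib.helper24.S6eDefs

set_option autoImplicit false

namespace Cfsg.Agent.Lib.helper24

open Matrix Cfsg Cfsg.Geo

theorem helper25_s6Emb_apply_ll {F : Type*} [Field F] (A : Matrix (Fin 2) (Fin 2) F) (i j : Fin 2) :
    s6Emb A (Sum.inl i) (Sum.inl j) = Matrix.diagonal ![A 0 0, 1] i j := rfl

theorem helper25_s6Emb_apply_lr {F : Type*} [Field F] (A : Matrix (Fin 2) (Fin 2) F) (i j : Fin 2) :
    s6Emb A (Sum.inl i) (Sum.inr j) = Matrix.diagonal ![A 0 1, 0] i j := rfl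

theorem helper25_s6Emb_apply_rl {F : Type*} [Field F] (A : Matrix (Fin 2) (Fin 2) F) (i j : Fin 2) :
    s6Emb A (Sum.inr i) (Sum.inl j) = Matrix.diagonal ![A 1 0, 0] i j := rfl

theorem helper25_s6Emb_apply_rr {F : Type*} [Field F] (A : Matrix (Fin 2) (Fin 2) F) (i j : Fin 2) :
    s6Emb A (Sum.inr i) (Sum.inr j) = Matrix.diagonal ![A 1 1, 1] i j := rfl

theorem helper25_s6Emb_mul {F : Type*} [Field F] (A B : Matrix (Fin 2) (Fin 2) F) :
    s6Emb (A * B) = s6Emb A * s6Emb B := by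
  ext i j
  rcases i with i | i <;> rcases j with j | j <;> fin_cases i <;> fin_cases j <;>
    simp [Matrix.mul_apply, Fintype.sum_sum_type, Fin.sum_univ_two, helper25_s6Emb_apply_ll,
      helper25_s6Emb_apply_lr, helper25_s6Emb_apply_rl, helper25_s6Emb_apply_rr]

theorem helper25_s6Emb_one {F : Type*} [Field F] :
    s6Emb (1 : Matrix (Fin 2) (Fin 2) F) = 1 := by
  ext i j
  rcases i with i | i <;> rcases j with j | j <;> fin_cases i <;> fin_cases j <;>
    simp [helper25_s6Emb_apply_ll,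
      helper25_s6Emb_apply_lr, helper25_s6Emb_apply_rl, helper25_s6Emb_apply_rr, Matrix.one_apply]

theorem helper25_s6Emb_trace {F : Type*} [Field F] (A : Matrix (Fin 2) (Fin 2) F) :
    Matrix.trace (s6Emb A) = Matrix.trace A + 2 := by
  simp only [Matrix.trace, Matrix.diag, Fintype.sum_sum_type, Fin.sum_univ_two,
    helper25_s6Emb_apply_ll, helper25_s6Emb_apply_rr]
  simp
  ring

theorem helper25_s6Emb_form {F : Type*} [Field F] (A : Matrix (Fin 2) (Fin 2) F) (hdet : A.det = 1)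
    (u v : S6I → F) : sympForm 2 F (s6Emb A *ᵥ u) (s6Emb A *ᵥ v) = sympForm 2 F u v := by
  rw [Matrix.det_fin_two] at hdet
  simp only [sympForm, dotProduct, Matrix.mulVec, Fintype.sum_sum_type, Fin.sum_univ_two,
    helper25_s6Emb_apply_ll, helper25_s6Emb_apply_lr, helper25_s6Emb_apply_rl,
    helper25_s6Emb_apply_rr, Matrix.J, Matrix.fromBlocks_apply₁₁, Matrix.fromBlocks_apply₁₂,
    Matrix.fromBlocks_apply₂₁, Matrix.fromBlocks_apply₂₂]
  simp
  linear_combination (u (Sum.inr 0) * v (Sum.inl 0) - u (Sum.inl 0) * v (Sum.inr 0)) * hdet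

theorem helper25_s6Emb_not_scalar {F : Type*} [Field F] (A : Matrix (Fin 2) (Fin 2) F)
    (hA : A ≠ 1) (z : F) : s6Emb A ≠ z • (1 : Matrix S6I S6I F) := by
  intro h
  apply hA
  have e := fun i j => congrFun (congrFun h i) j
  have h11 := e (Sum.inl 1) (Sum.inl 1)
  have h00 := e (Sum.inl 0) (Sum.inl 0)
  have h01 := e (Sum.inl 0) (Sum.inr 0)
  have h10 := e (Sum.inr 0) (Sum.inl 0)
  have h22 := e (Sum.inr 0) (Sum.inr 0)
  simp [helper25_s6Emb_apply_ll, helper25_s6Emb_apply_lr, helper25_s6Emb_apply_rl,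
    helper25_s6Emb_apply_rr] at h11 h00 h01 h10 h22
  ext i j
  fin_cases i <;> fin_cases j <;> simp [h00, h01, h10, h22, ← h11]

/-- E2 (M). -/
theorem s6_emb_facts {F : Type*} [Field F] (A B : Matrix (Fin 2) (Fin 2) F) :
    s6Emb (A * B) = s6Emb A * s6Emb B ∧ s6Emb (1 : Matrix (Fin 2) (Fin 2) F) = 1 ∧
    Matrix.trace (s6Emb A) = Matrix.trace A + 2 ∧
    (A.det = 1 → ∀ u v : S6I → F, sympForm 2 F (s6Emb A *ᵥ u) (s6Emb A *ᵥ v) = sympForm 2 F u v) ∧
    (A ≠ 1 → ∀ z : F, s6Emb A ≠ z • (1 : Matrix S6I S6I F)) :=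
  ⟨helper25_s6Emb_mul A B, helper25_s6Emb_one, helper25_s6Emb_trace A,
    fun hdet u v => helper25_s6Emb_form A hdet u v, fun hA z => helper25_s6Emb_not_scalar A hA z⟩

end Cfsg.Agent.Lib.helper24
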