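import Mathlib
import Cfsg.Agent.Lib.helper53.SM_W1

/-! S0892 split, pieces O3 + O4 (insurance copies under prefixed names): products of involutions
and the `A₄` relation for a central extension with kernel of odd order. -/

set_option autoImplicit false

namespace Cfsg.Agent.Lib.helper70.SM

universe u

/-- An element of square one in a kernel of odd order is trivial. -/
theorem h25_ker_sq_one {Γ : Type u} [Group Γ] [Finite Γ] {P : Type*} [Group P] (π : Γ →* P)
    (hodd : Odd (Nat.card π.ker)) (g : Γ) (hg : g ∈ π.ker) (h2 : g ^ 2 = 1) : g = 1 := by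
  have h1 : orderOf (⟨g, hg⟩ : π.ker) ∣ Nat.card π.ker := orderOf_dvd_natCard _
  have h3 : orderOf (⟨g, hg⟩ : π.ker) ∣ 2 :=
    orderOf_dvd_of_pow_eq_one (Subtype.ext (by simpa using h2))
  have h4 : orderOf (⟨g, hg⟩ : π.ker) = 1 := by
    rcases (Nat.dvd_prime Nat.prime_two).mp h3 with h | h
    · exact h
    · exfalso
      rw [h] at h1
      exact (Nat.not_even_iff_odd.mpr hodd) (even_iff_two_dvd.mpr h1)
  have h5 := orderOf_eq_one_iff.mp h4
  exact congrArg Subtype.val h5

/-- O3 (Lemma R: products of involutions, odd kernel). -/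
theorem h25_odd_invol_pow {Γ : Type u} [Group Γ] [Finite Γ] {P : Type*} [Group P] (π : Γ →* P)
    (hc : π.ker ≤ Subgroup.center Γ) (hodd : Odd (Nat.card π.ker))
    (u v : Γ) (hu : u ^ 2 = 1) (hv : v ^ 2 = 1) (m : ℕ) (h : (π u * π v) ^ m = 1) :
    (u * v) ^ m = 1 := by
  have hbK : (u * v) ^ m ∈ π.ker := by rw [MonoidHom.mem_ker, map_pow, map_mul, h]
  have hbc := hc hbK
  have huu : u * u = 1 := by rw [← pow_two]; exact hu
  have hvv : v * v = 1 := by rw [← pow_two]; exact hv
  have hui : u⁻¹ = u := inv_eq_of_mul_eq_one_left huu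
  have hvi : v⁻¹ = v := inv_eq_of_mul_eq_one_left hvv
  have h1 : u * (u * v) ^ m * u⁻¹ = ((u * v)⁻¹) ^ m := by
    rw [← conj_pow]
    congr 1
    rw [mul_inv_rev, hui, hvi, ← mul_assoc, huu, one_mul]
  have h2 : u * (u * v) ^ m * u⁻¹ = (u * v) ^ m := by
    rw [Subgroup.mem_center_iff] at hbc
    rw [hbc u, mul_inv_cancel_right]
  have hb : (u * v) ^ m = ((u * v) ^ m)⁻¹ := by
    rw [← inv_pow]
    exact h2.symm.trans h1
  have h3 : ((u * v) ^ m) ^ 2 = 1 := by
    rw [pow_two]
    nth_rewrite 2 [hb]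
    exact mul_inv_cancel _
  exact h25_ker_sq_one π hodd _ hbK h3

/-- O4 (the `A₄` relation, odd kernel). -/
theorem h25_odd_a4 {Γ : Type u} [Group Γ] [Finite Γ] {P : Type*} [Group P] (π : Γ →* P)
    (hc : π.ker ≤ Subgroup.center Γ) (hodd : Odd (Nat.card π.ker))
    (a b : Γ) (ha : a ^ 3 = 1) (hb : b ^ 2 = 1) (hab : (π a * π b) ^ 3 = 1) :
    (a * b) ^ 3 = 1 := by
  obtain ⟨v, hv⟩ : ∃ v, v = a * b * a⁻¹ := ⟨_, rfl⟩
  obtain ⟨w, hw⟩ : ∃ w, w = a * v * a⁻¹ := ⟨_, rfl⟩
  have hv2 : v ^ 2 = 1 := by rw [hv, conj_pow, hb, mul_one, mul_inv_cancel]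
  have hw2 : w ^ 2 = 1 := by rw [hw, conj_pow, hv2, mul_one, mul_inv_cancel]
  have ha3 : a * a * a = 1 := by
    rw [← ha, pow_succ, pow_succ, pow_one]
  have e1 : a⁻¹ * a⁻¹ = a := by
    rw [← mul_inv_rev]
    exact inv_eq_of_mul_eq_one_right ha3
  have hawa : a * w * a⁻¹ = b := by
    rw [hw, hv]
    have h : a * (a * (a * b * a⁻¹) * a⁻¹) * a⁻¹ = (a * a * a) * b * (a * a * a)⁻¹ := by group
    rw [h, ha3]
    group
  have hβ : (a * b) ^ 3 = v * w * b := by
    rw [hw, hv]
    have e2 : a * b * a⁻¹ * (a * (a * b * a⁻¹) * a⁻¹) * b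
        = a * b * a * b * (a⁻¹ * a⁻¹) * b := by group
    rw [e2, e1, pow_succ, pow_succ, pow_one]
    simp only [mul_assoc]
  have hφb : MulAut.conj a b = v := by rw [MulAut.conj_apply, hv]
  have hφv : MulAut.conj a v = w := by rw [MulAut.conj_apply, hw]
  have hφw : MulAut.conj a w = b := by rw [MulAut.conj_apply]; exact hawa
  -- `b` and `v` commute
  have hW1 := a4_comm (π a) (π b) (by rw [← map_pow, ha, map_one]) (by rw [← map_pow, hb, map_one])
    hab
  have hπv : π v = π a * π b * (π a)⁻¹ := by rw [hv, map_mul, map_mul, map_inv]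
  have hπuv : (π b * π v) ^ 2 = 1 := by
    have hX2 : π v * π v = 1 := by rw [← map_mul, ← pow_two, hv2, map_one]
    have hb2 : π b * π b = 1 := by rw [← map_mul, ← pow_two, hb, map_one]
    have hW1' : π b * π v = π v * π b := by rw [hπv]; exact hW1
    rw [pow_two]
    calc π b * π v * (π b * π v) = π b * (π v * π b) * π v := by group
      _ = π b * (π b * π v) * π v := by rw [← hW1']
      _ = (π b * π b) * (π v * π v) := by group
      _ = 1 := by rw [hb2, hX2, one_mul]
  have huv : (b * v) ^ 2 = 1 := h25_odd_invol_pow π hc hodd b v hb hv2 2 hπuv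
  have hbb : b * b = 1 := by rw [← pow_two]; exact hb
  have hvv : v * v = 1 := by rw [← pow_two]; exact hv2
  have hww : w * w = 1 := by rw [← pow_two]; exact hw2
  have hbi : b⁻¹ = b := inv_eq_of_mul_eq_one_left hbb
  have hvi : v⁻¹ = v := inv_eq_of_mul_eq_one_left hvv
  have hcomm_bv : b * v = v * b := by
    have h := inv_eq_of_mul_eq_one_left (by rw [← pow_two]; exact huv : (b * v) * (b * v) = 1)
    rw [mul_inv_rev, hvi, hbi] at h
    exact h.symm
  have hcomm_vw : v * w = w * v := by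
    rw [← hφb, ← hφv, ← map_mul, ← map_mul, hcomm_bv]
  have hcomm_wb : w * b = b * w := by
    rw [← hφv, ← hφw, ← map_mul, ← map_mul, hcomm_vw]
  have hβ2 : (v * w * b) ^ 2 = 1 := by
    rw [pow_two]
    calc v * w * b * (v * w * b) = v * w * (b * v) * w * b := by group
      _ = v * w * (v * b) * w * b := by rw [hcomm_bv]
      _ = v * (w * v) * (b * w) * b := by group
      _ = v * (v * w) * (w * b) * b := by rw [← hcomm_vw, ← hcomm_wb]
      _ = (v * v) * (w * w) * (b * b) := by group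
      _ = 1 := by rw [hvv, hww, hbb, one_mul, one_mul]
  have hβK : v * w * b ∈ π.ker := by
    rw [← hβ, MonoidHom.mem_ker, map_pow, map_mul, hab]
  rw [hβ]
  exact h25_ker_sq_one π hodd _ hβK hβ2

end Cfsg.Agent.Lib.helper70.SM
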