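import Mathlib
import Cfsg.Agent.Lib.helper69.SNDefs
import Cfsg.Agent.S0182

/-!
# S4073 piece ODD, core (helper25): an `SN`-group of odd order is solvable, given the
`CA`-property of minimal simple `SN`-groups of odd order (piece ODD-CA) as a hypothesis.
-/

set_option autoImplicit false

namespace Cfsg.Agent.Lib.helper25.SNG

open Cfsg.Agent.Lib.helper69.SNG

universe u

/-- Core of **[ODD]**: strong induction on the order, with ODD-CA as a hypothesis. -/
theorem h25_odd_core
    (hCA : ∀ (G : Type u) [Group G] [Finite G] [IsSimpleGroup G], ¬ IsMulCommutative G → SN G →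
      Odd (Nat.card G) → (∀ K : Subgroup G, K ≠ ⊤ → Group.IsSolvable K) → ∀ x : G, x ≠ 1 →
      IsMulCommutative (Subgroup.centralizer ({x} : Set G))) :
    ∀ (n : ℕ) (G : Type u) [Group G] [Finite G], Nat.card G = n → SN G → Odd (Nat.card G) →
      Group.IsSolvable G := by
  intro n
  induction n using Nat.strong_induction_on with
  | _ n ih =>
    intro G _ _ hn h hodd
    by_cases hcomm : IsMulCommutative G
    · exact Group.isSolvable_of_comm (comm_iff_top.mp hcomm)
    have hsubcard : ∀ K : Subgroup G, K ≠ ⊤ → Nat.card K < n := by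
      intro K hK
      rw [← hn]
      exact lt_of_le_of_ne (Subgroup.card_le_card_group K)
        (fun he => hK (Subgroup.eq_top_of_card_eq K he))
    have hsub : ∀ K : Subgroup G, K ≠ ⊤ → Group.IsSolvable K := by
      intro K hK
      have hoddK : Odd (Nat.card K) := Odd.of_dvd_nat hodd (Subgroup.card_subgroup_dvd_card K)
      exact ih _ (hsubcard K hK) K rfl (h.subgroup K) hoddK
    by_cases hsimple : IsSimpleGroup G
    · apply Cfsg.Agent.S0182.result hodd
      intro x hx a ha b hb
      have hc := hCA G hcomm h hodd hsub x hx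
      exact (comm_iff _).mp hc a ha b hb
    · have hnt : Nontrivial G := by
        by_contra hc
        rw [not_nontrivial_iff_subsingleton] at hc
        exact hcomm ⟨⟨fun a b => Subsingleton.elim _ _⟩⟩
      have hex : ∃ N : Subgroup G, N.Normal ∧ N ≠ ⊥ ∧ N ≠ ⊤ := by
        by_contra hc
        push Not at hc
        apply hsimple
        exact
          { toNontrivial := hnt
            eq_bot_or_eq_top_of_normal := fun N hN => by
              by_cases hb : N = ⊥
              · exact Or.inl hb
              · exact Or.inr (hc N hN hb) }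
      obtain ⟨N, hNn, hNb, hNt⟩ := hex
      have hN : Group.IsSolvable N := hsub N hNt
      have hQ : Group.IsSolvable (G ⧸ N) := by
        have hcardQ : Nat.card (G ⧸ N) = N.index := rfl
        have hmul := N.card_mul_index
        have h1 : 1 < Nat.card N := N.one_lt_card_iff_ne_bot.mpr hNb
        have hpos : 0 < N.index := Nat.pos_of_ne_zero Subgroup.index_ne_zero_of_finite
        have hlt : Nat.card (G ⧸ N) < n := by
          rw [hcardQ, ← hn]
          nlinarith
        have hoddQ : Odd (Nat.card (G ⧸ N)) := by
          rw [hcardQ]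
          exact Odd.of_dvd_nat hodd (Subgroup.index_dvd_card N)
        exact ih _ hlt (G ⧸ N) rfl (h.quotient N) hoddQ
      exact Group.isSolvable_of_ker_le_range N.subtype (QuotientGroup.mk' N) (by simp)

/-- **[ODD]** relative to ODD-CA. -/
theorem h25_odd_of_ca
    (hCA : ∀ (G : Type u) [Group G] [Finite G] [IsSimpleGroup G], ¬ IsMulCommutative G → SN G →
      Odd (Nat.card G) → (∀ K : Subgroup G, K ≠ ⊤ → Group.IsSolvable K) → ∀ x : G, x ≠ 1 →
      IsMulCommutative (Subgroup.centralizer ({x} : Set G)))
    {G : Type u} [Group G] [Finite G] (h : SN G) (hodd : Odd (Nat.card G)) :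
    Group.IsSolvable G :=
  h25_odd_core hCA _ G rfl h hodd

end Cfsg.Agent.Lib.helper25.SNG
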