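import Mathlib
import Cfsg.Agent.Lib.helper69.SNDefs
import Cfsg.Agent.Lib.helper25.SNG_ODDcore
import Cfsg.Agent.Lib.helper43.SNG_ODDCA

/-!
# S4073 piece ODD (helper25): an `SN`-group of odd order is solvable.
-/

set_option autoImplicit false

namespace Cfsg.Agent.Lib.helper25.SNG

open Cfsg.Agent.Lib.helper69.SNG

universe u

/-- **[ODD]** (strong induction on the order; ODD-CA + `Cfsg.Agent.S0182.result`) -/
theorem sn_odd_solvable {G : Type u} [Group G] [Finite G] (h : SN G)
    (hodd : Odd (Nat.card G)) : Group.IsSolvable G :=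
  h25_odd_of_ca
    (fun G _ _ _ hna h hodd hsub x hx =>
      Cfsg.Agent.Lib.helper43.SNG.sn_odd_simple_ca hna h hodd hsub x hx) h hodd

end Cfsg.Agent.Lib.helper25.SNG
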