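import Mathlib
import Cfsg.Agent.Lib.helper69.SNDefs
import Cfsg.Agent.Lib.helper69.SNStruct

/-!
# S4073 piece P2N-SOLV (helper25): a solvable `SN`-group with non-abelian Sylow 2-subgroup
has a normal 2-complement.
-/

set_option autoImplicit false

namespace Cfsg.Agent.Lib.helper25.SNG

open Cfsg.Agent.Lib.helper69.SNG

universe u

/-- The odd part of an abelian subgroup. -/
theorem h25_exists_odd_part {K : Type u} [Group K] (A : Subgroup K)
    (hA : ∀ a ∈ A, ∀ b ∈ A, a * b = b * a) :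
    ∃ O : Subgroup K, ∀ a, a ∈ O ↔ (a ∈ A ∧ ∃ m : ℕ, Odd m ∧ a ^ m = 1) :=
  ⟨{ carrier := {a | a ∈ A ∧ ∃ m : ℕ, Odd m ∧ a ^ m = 1}
     one_mem' := ⟨A.one_mem, 1, odd_one, by simp⟩
     mul_mem' := by
       rintro a b ⟨ha, m, hm, hma⟩ ⟨hb, n, hn, hnb⟩
       refine ⟨A.mul_mem ha hb, m * n, hm.mul hn, ?_⟩
       have hc : Commute a b := hA a ha b hb
       rw [hc.mul_pow, pow_mul, hma, one_pow, mul_comm m n, pow_mul, hnb, one_pow, mul_one]
     inv_mem' := by
       rintro a ⟨ha, m, hm, hma⟩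
       exact ⟨A.inv_mem ha, m, hm, by rw [inv_pow, hma, inv_one]⟩ }, fun a => Iff.rfl⟩

/-- The 2-part of an abelian subgroup. -/
theorem h25_exists_two_part {K : Type u} [Group K] (A : Subgroup K)
    (hA : ∀ a ∈ A, ∀ b ∈ A, a * b = b * a) :
    ∃ T : Subgroup K, ∀ a, a ∈ T ↔ (a ∈ A ∧ ∃ k : ℕ, a ^ 2 ^ k = 1) :=
  ⟨{ carrier := {a | a ∈ A ∧ ∃ k : ℕ, a ^ 2 ^ k = 1}
     one_mem' := ⟨A.one_mem, 0, by simp⟩
     mul_mem' := by
       rintro a b ⟨ha, m, hma⟩ ⟨hb, n, hnb⟩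
       refine ⟨A.mul_mem ha hb, m + n, ?_⟩
       have hc : Commute a b := hA a ha b hb
       rw [hc.mul_pow, pow_add, pow_mul, hma, one_pow, mul_comm (2 ^ m) (2 ^ n), pow_mul, hnb,
         one_pow, mul_one]
     inv_mem' := by
       rintro a ⟨ha, m, hma⟩
       exact ⟨A.inv_mem ha, m, by rw [inv_pow, hma, inv_one]⟩ }, fun a => Iff.rfl⟩

/-- **[P2N-SOLV]** -/
theorem sn_solvable_two_nilpotent {K : Type u} [Group K] [Finite K] (h : SN K)
    (hs : Group.IsSolvable K) (S : Sylow 2 K) (hS : ¬ IsMulCommutative S) :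
    ∃ O : Subgroup K, O.Normal ∧ Odd (Nat.card O) ∧ O ⊔ (S : Subgroup K) = ⊤ := by
  have hna : ¬ IsMulCommutative K := by
    intro hc
    apply hS
    rw [comm_iff]
    intro a _ b _
    exact comm_iff_top.mp hc a b
  obtain ⟨A, hAn, hAc, hAi⟩ := sn_solvable_index h hs hna
  have hAc' := (comm_iff A).mp hAc
  -- `S` is not contained in `A`
  have hSA : ¬ ((S : Subgroup K) ≤ A) := by
    intro hle
    apply hS
    rw [comm_iff]
    intro a ha b hb
    exact hAc' a (hle ha) b (hle hb)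
  -- the index of `A` is `2`
  have hi2 : A.index = 2 := by
    by_contra hne
    apply hSA
    intro s hs'
    obtain ⟨k, hk⟩ := S.isPGroup' ⟨s, hs'⟩
    have hk' : s ^ 2 ^ k = 1 := by
      have := congrArg Subtype.val hk
      simpa using this
    have h1 : s ^ A.index ∈ A := A.pow_index_mem s
    have hcop : Nat.Coprime (2 ^ k) A.index := by
      apply Nat.Coprime.pow_left
      rw [Nat.coprime_comm, Nat.Prime.coprime_iff_not_dvd hAi]
      intro hd
      exact hne ((Nat.prime_dvd_prime_iff_eq hAi Nat.prime_two).mp hd)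
    have h2 := Nat.gcd_eq_gcd_ab (2 ^ k) A.index
    rw [hcop] at h2
    have h3 : s = (s ^ (2 ^ k)) ^ (Nat.gcdA (2 ^ k) A.index) *
        (s ^ A.index) ^ (Nat.gcdB (2 ^ k) A.index) := by
      rw [← zpow_natCast, ← zpow_natCast, ← zpow_mul, ← zpow_mul, ← zpow_add, ← h2]
      simp
    rw [h3, hk', one_zpow, one_mul]
    exact A.zpow_mem h1 _
  obtain ⟨s, hsS, hsA⟩ : ∃ s, s ∈ (S : Subgroup K) ∧ s ∉ A := by
    by_contra hc
    push Not at hc
    exact hSA hc
  obtain ⟨O, hO⟩ := h25_exists_odd_part A hAc'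
  obtain ⟨T, hT⟩ := h25_exists_two_part A hAc'
  have hOn : O.Normal := by
    constructor
    intro n hn g
    rw [hO] at hn ⊢
    obtain ⟨hnA, m, hm, hnm⟩ := hn
    exact ⟨hAn.conj_mem n hnA g, m, hm, by rw [conj_pow, hnm, mul_one, mul_inv_cancel]⟩
  have hTn : T.Normal := by
    constructor
    intro n hn g
    rw [hT] at hn ⊢
    obtain ⟨hnA, m, hnm⟩ := hn
    exact ⟨hAn.conj_mem n hnA g, m, by rw [conj_pow, hnm, mul_one, mul_inv_cancel]⟩
  have hTp : IsPGroup 2 T := by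
    intro g
    obtain ⟨_, k, hk⟩ := (hT g).mp g.2
    exact ⟨k, Subtype.ext (by simpa using hk)⟩
  have hTS : T ≤ (S : Subgroup K) := by
    have h1 : IsPGroup 2 ((S : Subgroup K) ⊔ T : Subgroup K) :=
      S.isPGroup'.to_sup_of_normal_right hTp
    have h2 := S.is_maximal' h1 le_sup_left
    exact le_sup_right.trans_eq h2
  have hOodd : Odd (Nat.card O) := by
    by_contra hc
    rw [Nat.not_odd_iff_even, even_iff_two_dvd] at hc
    obtain ⟨x, hx⟩ := exists_prime_orderOf_dvd_card' (G := O) 2 hc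
    obtain ⟨_, m, hm, hxm⟩ := (hO x).mp x.2
    have h1 : orderOf (x : K) ∣ m := orderOf_dvd_of_pow_eq_one hxm
    rw [Subgroup.orderOf_coe, hx] at h1
    rw [← Nat.not_even_iff_odd, even_iff_two_dvd] at hm
    exact hm h1
  -- `A ≤ O ⊔ S`
  have hAle : A ≤ O ⊔ (S : Subgroup K) := by
    intro a ha
    have hn0 : orderOf a ≠ 0 := (orderOf_pos a).ne'
    obtain ⟨e, m, hm, hem⟩ := Nat.exists_eq_two_pow_mul_odd hn0
    have hcop : Nat.Coprime (2 ^ e) m :=
      Nat.Coprime.pow_left e (Nat.coprime_two_left.mpr hm)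
    have h2 := Nat.gcd_eq_gcd_ab (2 ^ e) m
    rw [hcop] at h2
    have h3 : a = (a ^ (2 ^ e)) ^ (Nat.gcdA (2 ^ e) m) * (a ^ m) ^ (Nat.gcdB (2 ^ e) m) := by
      rw [← zpow_natCast, ← zpow_natCast, ← zpow_mul, ← zpow_mul, ← zpow_add, ← h2]
      simp
    have h4 : a ^ (2 ^ e) ∈ O := by
      rw [hO]
      exact ⟨A.pow_mem ha _, m, hm, by rw [← pow_mul, ← hem, pow_orderOf_eq_one]⟩
    have h5 : a ^ m ∈ T := by
      rw [hT]
      exact ⟨A.pow_mem ha _, e, by rw [← pow_mul, mul_comm, ← hem, pow_orderOf_eq_one]⟩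
    rw [h3]
    exact Subgroup.mul_mem _ (Subgroup.mem_sup_left (O.zpow_mem h4 _))
      (Subgroup.mem_sup_right ((S : Subgroup K).zpow_mem (hTS h5) _))
  refine ⟨O, hOn, hOodd, ?_⟩
  rw [eq_top_iff]
  intro k _
  by_cases hk : k ∈ A
  · exact hAle hk
  · have h1 : k * s⁻¹ ∈ A := by
      rw [Subgroup.mul_mem_iff_of_index_two hi2]
      constructor
      · intro hkA; exact absurd hkA hk
      · intro hsA'; exact absurd (by simpa using A.inv_mem hsA') hsA
    have h2 : k = (k * s⁻¹) * s := by group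
    rw [h2]
    exact Subgroup.mul_mem _ (hAle h1) (Subgroup.mem_sup_right hsS)

end Cfsg.Agent.Lib.helper25.SNG
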