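import Mathlib
import Cfsg.Agent.Lib.helper49.SPEDefs
import Cfsg.Agent.Lib.helper40.SPEPAIRTR

set_option autoImplicit false

namespace Cfsg.Agent.Lib.helper49.SPE

open Matrix

/-- fibre counting: if every fibre of `Φ` has at most `N` elements then `|α| ≤ N * |β|`. -/
theorem h25_card_le_mul_of_fibre {α β : Type*} [Finite α] [Finite β] (Φ : α → β) (N : ℕ)
    (hfib : ∀ y, Nat.card {x // Φ x = y} ≤ N) : Nat.card α ≤ N * Nat.card β := by
  classical
  haveI := Fintype.ofFinite β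
  rw [← Nat.card_congr (Equiv.sigmaFiberEquiv Φ), Nat.card_sigma]
  calc ∑ y, Nat.card {x // Φ x = y} ≤ ∑ _y : β, N := Finset.sum_le_sum (fun y _ => hfib y)
    _ = N * Nat.card β := by
      rw [Finset.sum_const, Finset.card_univ, smul_eq_mul, Nat.card_eq_fintype_card, mul_comm]

/-- CASEE core: the verbatim `case_e` statement with the ECOUNT and ESTAB statements as hypotheses. -/
theorem h25_case_e_core {F : Type*} [Field F] [Fintype F] {n : ℕ} (h2 : (2 : F) = 0)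
    (S : Set ((Fin n → F) → F))
    (hstab : ∀ Q ∈ S, ∀ B : Matrix (Fin n) (Fin n) F, B.det ≠ 0 → (fun x => Q (B *ᵥ x)) ∈ S)
    (a b c : F) (hb : b ≠ 0) (haniso : ∀ s t : F, bq a b c s t = 0 → s = 0 ∧ t = 0)
    (l m : Fin n → F) (h : Indep l m) (hmem : (fun x => bq a b c (l ⬝ᵥ x) (m ⬝ᵥ x)) ∈ S)
    (hcount : (Fintype.card F ^ n - 1) * (Fintype.card F ^ n - Fintype.card F) ≤
      Nat.card {p : (Fin n → F) × (Fin n → F) // Indep p.1 p.2})
    (hfib : ∀ l' m' : Fin n → F, Indep l' m' →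
      Nat.card {p : (Fin n → F) × (Fin n → F) //
        ∀ x, bq a b c (p.1 ⬝ᵥ x) (p.2 ⬝ᵥ x) = bq a b c (l' ⬝ᵥ x) (m' ⬝ᵥ x)} ≤
      2 * (Fintype.card F + 1)) :
    (Fintype.card F ^ n - 1) * (Fintype.card F ^ n - Fintype.card F) /
      (2 * (Fintype.card F + 1)) ≤ Nat.card S := by
  classical
  -- every form attached to an independent pair lies in `S`
  have hall : ∀ l' m' : Fin n → F, Indep l' m' →
      (fun x => bq a b c (l' ⬝ᵥ x) (m' ⬝ᵥ x)) ∈ S := by
    intro l' m' h'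
    obtain ⟨C, hC, hl, hm⟩ := pair_trans l m l' m' h h'
    have hdet : (Cᵀ).det ≠ 0 := by rw [Matrix.det_transpose]; exact hC
    have hs := hstab _ hmem Cᵀ hdet
    have hfun : (fun x => bq a b c (l ⬝ᵥ (Cᵀ *ᵥ x)) (m ⬝ᵥ (Cᵀ *ᵥ x))) =
        (fun x => bq a b c (l' ⬝ᵥ x) (m' ⬝ᵥ x)) := by
      funext x
      rw [Matrix.dotProduct_mulVec, Matrix.dotProduct_mulVec, Matrix.vecMul_transpose,
        Matrix.vecMul_transpose, hl, hm]
    rw [← hfun]
    exact hs
  let P := {p : (Fin n → F) × (Fin n → F) // Indep p.1 p.2}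
  let Φ : P → S := fun p => ⟨fun x => bq a b c (p.1.1 ⬝ᵥ x) (p.1.2 ⬝ᵥ x), hall p.1.1 p.1.2 p.2⟩
  have hΦ : ∀ y : S, Nat.card {p : P // Φ p = y} ≤ 2 * (Fintype.card F + 1) := by
    intro y
    by_cases hy : Nonempty {p : P // Φ p = y}
    · obtain ⟨⟨p₀, hp₀⟩⟩ := hy
      refine le_trans ?_ (hfib p₀.1.1 p₀.1.2 p₀.2)
      refine Nat.card_le_card_of_injective
        (fun p : {p : P // Φ p = y} =>
          (⟨p.1.1, ?_⟩ : {p : (Fin n → F) × (Fin n → F) //
            ∀ x, bq a b c (p.1 ⬝ᵥ x) (p.2 ⬝ᵥ x) = bq a b c (p₀.1.1 ⬝ᵥ x) (p₀.1.2 ⬝ᵥ x)})) ?_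
      · intro x
        have h1 : Φ p.1 = Φ p₀ := p.2.trans hp₀.symm
        have h2' := congrArg Subtype.val h1
        exact congrFun h2' x
      · intro p p' hpp
        have h1 := congrArg Subtype.val hpp
        exact Subtype.ext (Subtype.ext h1)
    · rw [not_nonempty_iff] at hy
      rw [Nat.card_of_isEmpty]
      exact Nat.zero_le _
  have hP : Nat.card P ≤ 2 * (Fintype.card F + 1) * Nat.card S :=
    h25_card_le_mul_of_fibre Φ _ hΦ
  exact Nat.div_le_of_le_mul (le_trans hcount hP)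

end Cfsg.Agent.Lib.helper49.SPE
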