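import Mathlib
import Cfsg.Agent.Lib.helper72.SUODefs

set_option autoImplicit false

namespace Cfsg.Agent.Lib.helper72.SUO

open Matrix Cfsg Cfsg.Agent.Lib.helper44.SUW

/-- EMBINJ (S) -/
theorem embMat_inj {K : Type*} [Field K] {m : ℕ} (M N : Matrix (Fin (m + m)) (Fin (m + m)) K)
    (c : K) (h : embMat M c = embMat N c) : M = N := by
  unfold embMat at h
  ext i j
  have h1 := congrFun (congrFun h (finSumFinEquiv (Sum.inl i))) (finSumFinEquiv (Sum.inl j))
  simpa using h1

end Cfsg.Agent.Lib.helper72.SUO
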