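import Mathlib
import Cfsg.Agent.Lib.helper72.SUODefs

set_option autoImplicit false

namespace Cfsg.Agent.Lib.helper72.SUO

open Matrix Cfsg Cfsg.Agent.Lib.helper44.SUW

/-- EMBMUL (S) -/
theorem embMat_mul {K : Type*} [Field K] {m : ℕ} (M N : Matrix (Fin (m + m)) (Fin (m + m)) K)
    (c d : K) : embMat (M * N) (c * d) = embMat M c * embMat N d := by
  unfold embMat
  rw [Matrix.submatrix_mul_equiv, Matrix.fromBlocks_multiply]
  congr 1
  congr 1
  · simp
  · simp
  · simp
  · rw [Matrix.zero_mul, zero_add, Matrix.smul_mul, Matrix.mul_smul, Matrix.one_mul, smul_smul]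

end Cfsg.Agent.Lib.helper72.SUO
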