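import Mathlib
import Cfsg.Agent.Lib.helper17.HermForm
import Cfsg.Agent.Lib.helper44.SUWDefs

/-!
# S2335 piece RANK1 (helper25, racer), core version: `rank_one` with `σ ≠ id` (FSIG) and the
conclusion of ANISO (`exists_aniso`) as hypotheses.
-/

set_option autoImplicit false

namespace Cfsg.Agent.Lib.helper44.SUW

open Matrix Cfsg

/-- RANK1, core: a nonzero skew-Hermitian `Y` all of whose isotropic vectors lie in the kernel
has the form `c • z z†`. -/
theorem h25_rank_one_core {K : Type*} [Field K] [Fintype K] {q m : ℕ}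
    (hK : Fintype.card K = q ^ 2) (σ : K →+* K) (hσ : ∀ x, σ x = x ^ q)
    (hσne : σ ≠ RingHom.id K) (Y : Matrix (Fin m) (Fin m) K) (hY : Y ∈ skewH σ m)
    (hA : ∃ v : Fin m → K, hval σ Y v ≠ 0)
    (hiso : ∀ x : Fin m → K, hval σ Y x = 0 → Y *ᵥ x = 0) :
    ∃ (c : K) (z : Fin m → K), c ≠ 0 ∧ z ≠ 0 ∧
      Y = c • Matrix.vecMulVec z (fun j => σ (z j)) := by
  classical
  have hσσ : ∀ x, σ (σ x) = x := fun x => by
    rw [hσ, hσ, ← pow_mul, ← sq, ← hK, FiniteField.pow_card]
  have hYs : ∀ i j, σ (Y i j) = -Y j i := mem_skewH.1 hY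
  -- the sesquilinear form `s u x = u† Y x`
  obtain ⟨s, hs⟩ : ∃ s : (Fin m → K) → (Fin m → K) → K,
      ∀ u x, s u x = ∑ k, σ (u k) * (Y *ᵥ x) k := ⟨_, fun _ _ => rfl⟩
  have hval_eq : ∀ x, hval σ Y x = s x x := by
    intro x
    rw [hs]
    unfold hval
    apply Finset.sum_congr rfl
    intro i _
    show ∑ j, σ (x i) * Y i j * x j = σ (x i) * ∑ j, Y i j * x j
    rw [Finset.mul_sum]
    apply Finset.sum_congr rfl
    intro j _
    ring
  have hs_addr : ∀ u x x', s u (x + x') = s u x + s u x' := by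
    intro u x x'
    rw [hs, hs, hs, Matrix.mulVec_add, ← Finset.sum_add_distrib]
    apply Finset.sum_congr rfl
    intro k _
    rw [Pi.add_apply]
    ring
  have hs_smulr : ∀ u (c : K) x, s u (c • x) = c * s u x := by
    intro u c x
    rw [hs, hs, Matrix.mulVec_smul, Finset.mul_sum]
    apply Finset.sum_congr rfl
    intro k _
    rw [Pi.smul_apply, smul_eq_mul]
    ring
  have hs_addl : ∀ u u' x, s (u + u') x = s u x + s u' x := by
    intro u u' x
    rw [hs, hs, hs, ← Finset.sum_add_distrib]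
    apply Finset.sum_congr rfl
    intro k _
    rw [Pi.add_apply, map_add]
    ring
  have hs_smull : ∀ (c : K) u x, s (c • u) x = σ c * s u x := by
    intro c u x
    rw [hs, hs, Finset.mul_sum]
    apply Finset.sum_congr rfl
    intro k _
    rw [Pi.smul_apply, smul_eq_mul, map_mul]
    ring
  have hs_skew : ∀ u x, σ (s u x) = -s x u := by
    intro u x
    rw [hs, hs, map_sum, ← Finset.sum_neg_distrib]
    have e1 : ∀ k, σ (σ (u k) * (Y *ᵥ x) k) = ∑ j, u k * (-(Y j k)) * σ (x j) := by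
      intro k
      show σ (σ (u k) * ∑ j, Y k j * x j) = _
      rw [map_mul, hσσ, map_sum, Finset.mul_sum]
      apply Finset.sum_congr rfl
      intro j _
      rw [map_mul, hYs k j]
      ring
    have e2 : ∀ k, -(σ (x k) * (Y *ᵥ u) k) = ∑ j, u j * (-(Y k j)) * σ (x k) := by
      intro k
      show -(σ (x k) * ∑ j, Y k j * u j) = _
      rw [Finset.mul_sum, ← Finset.sum_neg_distrib]
      apply Finset.sum_congr rfl
      intro j _
      ring
    rw [Finset.sum_congr rfl (fun k _ => e1 k), Finset.sum_congr rfl (fun k _ => e2 k),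
      Finset.sum_comm]
  have hcol : ∀ j k, (Y *ᵥ Pi.single j 1) k = Y k j := by
    intro j k
    simp [Matrix.mulVec, dotProduct, Pi.single_apply]
  obtain ⟨v, hv⟩ := hA
  rw [hval_eq] at hv
  obtain ⟨a, ha⟩ : ∃ a, a = s v v := ⟨_, rfl⟩
  rw [← ha] at hv
  have hσa : σ a = -a := by rw [ha, hs_skew]
  have key : ∀ x, Y *ᵥ x = (a⁻¹ * s v x) • (Y *ᵥ v) := by
    intro x
    obtain ⟨t, ht⟩ : ∃ t, t = a⁻¹ * s v x := ⟨_, rfl⟩
    obtain ⟨w, hw⟩ : ∃ w, w = x - t • v := ⟨_, rfl⟩
    have hvw : s v w = 0 := by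
      have e : w = x + (-t) • v := by rw [hw, neg_smul, sub_eq_add_neg]
      rw [e, hs_addr, hs_smulr, ← ha, ht, neg_mul, mul_comm a⁻¹, mul_assoc, inv_mul_cancel₀ hv,
        mul_one, add_neg_cancel]
    have hwv : s w v = 0 := by
      have h1 := hs_skew v w
      rw [hvw, map_zero] at h1
      exact neg_eq_zero.1 h1.symm
    have hYw : Y *ᵥ w = 0 := by
      by_contra hne
      have hb : s w w ≠ 0 := by
        intro h0
        exact hne (hiso w (by rw [hval_eq, h0]))
      obtain ⟨b, hbdef⟩ : ∃ b, b = s w w := ⟨_, rfl⟩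
      rw [← hbdef] at hb
      have hσb : σ b = -b := by rw [hbdef, hs_skew]
      have hβ0 : -a / b ≠ 0 := div_ne_zero (neg_ne_zero.2 hv) hb
      have hβσ : σ (-a / b) = -a / b := by
        rw [map_div₀, map_neg, hσa, hσb, neg_neg, div_neg, neg_div]
      obtain ⟨μ, hμ⟩ := Cfsg.Agent.Lib.helper17.norm_surj σ hσne hσσ (-a / b) hβ0 hβσ
      have hzz : s (v + μ • w) (v + μ • w) = 0 := by
        rw [hs_addl, hs_addr, hs_addr, hs_smulr, hs_smull, hs_smull, hs_smulr, hvw, hwv, ← ha,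
          ← hbdef]
        have h3 : σ μ * (μ * b) = -a := by
          calc σ μ * (μ * b) = (μ * σ μ) * b := by ring
            _ = -a / b * b := by rw [hμ]
            _ = -a := by field_simp
        rw [h3]
        ring
      have hYz : Y *ᵥ (v + μ • w) = 0 := hiso _ (by rw [hval_eq, hzz])
      have hvz : s v (v + μ • w) = 0 := by
        rw [hs, hYz]
        simp
      rw [hs_addr, hs_smulr, hvw, ← ha, mul_zero, add_zero] at hvz
      exact hv hvz
    have e : x = w + t • v := by rw [hw, sub_add_cancel]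
    calc Y *ᵥ x = Y *ᵥ (w + t • v) := by rw [← e]
      _ = Y *ᵥ w + t • (Y *ᵥ v) := by rw [Matrix.mulVec_add, Matrix.mulVec_smul]
      _ = t • (Y *ᵥ v) := by rw [hYw, zero_add]
      _ = (a⁻¹ * s v x) • (Y *ᵥ v) := by rw [ht]
  obtain ⟨y, hy⟩ : ∃ y, y = Y *ᵥ v := ⟨_, rfl⟩
  have hy0 : y ≠ 0 := by
    intro h0
    apply hv
    rw [ha, hs, ← hy, h0]
    simp
  have hσy : ∀ j, σ (y j) = -s v (Pi.single j 1) := by
    intro j
    rw [hs, hy]
    show σ (∑ k, Y j k * v k) = -∑ k, σ (v k) * (Y *ᵥ Pi.single j 1) k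
    rw [map_sum, ← Finset.sum_neg_distrib]
    apply Finset.sum_congr rfl
    intro k _
    rw [map_mul, hYs j k, hcol]
    ring
  refine ⟨-a⁻¹, y, neg_ne_zero.2 (inv_ne_zero hv), hy0, ?_⟩
  ext i j
  rw [Matrix.smul_apply, Matrix.vecMulVec_apply, smul_eq_mul, hσy j]
  have h1 := congrFun (key (Pi.single j 1)) i
  rw [hcol, Pi.smul_apply, smul_eq_mul, ← hy] at h1
  rw [h1]
  ring

end Cfsg.Agent.Lib.helper44.SUW
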