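import Mathlib
import Cfsg.Agent.Lib.helper24.SfoDefs
import Cfsg.Agent.Lib.helper98.SfoOB
import Cfsg.Agent.Lib.helper53.SfoBINREP
import Cfsg.Agent.Lib.helper10.SfoOSUFAcore

/-!
# S5981 piece OSIM2 (helper25, racer copy): a similarity with square `z` in even dimension.
-/

set_option autoImplicit false

namespace Cfsg.Agent.Lib.helper24

open Module Matrix Cfsg.Geo

/-- OSIM2 (racer copy, verbatim statement of `sfo_exists_sim_sq`). -/
theorem h25_sfo_exists_sim_sq {F : Type*} [Field F] [Fintype F] {n : ℕ} (h2 : (2 : F) ≠ 0)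
    (Q : (Fin n → F) → F) (hQ : IsNondegenerateQuadraticForm Q) (hn : Even n) (z : F)
    (hz : z ≠ 0) :
    ∃ g ∈ quadSimilarityGroup Q,
      (g : Matrix (Fin n) (Fin n) F) * (g : Matrix (Fin n) (Fin n) F) =
        z • (1 : Matrix (Fin n) (Fin n) F) := by
  classical
  obtain ⟨e, he, horth, hd⟩ := sfo_orth_basis h2 Q hQ
  obtain ⟨m, hm⟩ := hn
  -- the pairing `i ↔ i xor 1`
  let π : Fin n → Fin n := fun i =>
    ⟨if (i : ℕ) % 2 = 0 then (i : ℕ) + 1 else (i : ℕ) - 1, by
      have := i.isLt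
      split_ifs <;> omega⟩
  have hπv : ∀ i : Fin n, (π i : ℕ) = if (i : ℕ) % 2 = 0 then (i : ℕ) + 1 else (i : ℕ) - 1 :=
    fun i => rfl
  have hπ : ∀ i, π (π i) = i := by
    intro i
    apply Fin.ext
    rw [hπv, hπv]
    split_ifs <;> omega
  have hπpar : ∀ i : Fin n, ((π i : ℕ) % 2 = 0) ↔ ¬ ((i : ℕ) % 2 = 0) := by
    intro i
    rw [hπv]
    split_ifs <;> omega
  -- coefficients
  have hrep : ∀ i : Fin n, ∃ α γ : F,
      Q (e i) * α ^ 2 + Q (e (π i)) * γ ^ 2 = z * Q (e i) :=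
    fun i => sfo_bin_rep h2 _ _ _ (hd i) (hd (π i))
  choose α γ hαγ using hrep
  obtain ⟨a, hadef⟩ : ∃ a : Fin n → F,
      ∀ i, a i = if (i : ℕ) % 2 = 0 then α i else -α (π i) := ⟨_, fun _ => rfl⟩
  obtain ⟨b, hbdef⟩ : ∃ b : Fin n → F,
      ∀ i, b i = if (i : ℕ) % 2 = 0 then γ i else Q (e i) * γ (π i) / Q (e (π i)) :=
    ⟨_, fun _ => rfl⟩
  have ha : ∀ i, a (π i) = -a i := by
    intro i
    by_cases hi : (i : ℕ) % 2 = 0
    · have hp : ¬ ((π i : ℕ) % 2 = 0) := fun h => (hπpar i).1 h hi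
      rw [hadef (π i), hadef i, if_neg hp, if_pos hi, hπ]
    · have hp : (π i : ℕ) % 2 = 0 := (hπpar i).2 hi
      rw [hadef (π i), hadef i, if_pos hp, if_neg hi, neg_neg]
  have hb : ∀ i, Q (e i) * b (π i) = Q (e (π i)) * b i := by
    intro i
    have hdi := hd i
    have hdp := hd (π i)
    by_cases hi : (i : ℕ) % 2 = 0
    · have hp : ¬ ((π i : ℕ) % 2 = 0) := fun h => (hπpar i).1 h hi
      rw [hbdef (π i), hbdef i, if_neg hp, if_pos hi, hπ]
      field_simp
    · have hp : (π i : ℕ) % 2 = 0 := (hπpar i).2 hi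
      rw [hbdef (π i), hbdef i, if_pos hp, if_neg hi]
      field_simp
  have hab : ∀ i, Q (e i) * a i ^ 2 + Q (e (π i)) * b i ^ 2 = z * Q (e i) := by
    intro i
    have hdi := hd i
    have hdp := hd (π i)
    by_cases hi : (i : ℕ) % 2 = 0
    · rw [hadef i, hbdef i, if_pos hi, if_pos hi]
      exact hαγ i
    · rw [hadef i, hbdef i, if_neg hi, if_neg hi]
      have h1 := hαγ (π i)
      rw [hπ] at h1
      field_simp
      linear_combination h1
  have hz1 : ∀ i, a i ^ 2 + b i * b (π i) = z := by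
    intro i
    have hdi := hd i
    have h1 := hab i
    have h3 := hb i
    have h4 : Q (e i) * (a i ^ 2 + b i * b (π i)) = Q (e i) * z := by
      linear_combination h1 + b i * h3
    exact mul_left_cancel₀ hdi h4
  -- the matrix in the basis `e`
  let A : Matrix (Fin n) (Fin n) F := fun j i =>
    (if j = i then a i else 0) + (if π j = i then b i else 0)
  have hAc : ∀ (c : Fin n → F) (j : Fin n), (A *ᵥ c) j = a j * c j + b (π j) * c (π j) := by
    intro c j
    have h1 : ∀ i, A j i * c i =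
        (if j = i then a i * c i else 0) + (if π j = i then b i * c i else 0) := by
      intro i
      show ((if j = i then a i else 0) + (if π j = i then b i else 0)) * c i = _
      rw [add_mul, ite_mul, ite_mul, zero_mul]
    show ∑ i, A j i * c i = _
    rw [Finset.sum_congr rfl (fun i _ => h1 i), Finset.sum_add_distrib, Finset.sum_ite_eq,
      Finset.sum_ite_eq]
    simp
  have hAAc : ∀ c : Fin n → F, A *ᵥ (A *ᵥ c) = z • c := by
    intro c
    ext j
    rw [hAc, hAc, hAc, hπ, ha, Pi.smul_apply, smul_eq_mul]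
    linear_combination (c j) * hz1 j
  have hAA : A * A = z • (1 : Matrix (Fin n) (Fin n) F) := by
    apply (Matrix.toLin' : Matrix (Fin n) (Fin n) F ≃ₗ[F] _).injective
    apply LinearMap.ext
    intro v
    rw [Matrix.toLin'_apply, ← Matrix.mulVec_mulVec, hAAc, Matrix.toLin'_apply,
      Matrix.smul_mulVec, Matrix.one_mulVec]
  -- the key sum identity
  have hsum : ∀ c : Fin n → F,
      ∑ j, (A *ᵥ c) j ^ 2 * Q (e j) = z * ∑ j, c j ^ 2 * Q (e j) := by
    intro c
    let σ : Equiv.Perm (Fin n) := Function.Involutive.toPerm π hπ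
    have hσ : ∀ j, σ j = π j := fun j => rfl
    let T : Fin n → F := fun j => 2 * Q (e j) * a j * b (π j) * c j * c (π j)
    let U : Fin n → F := fun j => Q (e (π j)) * b j ^ 2 * c j ^ 2
    have e1 : ∀ j, (A *ᵥ c) j ^ 2 * Q (e j) =
        Q (e j) * a j ^ 2 * c j ^ 2 + T j + U (π j) := by
      intro j
      show (A *ᵥ c) j ^ 2 * Q (e j) = Q (e j) * a j ^ 2 * c j ^ 2 +
        2 * Q (e j) * a j * b (π j) * c j * c (π j) +
        Q (e (π (π j))) * b (π j) ^ 2 * c (π j) ^ 2
      rw [hAc, hπ]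
      ring
    have hU : ∑ j, U (π j) = ∑ j, U j := Equiv.sum_comp σ U
    have hT : ∑ j, T j = 0 := by
      have h1 : ∑ j, T (π j) = ∑ j, T j := Equiv.sum_comp σ T
      have h2' : ∀ j, T (π j) = -T j := by
        intro j
        show 2 * Q (e (π j)) * a (π j) * b (π (π j)) * c (π j) * c (π (π j)) =
          -(2 * Q (e j) * a j * b (π j) * c j * c (π j))
        rw [hπ, ha]
        linear_combination (2 * a j * c j * c (π j)) * hb j
      have h3 : ∑ j, T j = -∑ j, T j := by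
        rw [← Finset.sum_neg_distrib, ← Finset.sum_congr rfl (fun j _ => h2' j), h1]
      have h4 : 2 * ∑ j, T j = 0 := by linear_combination h3
      exact (mul_eq_zero.1 h4).resolve_left h2
    rw [Finset.sum_congr rfl (fun j _ => e1 j), Finset.sum_add_distrib, Finset.sum_add_distrib,
      hT, hU, add_zero, ← Finset.sum_add_distrib, Finset.mul_sum]
    apply Finset.sum_congr rfl
    intro j _
    show Q (e j) * a j ^ 2 * c j ^ 2 + Q (e (π j)) * b j ^ 2 * c j ^ 2 = z * (c j ^ 2 * Q (e j))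
    linear_combination (c j ^ 2) * hab j
  -- the basis matrix
  let E : Matrix (Fin n) (Fin n) F := fun i j => e j i
  have hEdet : E.det ≠ 0 := by
    have h1 : LinearIndependent F (Matrix.of e).row := he
    have h2' : IsUnit (Matrix.of e) := Matrix.linearIndependent_rows_iff_isUnit.mp h1
    have h3 : IsUnit (Matrix.of e).det := (Matrix.isUnit_iff_isUnit_det _).mp h2'
    have h4 : E = (Matrix.of e)ᵀ := rfl
    rw [h4, Matrix.det_transpose]
    exact h3.ne_zero
  have hEu : IsUnit E.det := isUnit_iff_ne_zero.mpr hEdet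
  have hEa : ∀ c : Fin n → F, E *ᵥ c = ∑ j, c j • e j := by
    intro c
    ext i
    simp [Matrix.mulVec, dotProduct, E, mul_comm]
  let G : Matrix (Fin n) (Fin n) F := E * A * E⁻¹
  have hGG : G * G = z • (1 : Matrix (Fin n) (Fin n) F) := by
    show E * A * E⁻¹ * (E * A * E⁻¹) = _
    have h1 : E * A * E⁻¹ * (E * A * E⁻¹) = E * (A * (E⁻¹ * E) * A) * E⁻¹ := by
      simp only [Matrix.mul_assoc]
    rw [h1, Matrix.nonsing_inv_mul E hEu, Matrix.mul_one, hAA, Matrix.mul_smul, Matrix.smul_mul,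
      Matrix.mul_one, Matrix.mul_nonsing_inv E hEu]
  have hGdet : G.det ≠ 0 := by
    intro h0
    have h1 := congrArg Matrix.det hGG
    rw [Matrix.det_mul, h0, mul_zero, Matrix.det_smul, Matrix.det_one, mul_one,
      Fintype.card_fin] at h1
    exact pow_ne_zero n hz h1.symm
  have hGQ : ∀ v, Q (G *ᵥ v) = z * Q v := by
    intro v
    have hv : v = E *ᵥ (E⁻¹ *ᵥ v) := by
      rw [Matrix.mulVec_mulVec, Matrix.mul_nonsing_inv E hEu, Matrix.one_mulVec]
    have hGv : G *ᵥ v = E *ᵥ (A *ᵥ (E⁻¹ *ᵥ v)) := by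
      show (E * A * E⁻¹) *ᵥ v = _
      rw [← Matrix.mulVec_mulVec, ← Matrix.mulVec_mulVec]
    rw [hGv, hEa, h10_Q_sum Q hQ e horth]
    nth_rewrite 2 [hv]
    rw [hEa, h10_Q_sum Q hQ e horth]
    exact hsum (E⁻¹ *ᵥ v)
  exact ⟨Matrix.GeneralLinearGroup.mkOfDetNeZero G hGdet, ⟨Units.mk0 z hz, fun v => hGQ v⟩, hGG⟩

end Cfsg.Agent.Lib.helper24
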