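import Mathlib
import Cfsg.Agent.Lib.helper24.SfoDefs
import Cfsg.Agent.Lib.helper24.SubfE

/-!
# S5981 piece OSUF2 (helper25, racer), core version: `sfo_suff_two` with the OSUFA statement
(`sfo_suff_diag`) and the OSIM2 statement (`sfo_exists_sim_sq`) as hypotheses.
-/

set_option autoImplicit false

namespace Cfsg.Agent.Lib.helper24

open Module Matrix Cfsg.Geo

/-- OSUF2, core: `hdiag` is the statement of `sfo_suff_diag`, `hsim` that of `sfo_exists_sim_sq`. -/
theorem h25_sfo_suff_two_core {F : Type*} [Field F] [Fintype F] {n : ℕ} (hn : 0 < n)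
    (h2 : (2 : F) ≠ 0) (Q : (Fin n → F) → F) (hQ : IsNondegenerateQuadraticForm Q)
    (hdiag : ∀ (x K : Matrix (Fin n) (Fin n) F) (μ : Fin n → F), K.det ≠ 0 →
      x * K = K * Matrix.diagonal μ → ∀ c : F, c ≠ 0 → (∀ j, μ j ^ 2 = c) → SfoConj Q x)
    (hsim : Even n → ∀ z : F, z ≠ 0 → ∃ g ∈ quadSimilarityGroup Q,
      (g : Matrix (Fin n) (Fin n) F) * (g : Matrix (Fin n) (Fin n) F) =
        z • (1 : Matrix (Fin n) (Fin n) F))
    (x : Matrix (Fin n) (Fin n) F) (hdet : x.det = 1) (z : F)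
    (hx : x ^ 2 = z • (1 : Matrix (Fin n) (Fin n) F)) : SfoConj Q x := by
  classical
  rw [pow_two] at hx
  haveI : NeZero n := ⟨by omega⟩
  have hz0 : z ≠ 0 := by
    rintro rfl
    rw [zero_smul] at hx
    have h1 : x.det * x.det = 0 := by
      haveI : Nonempty (Fin n) := ⟨0⟩
      rw [← Matrix.det_mul, hx, Matrix.det_zero]
    rw [hdet, one_mul] at h1
    exact one_ne_zero h1
  have hoddq : Odd (Fintype.card F) := qe_two_ne_zero_iff_odd.1 h2
  by_cases hsq : IsSquare z
  · obtain ⟨lam, hlam⟩ := hsq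
    have hlam0 : lam ≠ 0 := by
      rintro rfl
      apply hz0
      rw [hlam, mul_zero]
    obtain ⟨b, δ, hδ, hxb⟩ := subf_basis_eigen h2 hn x lam hlam0 (by rw [← hlam]; exact hx)
    obtain ⟨K, hKdef⟩ : ∃ K : Matrix (Fin n) (Fin n) F, K = Matrix.of (fun i j => b j i) :=
      ⟨_, rfl⟩
    have hKdet : K.det ≠ 0 := by
      have h1 : K = (Pi.basisFun F (Fin n)).toMatrix b := by
        rw [hKdef]
        ext i j
        simp [Basis.toMatrix_apply]
      rw [h1]
      exact Matrix.det_ne_zero_of_right_inverse (Basis.toMatrix_mul_toMatrix_flip _ _)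
    have hxK : x * K = K * Matrix.diagonal (fun j => lam * δ j) := by
      ext i j
      rw [Matrix.mul_diagonal, hKdef]
      have h1 := congrFun (hxb j) i
      simp only [Matrix.mul_apply, Matrix.of_apply]
      simp only [Matrix.mulVec, dotProduct, Pi.smul_apply, smul_eq_mul] at h1
      rw [h1]
      ring
    refine hdiag x K (fun j => lam * δ j) hKdet hxK z hz0 ?_
    intro j
    show (lam * δ j) ^ 2 = z
    rcases hδ j with h | h
    · rw [h, hlam]
      ring
    · rw [h, hlam]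
      ring
  · obtain ⟨m, hm, _⟩ := qe_det_of_nonsquare x z hsq hx
    obtain ⟨g, hg, hgg⟩ := hsim ⟨m, by omega⟩ z hz0
    obtain ⟨P, hPdet, hP⟩ := qe_conj_of_sq (Nat.odd_iff.1 hoddq) x
      (g : Matrix (Fin n) (Fin n) F) z hsq hx hgg hn
    exact ⟨P, g, hPdet, hg, hP⟩

end Cfsg.Agent.Lib.helper24
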