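import Mathlib
import Cfsg.Agent.Lib.helper24.SfuDefs
import Cfsg.Agent.Lib.helper48.SfuUMONO
import Cfsg.Agent.Lib.helper25.SfuU2Acore

/-!
# S5982 piece U2A (helper25): `sfu_suff_two_char_two`.
-/

set_option autoImplicit false

namespace Cfsg.Agent.Lib.helper24

open Module Matrix Cfsg.Geo

/-- U2A -/
theorem sfu_suff_two_char_two {F : Type*} [Field F] [Fintype F] {n : ℕ} (hn : 0 < n) (q₀ : ℕ)
    (hcard : Fintype.card F = q₀ ^ 2) (f : (Fin n → F) → (Fin n → F) → F)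
    (hf : IsUnitaryFormPow q₀ f) (h2 : (2 : F) = 0)
    (x : Matrix (Fin n) (Fin n) F) (hdet : x.det = 1) (z : F)
    (hx : x ^ 2 = z • (1 : Matrix (Fin n) (Fin n) F)) : SfuConj f x :=
  h25_sfu_suff_two_char_two_core hn q₀ hcard f hf
    (fun x _ _ _ b π hπ lam hlam hxb hw => sfu_mono_conj q₀ hcard f hf x b π hπ lam hlam hxb hw)
    h2 x hdet z hx

end Cfsg.Agent.Lib.helper24
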