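import Mathlib
import Cfsg.Agent.Lib.helper24.SfuDefs
import Cfsg.Agent.Lib.helper24.SubfE

/-!
# S5982 piece U2B (helper25), core version: `sfu_suff_two_odd` with the UPAIR statement
(`sfu_pair_conj`) as a hypothesis.
-/

set_option autoImplicit false

namespace Cfsg.Agent.Lib.helper24

open Module Matrix Cfsg.Geo

/-- U2B, core: `hpair` is the statement of `sfu_pair_conj`. -/
theorem h25_sfu_suff_two_odd_core {F : Type*} [Field F] [Fintype F] [DecidableEq F] {n : ℕ}
    (hn : 0 < n) (q₀ : ℕ) (hcard : Fintype.card F = q₀ ^ 2)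
    (f : (Fin n → F) → (Fin n → F) → F) (hf : IsUnitaryFormPow q₀ f)
    (hpair : ∀ (x K : Matrix (Fin n) (Fin n) F) (μ : Fin n → F), K.det ≠ 0 →
      x * K = K * Matrix.diagonal μ → ∀ σ : F, σ ≠ 0 → (∀ j, μ j ≠ 0) →
      (∀ c : F, (Finset.univ.filter (fun j => μ j = σ * c)).card =
        (Finset.univ.filter (fun j => μ j = σ * (c ^ q₀)⁻¹)).card) → SfuConj f x)
    (h2 : (2 : F) ≠ 0)
    (hv : padicValNat 2 n ≤ padicValNat 2 (Fintype.card F - 1))
    (x : Matrix (Fin n) (Fin n) F) (hdet : x.det = 1) (z : F)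
    (hx : x ^ 2 = z • (1 : Matrix (Fin n) (Fin n) F)) : SfuConj f x := by
  rw [pow_two] at hx
  haveI : NeZero n := ⟨by omega⟩
  have hz0 : z ≠ 0 := by
    rintro rfl
    rw [zero_smul] at hx
    have h1 : x.det * x.det = 0 := by
      haveI : Nonempty (Fin n) := ⟨0⟩
      rw [← Matrix.det_mul, hx, Matrix.det_zero]
    rw [hdet, one_mul] at h1
    exact one_ne_zero h1
  have hoddq : Odd (Fintype.card F) := qe_two_ne_zero_iff_odd.1 h2
  have hsq : IsSquare z := by
    by_contra hns
    obtain ⟨m, hm, hdet'⟩ := qe_det_of_nonsquare x z hns hx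
    rw [hdet] at hdet'
    have hzns : ¬ IsSquare (-z) := neg_nonsquare_of_card_sq _ hcard z hns
    have hm0 : m ≠ 0 := by omega
    have h5 := qe_val_le_of_nonsquare_pow_eq_one hoddq (-z) hzns m hm0 hdet'.symm
    have h6 : padicValNat 2 n = padicValNat 2 m + 1 := by
      rw [hm, padicValNat.mul (by norm_num) hm0, padicValNat_self]
      ring
    omega
  obtain ⟨lam, hlam⟩ := hsq
  have hlam0 : lam ≠ 0 := by
    rintro rfl
    apply hz0
    rw [hlam, mul_zero]
  obtain ⟨b, δ, hδ, hxb⟩ := subf_basis_eigen h2 hn x lam hlam0 (by rw [← hlam]; exact hx)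
  have hq₀odd : Odd q₀ := by
    rw [hcard, pow_two] at hoddq
    exact (Nat.odd_mul.1 hoddq).1
  have hδpow : ∀ j, δ j ^ q₀ = δ j := by
    intro j
    rcases hδ j with h | h
    · rw [h, one_pow]
    · rw [h, hq₀odd.neg_one_pow]
  have hδsq : ∀ j, δ j * δ j = 1 := by
    intro j
    rcases hδ j with h | h
    · rw [h, one_mul]
    · rw [h]; ring
  have hcc : ∀ c : F, (c ^ q₀) ^ q₀ = c := by
    intro c
    rw [← pow_mul, ← pow_two, ← hcard, FiniteField.pow_card]
  obtain ⟨K, hKdef⟩ : ∃ K : Matrix (Fin n) (Fin n) F, K = Matrix.of (fun i j => b j i) :=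
    ⟨_, rfl⟩
  have hKdet : K.det ≠ 0 := by
    have h1 : K = (Pi.basisFun F (Fin n)).toMatrix b := by
      rw [hKdef]
      ext i j
      simp [Basis.toMatrix_apply]
    rw [h1]
    exact Matrix.det_ne_zero_of_right_inverse (Basis.toMatrix_mul_toMatrix_flip _ _)
  have hxK : x * K = K * Matrix.diagonal (fun j => lam * δ j) := by
    ext i j
    rw [Matrix.mul_diagonal, hKdef]
    have h1 := congrFun (hxb j) i
    simp only [Matrix.mul_apply, Matrix.of_apply]
    simp only [Matrix.mulVec, dotProduct, Pi.smul_apply, smul_eq_mul] at h1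
    rw [h1]
    ring
  refine hpair x K (fun j => lam * δ j) hKdet hxK lam hlam0 (fun j => mul_ne_zero hlam0 ?_) ?_
  · intro h0
    have h1 := hδsq j
    rw [h0, mul_zero] at h1
    exact zero_ne_one h1
  · intro c
    congr 1
    apply Finset.filter_congr
    intro j _
    constructor
    · intro h
      have h1 : δ j = c := mul_left_cancel₀ hlam0 h
      show lam * δ j = lam * (c ^ q₀)⁻¹
      rw [← h1, hδpow]
      congr 1
      exact (inv_eq_of_mul_eq_one_right (hδsq j)).symm
    · intro h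
      have h1 : δ j = (c ^ q₀)⁻¹ := mul_left_cancel₀ hlam0 h
      have h2 : c ^ q₀ = δ j := by
        have h3 : (δ j)⁻¹ = c ^ q₀ := by rw [h1, inv_inv]
        rw [← h3]
        exact inv_eq_of_mul_eq_one_right (hδsq j)
      show lam * δ j = lam * c
      rw [← hcc c, h2, hδpow]

end Cfsg.Agent.Lib.helper24
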