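import Mathlib

set_option autoImplicit false

namespace Cfsg.Agent.Lib.helper25.SylMax

open Equiv Equiv.Perm MulAction

/-- `(2j+1)‼` is odd. -/
theorem odd_doubleFactorial (j : ℕ) : Odd (Nat.doubleFactorial (2 * j + 1)) := by
  induction j with
  | zero => simp [Nat.doubleFactorial]
  | succ j ih =>
    rw [show 2 * (j + 1) + 1 = (2 * j + 1) + 2 by ring, Nat.doubleFactorial_add_two]
    exact Odd.mul ⟨j + 1, by ring⟩ ih

variable {α : Type*} [Fintype α] [DecidableEq α]

/-- The number of fixed-point-free involutions of a set with `2(j+1)` elements is odd. -/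
theorem odd_card_cycleType_replicate (j : ℕ) (hα : Fintype.card α = 2 * (j + 1)) :
    Odd (Fintype.card {g : Perm α // g.cycleType = Multiset.replicate (j + 1) 2}) := by
  have h := card_of_cycleType_mul_eq α (Multiset.replicate (j + 1) 2)
  have hsum : (Multiset.replicate (j + 1) 2).sum = 2 * (j + 1) := by
    rw [Multiset.sum_replicate]; simp [mul_comm]
  have hprod : (Multiset.replicate (j + 1) 2).prod = 2 ^ (j + 1) := by
    rw [Multiset.prod_replicate]
  have htf : (Multiset.replicate (j + 1) 2).toFinset = {2} := by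
    rw [Multiset.toFinset_replicate]; simp
  rw [if_pos, hsum, hprod, htf, hα] at h
  · simp only [Nat.sub_self, Nat.factorial_zero, one_mul, Finset.prod_singleton,
      Multiset.count_replicate_self] at h
    have h2 : (2 * (j + 1)).factorial = (2 ^ (j + 1) * (j + 1).factorial) *
        Nat.doubleFactorial (2 * j + 1) := by
      rw [show 2 * (j + 1) = (2 * j + 1) + 1 by ring, Nat.factorial_eq_mul_doubleFactorial,
        show (2 * j + 1) + 1 = 2 * (j + 1) by ring, Nat.doubleFactorial_two_mul]
    rw [h2, mul_comm] at h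
    have h3 := Nat.eq_of_mul_eq_mul_left (by positivity) h
    rw [Fintype.card_subtype, h3]
    exact odd_doubleFactorial j
  · refine ⟨by rw [hsum, hα], ?_⟩
    intro a ha
    rw [Multiset.eq_of_mem_replicate ha]

/-- A 2-group of permutations of a set of even size `2(j+1)` commutes with some
fixed-point-free involution. -/
theorem exists_fpf_invol_comm (j : ℕ) (hα : Fintype.card α = 2 * (j + 1))
    (P : Subgroup (Perm α)) (hP : IsPGroup 2 P) :
    ∃ τ : Perm α, (∀ x, τ x ≠ x) ∧ τ * τ = 1 ∧ ∀ p ∈ P, p * τ = τ * p := by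
  classical
  let T := {g : Perm α // g.cycleType = Multiset.replicate (j + 1) 2}
  let _inst : MulAction P T :=
    { smul := fun p g => ⟨(p : Perm α) * g.1 * (p : Perm α)⁻¹, by
        rw [cycleType_conj]; exact g.2⟩
      one_smul := fun g => by
        apply Subtype.ext
        show ((1 : P) : Perm α) * g.1 * ((1 : P) : Perm α)⁻¹ = g.1
        simp
      mul_smul := fun p q g => by
        apply Subtype.ext
        show ((p * q : P) : Perm α) * g.1 * ((p * q : P) : Perm α)⁻¹ =
          (p : Perm α) * ((q : Perm α) * g.1 * (q : Perm α)⁻¹) * (p : Perm α)⁻¹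
        simp [mul_assoc] }
  have hodd : Odd (Nat.card T) := by
    rw [Nat.card_eq_fintype_card]
    exact odd_card_cycleType_replicate j hα
  have hne : (fixedPoints P T).Nonempty := by
    have : Fact (Nat.Prime 2) := ⟨Nat.prime_two⟩
    apply hP.nonempty_fixed_point_of_prime_not_dvd_card T
    intro h2
    exact (Nat.not_even_iff_odd.mpr hodd) (even_iff_two_dvd.mpr h2)
  obtain ⟨⟨τ, hτ⟩, hfix⟩ := hne
  refine ⟨τ, ?_, ?_, ?_⟩
  · intro x
    have hs : τ.support.card = Fintype.card α := by
      rw [← sum_cycleType, hτ, Multiset.sum_replicate, hα]; simp [mul_comm]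
    have : τ.support = Finset.univ := Finset.eq_univ_of_card _ hs
    have hx : x ∈ τ.support := by rw [this]; exact Finset.mem_univ x
    exact mem_support.mp hx
  · have hl : ∀ i : ℕ, (Multiset.replicate i 2).lcm ∣ 2 := by
      intro i
      induction i with
      | zero => simp
      | succ i ih =>
        rw [Multiset.replicate_succ, Multiset.lcm_cons]
        exact lcm_dvd dvd_rfl ih
    have ho : orderOf τ ∣ 2 := by
      rw [← lcm_cycleType, hτ]
      exact hl _
    rw [← pow_two]
    exact orderOf_dvd_iff_pow_eq_one.mp ho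
  · intro p hp
    have h1 := hfix ⟨p, hp⟩
    have h2 : (p : Perm α) * τ * (p : Perm α)⁻¹ = τ := congrArg Subtype.val h1
    calc p * τ = p * τ * p⁻¹ * p := by group
      _ = τ * p := by rw [h2]

end Cfsg.Agent.Lib.helper25.SylMax
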