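import Mathlib
import Cfsg.Agent.Lib.helper25.SylMax1

set_option autoImplicit false

namespace Cfsg.Agent.Lib.helper25.SylMax

open Equiv Equiv.Perm MulAction
open scoped Pointwise

variable {M : Type*} [Group M] {α : Type*} [MulAction M α]

/-- The `p`-part of the index of a subgroup `A` divides the index of `R ⊓ A` in a Sylow
`p`-subgroup `R`. -/
theorem sylow_pow_dvd_relIndex [Finite M] {p : ℕ} [Fact p.Prime] (R : Sylow p M)
    (A : Subgroup M) (k : ℕ) (hk : p ^ k ∣ A.index) : p ^ k ∣ A.relIndex (R : Subgroup M) := by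
  have h1 : ((R : Subgroup M) ⊓ A).relIndex R * (R : Subgroup M).index =
      ((R : Subgroup M) ⊓ A).index := Subgroup.relIndex_mul_index inf_le_left
  have h2 : ((R : Subgroup M) ⊓ A).relIndex A * A.index = ((R : Subgroup M) ⊓ A).index :=
    Subgroup.relIndex_mul_index inf_le_right
  have h3 : p ^ k ∣ ((R : Subgroup M) ⊓ A).relIndex R * (R : Subgroup M).index := by
    rw [h1, ← h2]; exact Dvd.dvd.mul_left hk _
  have hcop : Nat.Coprime (p ^ k) (R : Subgroup M).index :=
    Nat.Coprime.pow_left _ ((Nat.Prime.coprime_iff_not_dvd Fact.out).mpr R.not_dvd_index)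
  have h4 := hcop.dvd_of_dvd_mul_right h3
  rwa [Subgroup.inf_relIndex_left] at h4

/-- A 2-group acting on a set of odd size has a fixed point. -/
theorem exists_fixed_of_odd [Finite α] (R : Subgroup M) (hR : IsPGroup 2 R)
    (hodd : Odd (Nat.card α)) : ∃ x₀ : α, ∀ r ∈ R, r • x₀ = x₀ := by
  have : Fact (Nat.Prime 2) := ⟨Nat.prime_two⟩
  obtain ⟨x₀, hx₀⟩ := hR.nonempty_fixed_point_of_prime_not_dvd_card α
    (fun h => (Nat.not_even_iff_odd.mpr hodd) (even_iff_two_dvd.mpr h))
  exact ⟨x₀, fun r hr => hx₀ ⟨r, hr⟩⟩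

/-- In a 2-transitive group of degree `2^k+1`, a Sylow 2-subgroup fixing `x₀` is transitive on
the remaining points. -/
theorem trans_off_fixed [Finite M] [Fintype α] [DecidableEq α] [IsMultiplyPretransitive M α 2]
    (k : ℕ) (hn : Fintype.card α = 2 ^ k + 1) (R : Sylow 2 M) (x₀ : α)
    (hfix : ∀ r ∈ (R : Subgroup M), r • x₀ = x₀) (y z : α) (hy : y ≠ x₀) (hz : z ≠ x₀) :
    ∃ r ∈ (R : Subgroup M), r • y = z := by
  set A : Subgroup M := stabilizer M x₀ ⊓ stabilizer M y with hAdef
  have hA : A = stabilizer M ((x₀, y) : α × α) := by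
    ext m
    simp [hAdef, mem_stabilizer_iff, Prod.ext_iff]
  have horb : orbit M ((x₀, y) : α × α) = ((Finset.univ : Finset α).offDiag : Set (α × α)) := by
    ext ⟨a, b⟩
    simp only [Finset.coe_offDiag, Finset.coe_univ, Set.mem_offDiag, Set.mem_univ, true_and]
    constructor
    · rintro ⟨m, hm⟩
      simp only [Prod.smul_mk, Prod.mk.injEq] at hm
      obtain ⟨rfl, rfl⟩ := hm
      exact fun h => hy.symm (MulAction.injective m h)
    · intro hab
      obtain ⟨m, h1, h2⟩ := ((is_two_pretransitive_iff (G := M)).mp inferInstance) hy.symm hab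
      exact ⟨m, by simp [h1, h2]⟩
  have hidx : A.index = (2 ^ k + 1) * 2 ^ k := by
    rw [hA, index_stabilizer, horb, Set.ncard_coe_finset, Finset.offDiag_card, Finset.card_univ, hn]
    have : (2 ^ k + 1) * (2 ^ k + 1) = (2 ^ k + 1) * 2 ^ k + (2 ^ k + 1) := by ring
    omega
  have hdvd : 2 ^ k ∣ A.relIndex R :=
    sylow_pow_dvd_relIndex R A k (by rw [hidx]; exact dvd_mul_left _ _)
  have hstab : stabilizer (↥(R : Subgroup M)) y = A.subgroupOf R := by
    ext ⟨r, hr⟩
    simp only [mem_stabilizer_iff, Subgroup.mem_subgroupOf, hAdef, Subgroup.mem_inf]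
    constructor
    · intro h; exact ⟨hfix r hr, h⟩
    · intro h; exact h.2
  have hcard : (orbit (↥(R : Subgroup M)) y).ncard = A.relIndex R := by
    rw [← index_stabilizer, hstab]; rfl
  have hsub : orbit (↥(R : Subgroup M)) y ⊆ ({x₀}ᶜ : Set α) := by
    rintro _ ⟨⟨r, hr⟩, rfl⟩ h
    apply hy
    have h1 : r • y = x₀ := h
    have h2 : r • y = r • x₀ := by rw [h1, hfix r hr]
    exact MulAction.injective r h2
  have hpos : 0 < A.relIndex R := by
    have : (A.subgroupOf (R : Subgroup M)).index ≠ 0 := Subgroup.index_ne_zero_of_finite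
    exact Nat.pos_of_ne_zero this
  have hle : 2 ^ k ≤ (orbit (↥(R : Subgroup M)) y).ncard := by
    rw [hcard]; exact Nat.le_of_dvd hpos hdvd
  have heq : orbit (↥(R : Subgroup M)) y = ({x₀}ᶜ : Set α) := by
    apply Set.eq_of_subset_of_ncard_le hsub _ (Set.toFinite _)
    rw [Set.ncard_compl, Set.ncard_singleton, Nat.card_eq_fintype_card, hn]
    simpa using hle
  have hzmem : z ∈ orbit (↥(R : Subgroup M)) y := by rw [heq]; exact hz
  obtain ⟨⟨r, hr⟩, hrz⟩ := hzmem
  exact ⟨r, hr, hrz⟩

/-- A subgroup `J` containing a subgroup `R` that fixes `x₀` and is transitive on the other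
points, and containing an element moving `x₀`, acts primitively. -/
theorem prim_of_trans_off (J R : Subgroup M) (hRJ : R ≤ J) (x₀ : α)
    (htr : ∀ y z : α, y ≠ x₀ → z ≠ x₀ → ∃ r ∈ R, r • y = z)
    (hfix : ∀ r ∈ R, r • x₀ = x₀)
    (g : M) (hg : g ∈ J) (hgx : g • x₀ ≠ x₀) : IsPreprimitive J α := by
  apply IsPreprimitive.of_isTrivialBlock_of_notMem_fixedPoints (a := x₀)
  · intro h
    exact hgx (h ⟨g, hg⟩)
  · intro B hxB hB
    by_cases hsub : ∀ y ∈ B, y = x₀
    · left
      intro a ha b hb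
      rw [hsub a ha, hsub b hb]
    · right
      push Not at hsub
      obtain ⟨y, hyB, hy⟩ := hsub
      apply Set.eq_univ_of_forall
      intro z
      by_cases hz : z = x₀
      · rw [hz]; exact hxB
      · obtain ⟨r, hr, hrz⟩ := htr y z hy hz
        have hrB : (⟨r, hRJ hr⟩ : J) • B = B := by
          apply (isBlock_iff_smul_eq_of_nonempty.mp hB)
          refine ⟨x₀, ⟨x₀, hxB, ?_⟩, hxB⟩
          exact hfix r hr
        rw [← hrB, ← hrz]
        exact ⟨y, hyB, rfl⟩

/-- Disjoint swaps commute. -/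
theorem swap_mul_swap_comm' {β : Type*} [DecidableEq β] {a b c d : β} (hac : a ≠ c) (had : a ≠ d)
    (hbc : b ≠ c) (hbd : b ≠ d) : swap a b * swap c d = swap c d * swap a b := by
  have h := swap_apply_apply (swap c d) a b
  rw [swap_apply_of_ne_of_ne hac had, swap_apply_of_ne_of_ne hbc hbd] at h
  calc swap a b * swap c d = swap c d * swap a b * (swap c d)⁻¹ * swap c d := by rw [← h]
    _ = swap c d * swap a b := by group

/-- Given a fixed-point-free involution `τ` and `x ≠ y`, there is an even permutation commuting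
with `τ`, mapping `x` to `y` and moving at most four points. -/
theorem exists_comm_move {β : Type*} [Fintype β] [DecidableEq β] (τ : Perm β)
    (hfpf : ∀ x, τ x ≠ x) (hinv : τ * τ = 1) (hcard : 3 ≤ Fintype.card β) (x y : β)
    (hxy : x ≠ y) :
    ∃ π : Perm β, π ∈ alternatingGroup β ∧ π * τ = τ * π ∧ π x = y ∧
      ∃ F : Finset β, F.card ≤ 4 ∧ x ∈ F ∧ y ∈ F ∧ ∀ w, w ∉ F → π w = w := by
  have hττ : ∀ a, τ (τ a) = a := fun a => by
    have := congrArg (fun f : Perm β => f a) hinv
    simpa using this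
  have hconj : ∀ a b : β, τ * swap a b = swap (τ a) (τ b) * τ := fun a b => by
    rw [swap_apply_apply]; group
  by_cases hy : y = τ x
  · -- need a third point
    have : ∃ z, z ≠ x ∧ z ≠ τ x := by
      by_contra hcon
      push Not at hcon
      have hsub : (Finset.univ : Finset β) ⊆ {x, τ x} := by
        intro z _
        by_cases hz : z = x
        · simp [hz]
        · simp [hcon z hz]
      have := Finset.card_le_card hsub
      have h2 : ({x, τ x} : Finset β).card ≤ 2 := Finset.card_le_two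
      rw [Finset.card_univ] at this
      omega
    obtain ⟨z, hzx, hzx'⟩ := this
    have hz1 : τ z ≠ x := fun h => hzx' (by rw [← h, hττ])
    have hz2 : τ z ≠ τ x := fun h => hzx (τ.injective h)
    refine ⟨swap x (τ x) * swap z (τ z), ?_, ?_, ?_, {x, τ x, z, τ z}, Finset.card_le_four, ?_, ?_, ?_⟩
    · rw [mem_alternatingGroup, Perm.sign_mul, sign_swap (hfpf x).symm, sign_swap (hfpf z).symm]
      rfl
    · symm
      rw [← mul_assoc, hconj, mul_assoc, hconj, hττ, hττ, ← mul_assoc, swap_comm (τ x) x,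
        swap_comm (τ z) z]
    · rw [Perm.mul_apply, swap_apply_of_ne_of_ne hzx.symm hz1.symm, swap_apply_left, hy]
    · simp
    · simp [hy]
    · intro w hw
      simp only [Finset.mem_insert, Finset.mem_singleton, not_or] at hw
      rw [Perm.mul_apply, swap_apply_of_ne_of_ne hw.2.2.1 hw.2.2.2,
        swap_apply_of_ne_of_ne hw.1 hw.2.1]
  · have h1 : τ y ≠ x := fun h => hy (by rw [← h, hττ])
    have h2 : τ x ≠ τ y := fun h => hxy (τ.injective h)
    refine ⟨swap x y * swap (τ x) (τ y), ?_, ?_, ?_, {x, y, τ x, τ y}, Finset.card_le_four, ?_, ?_, ?_⟩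
    · rw [mem_alternatingGroup, Perm.sign_mul, sign_swap hxy, sign_swap h2]
      rfl
    · symm
      rw [← mul_assoc, hconj, mul_assoc, hconj, hττ, hττ, ← mul_assoc]
      congr 1
      exact swap_mul_swap_comm' (hfpf x) (Ne.symm hy) h1 (hfpf y)
    · rw [Perm.mul_apply, swap_apply_of_ne_of_ne (hfpf x).symm h1.symm, swap_apply_left]
    · simp
    · simp
    · intro w hw
      simp only [Finset.mem_insert, Finset.mem_singleton, not_or] at hw
      rw [Perm.mul_apply, swap_apply_of_ne_of_ne hw.2.2.1 hw.2.2.2,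
        swap_apply_of_ne_of_ne hw.1 hw.2.1]

end Cfsg.Agent.Lib.helper25.SylMax
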