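import Mathlib
import Cfsg.Agent.Lib.helper25.SylMax2

set_option autoImplicit false

namespace Cfsg.Agent.Lib.helper25.SylMax

open Equiv Equiv.Perm MulAction
open scoped Pointwise

/-- Abstract properties shared by the symmetric and alternating groups acting on `α`. -/
structure Host (M : Type*) (α : Type*) [Group M] [MulAction M α] [Fintype α] [DecidableEq α] :
    Prop where
  alt : ∀ π : Perm α, π ∈ alternatingGroup α → ∃ m : M, ∀ x, m • x = π x
  coatom : ∀ s : Set α, s.Nonempty → sᶜ.Nonempty → Nat.card α ≠ 2 * s.ncard →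
    IsCoatom (stabilizer M s)
  surj : ∀ s : Set α, sᶜ.Nontrivial →
    Function.Surjective (MulAction.toPerm : stabilizer M s → Perm s)
  mt : ∀ k, k + 2 ≤ Nat.card α → IsMultiplyPretransitive M α k
  primtop : ∀ (J : Subgroup M) (s : Set α), s.Nontrivial → IsPreprimitive J α →
    stabilizer M s ≤ J → J = ⊤
  moves : ∀ (s : Set α), ∀ a ∈ s, ∀ b ∈ s, ∃ g ∈ stabilizer M s, g • a = b

variable {M : Type*} [Group M] {α : Type*} [MulAction M α] [Fintype α] [DecidableEq α]

/-- A subgroup containing the stabilizer of a half-size set `X` together with an element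
that breaks both `X` and its complement as blocks is primitive. -/
theorem prim_of_halving (H : Host M α) (J : Subgroup M) (X : Set α)
    (hX : 2 * X.ncard = Nat.card α) (hX3 : 3 ≤ X.ncard) (hJ : stabilizer M X ≤ J)
    (σ : M) (hσ : σ ∈ J) (x : α) (hx : x ∈ X) (hσx : σ • x ∉ X)
    (w : α) (hw : w ∈ X) (hσw : σ • w = w) (w' : α) (hw' : w' ∉ X) (hσw' : σ • w' = w') :
    IsPreprimitive J α := by
  have hXc : Xᶜ.ncard = X.ncard := by
    have := Set.ncard_add_ncard_compl X
    omega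
  have hXnt : X.Nontrivial := by
    rw [← Set.one_lt_ncard_iff_nontrivial]; omega
  have hXcnt : Xᶜ.Nontrivial := by
    rw [← Set.one_lt_ncard_iff_nontrivial]; omega
  have hlt : stabilizer M X < J := by
    refine lt_of_le_of_ne hJ ?_
    intro h
    have h1 : σ ∈ stabilizer M X := h ▸ hσ
    rw [mem_stabilizer_iff] at h1
    apply hσx
    rw [← h1]
    exact Set.smul_mem_smul_set hx
  have htr : IsPretransitive J α :=
    Subgroup.isPretransitive_of_stabilizer_lt hlt (fun {s} a ha b hb => H.moves s a ha b hb)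
  have hnbX : ¬ IsBlock J X := by
    intro hb
    rcases isBlock_iff_smul_eq_or_disjoint.mp hb ⟨σ, hσ⟩ with h | h
    · apply hσx
      rw [← h]
      exact ⟨x, hx, rfl⟩
    · exact Set.disjoint_left.mp h (show w ∈ (⟨σ, hσ⟩ : J) • X from ⟨w, hw, hσw⟩) hw
  have hnbXc : ¬ IsBlock J Xᶜ := by
    intro hb
    rcases isBlock_iff_smul_eq_or_disjoint.mp hb ⟨σ, hσ⟩ with h | h
    · have h1 : σ • x ∈ Xᶜ := hσx
      rw [← h] at h1
      obtain ⟨z, hz, hzx⟩ := h1
      have hzx' : σ • z = σ • x := hzx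
      have : z = x := MulAction.injective σ hzx'
      rw [this] at hz
      exact hz hx
    · exact Set.disjoint_left.mp h (show w' ∈ (⟨σ, hσ⟩ : J) • Xᶜ from ⟨w', hw', hσw'⟩) hw'
  have hsurjX : Function.Surjective (MulAction.toPerm : stabilizer J X → Perm X) := by
    intro g
    obtain ⟨⟨k, hk⟩, rfl⟩ := H.surj X hXcnt g
    let h : J := ⟨k, hJ hk⟩
    have hh : h ∈ stabilizer J X := by
      rw [mem_stabilizer_iff]
      exact hk
    exact ⟨⟨h, hh⟩, rfl⟩
  have hsurjXc : Function.Surjective (MulAction.toPerm : stabilizer J Xᶜ → Perm ↥Xᶜ) := by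
    intro g
    obtain ⟨⟨k, hk⟩, rfl⟩ := H.surj Xᶜ (by rwa [compl_compl]) g
    have hk' : k ∈ stabilizer M X := by rwa [stabilizer_compl] at hk
    let h : J := ⟨k, hJ hk'⟩
    have hh : h ∈ stabilizer J Xᶜ := by
      rw [mem_stabilizer_iff]
      exact hk
    exact ⟨⟨h, hh⟩, rfl⟩
  apply IsPreprimitive.mk
  intro B hB
  unfold IsTrivialBlock
  rw [or_iff_not_imp_left]
  intro hB'
  have hBX : ¬ B ⊆ X := by
    intro hsub
    apply hB'
    have hss : B ⊂ X := hsub.ssubset_of_ne (fun h => hnbX (h ▸ hB))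
    exact hB.subsingleton_of_ssubset_of_stabilizer_le hss hsurjX
  have hBXc : ¬ B ⊆ Xᶜ := by
    intro hsub
    apply hB'
    have hss : B ⊂ Xᶜ := hsub.ssubset_of_ne (fun h => hnbXc (h ▸ hB))
    exact hB.subsingleton_of_ssubset_of_stabilizer_le hss hsurjXc
  have hmt : IsMultiplyPretransitive M α (X.ncard + 1) := H.mt _ (by omega)
  have hsub : Xᶜ ⊆ B :=
    MulAction.IsBlock.compl_subset_of_stabilizer_le_of_not_subset_of_not_subset_compl hJ hBX hBXc hB
  have hss : Xᶜ ⊂ B := hsub.ssubset_of_ne (fun h => hnbXc (h ▸ hB))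
  apply hB.eq_univ_of_card_lt
  have : Xᶜ.ncard < B.ncard := Set.ncard_lt_ncard hss (Set.toFinite B)
  omega

/-- If `R` lies in a unique coatom `J`, then every proper subgroup containing `R` lies in `J`. -/
theorem le_of_unique [Finite M] (R : Subgroup M) (h : ∃! J : Subgroup M, IsCoatom J ∧ R ≤ J) :
    ∃ J : Subgroup M, IsCoatom J ∧ R ≤ J ∧ ∀ K : Subgroup M, R ≤ K → K ≠ ⊤ → K ≤ J := by
  obtain ⟨J, ⟨hJ, hRJ⟩, huniq⟩ := h
  refine ⟨J, hJ, hRJ, fun K hRK hK => ?_⟩
  rcases eq_top_or_exists_le_coatom K with h | ⟨J', hJ', hKJ'⟩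
  · exact absurd h hK
  · have := huniq J' ⟨hJ', hRK.trans hKJ'⟩
    rw [← this]; exact hKJ'

/-- Odd degree not of the form `2^k+1`: two distinct coatoms contain a Sylow 2-subgroup. -/
theorem two_coatoms_odd [Finite M] (H : Host M α) (R : Sylow 2 M) (hodd : Odd (Fintype.card α))
    (hn : 5 ≤ Fintype.card α) (hne : ¬ ∃ k, 2 ≤ k ∧ Fintype.card α = 2 ^ k + 1) :
    ¬ ∃! J : Subgroup M, IsCoatom J ∧ (R : Subgroup M) ≤ J := by
  intro huniq
  have hprime : Fact (Nat.Prime 2) := ⟨Nat.prime_two⟩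
  have hcard : Nat.card α = Fintype.card α := Nat.card_eq_fintype_card
  obtain ⟨x₀, hx₀⟩ := exists_fixed_of_odd (R : Subgroup M) R.isPGroup' (by rw [hcard]; exact hodd)
  have : ∃ y, y ≠ x₀ := by
    by_contra hcon
    push Not at hcon
    have : Fintype.card α ≤ 1 := Fintype.card_le_one_iff.mpr (fun a b => by rw [hcon a, hcon b])
    omega
  obtain ⟨y, hy⟩ := this
  set O : Set α := orbit (↥(R : Subgroup M)) y with hO
  have hyO : y ∈ O := mem_orbit_self y
  have hx₀O : x₀ ∉ O := by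
    rintro ⟨⟨r, hr⟩, hrx⟩
    have h1 : r • y = x₀ := hrx
    have h2 : r • y = r • x₀ := by rw [h1, hx₀ r hr]
    exact hy (MulAction.injective r h2)
  obtain ⟨m, hm⟩ := (R.isPGroup').card_orbit y
  have hOcard : O.ncard = 2 ^ m := by rw [← hm, Nat.card_coe_set_eq]
  have : ∃ v, v ∉ O ∧ v ≠ x₀ := by
    by_contra hcon
    push Not at hcon
    have hOc : Oᶜ = {x₀} := by
      ext v
      constructor
      · intro hv; exact hcon v hv
      · intro hv; rw [Set.mem_singleton_iff.mp hv]; exact hx₀O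
    have h1 := Set.ncard_add_ncard_compl O
    rw [hOc, Set.ncard_singleton, hOcard, hcard] at h1
    apply hne
    refine ⟨m, ?_, h1.symm⟩
    by_contra hm2
    have hm1 : m ≤ 1 := by omega
    have : 2 ^ m ≤ 2 ^ 1 := Nat.pow_le_pow_right (by norm_num) hm1
    omega
  obtain ⟨v, hvO, hv⟩ := this
  have hJ1 : IsCoatom (stabilizer M ({x₀} : Set α)) := by
    apply H.coatom _ (Set.singleton_nonempty x₀)
    · exact ⟨y, hy⟩
    · rw [Set.ncard_singleton, hcard]; omega
  have hJ2 : IsCoatom (stabilizer M O) := by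
    apply H.coatom _ ⟨y, hyO⟩ ⟨x₀, hx₀O⟩
    rw [hcard]
    intro h
    rw [h] at hodd
    exact (Nat.not_even_iff_odd.mpr hodd) (even_two_mul _)
  have hR1 : (R : Subgroup M) ≤ stabilizer M ({x₀} : Set α) := by
    intro r hr
    rw [mem_stabilizer_iff, Set.smul_set_singleton, hx₀ r hr]
  have hR2 : (R : Subgroup M) ≤ stabilizer M O := by
    intro r hr
    rw [mem_stabilizer_iff]
    exact smul_orbit (⟨r, hr⟩ : (R : Subgroup M)) y
  have heq : stabilizer M ({x₀} : Set α) = stabilizer M O :=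
    huniq.unique ⟨hJ1, hR1⟩ ⟨hJ2, hR2⟩
  obtain ⟨g, hg, hgy⟩ := H.moves ({x₀}ᶜ : Set α) y hy v hv
  rw [stabilizer_compl, heq, mem_stabilizer_iff] at hg
  have h3 : g • y ∈ g • O := Set.smul_mem_smul_set hyO
  rw [hg, hgy] at h3
  exact hvO h3

/-- A transitive 2-group preserves a partition into two halves. -/
theorem halving_of_trans {G : Type*} [Group G] [Finite G] {β : Type*} [MulAction G β] [Finite β]
    (hG : IsPGroup 2 G) [IsPretransitive G β] (hn : 2 ≤ Nat.card β) :
    ∃ X : Set β, 2 * X.ncard = Nat.card β ∧ ∀ g : G, g • X = X ∨ g • X = Xᶜ := by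
  have hprime : Fact (Nat.Prime 2) := ⟨Nat.prime_two⟩
  have hne : Nonempty β := by
    rw [← Finite.card_pos_iff]; omega
  obtain ⟨x⟩ := hne
  set S : Subgroup G := stabilizer G x with hS
  have hidx : S.index = Nat.card β := index_stabilizer_of_transitive G x
  obtain ⟨a, ha⟩ := IsPGroup.iff_card.mp hG
  obtain ⟨b, hb⟩ := IsPGroup.iff_card.mp (hG.to_subgroup S)
  have hmul : Nat.card S * S.index = Nat.card G := S.card_mul_index
  rw [hb, ha, hidx] at hmul
  have hba : b < a := by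
    by_contra hcon
    have h1 : 2 ^ a ≤ 2 ^ b := Nat.pow_le_pow_right (by norm_num) (by omega)
    have h2 : 2 ^ b * 2 ≤ 2 ^ b * Nat.card β := Nat.mul_le_mul_left _ hn
    have h3 : 0 < 2 ^ b := by positivity
    omega
  obtain ⟨K, hK, hSK⟩ := Sylow.exists_subgroup_card_pow_prime_le 2 (n := b) (m := a - 1)
    (by rw [ha]; exact pow_dvd_pow 2 (by omega)) S hb (by omega)
  have hKidx : K.index = 2 := by
    have h := K.card_mul_index
    rw [hK, ha] at h
    have h2 : 2 ^ a = 2 ^ (a - 1) * 2 := by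
      rw [← pow_succ]; congr 1; omega
    rw [h2] at h
    exact Nat.eq_of_mul_eq_mul_left (by positivity) h
  have hstab : stabilizer (↥K) x = S.subgroupOf K := by
    ext ⟨k, hk⟩
    simp only [mem_stabilizer_iff, Subgroup.mem_subgroupOf, hS]
    rfl
  have hXcard : (orbit (↥K) x).ncard * 2 = Nat.card β := by
    have h := Subgroup.relIndex_mul_index hSK
    rw [hKidx, hidx] at h
    have h' : (orbit (↥K) x).ncard = S.relIndex K := by
      rw [← index_stabilizer, hstab]; rfl
    rw [h']; exact h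
  refine ⟨orbit (↥K) x, by omega, fun g => ?_⟩
  by_cases hg : g ∈ K
  · left; exact smul_orbit (⟨g, hg⟩ : K) x
  · right
    have hsub : g • orbit (↥K) x ⊆ (orbit (↥K) x)ᶜ := by
      rintro _ ⟨_, ⟨⟨k, hk⟩, rfl⟩, rfl⟩ ⟨⟨k', hk'⟩, hk'x⟩
      apply hg
      have h1 : k' • x = g • k • x := hk'x
      have h2 : (k'⁻¹ * g * k) ∈ S := by
        rw [hS, mem_stabilizer_iff, mul_smul, mul_smul, ← h1, inv_smul_smul]
      have h3 : k'⁻¹ * g * k ∈ K := hSK h2
      have h4 : g = k' * (k'⁻¹ * g * k) * k⁻¹ := by group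
      rw [h4]
      exact K.mul_mem (K.mul_mem hk' h3) (K.inv_mem hk)
    apply Set.eq_of_subset_of_ncard_le hsub
    have h1 := Set.ncard_add_ncard_compl (orbit (↥K) x)
    have h2 : (g • orbit (↥K) x).ncard = (orbit (↥K) x).ncard :=
      Set.ncard_image_of_injective _ (MulAction.injective g)
    omega

end Cfsg.Agent.Lib.helper25.SylMax
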