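import Mathlib
import Cfsg.Agent.Lib.helper25.SylMax3

set_option autoImplicit false

namespace Cfsg.Agent.Lib.helper25.SylMax

open Equiv Equiv.Perm MulAction
open scoped Pointwise

variable {M : Type*} [Group M] {α : Type*} [MulAction M α] [Fintype α] [DecidableEq α]

/-- Even degree at least 8: a Sylow 2-subgroup is not contained in a unique coatom. -/
theorem false_of_unique_even [Finite M] (H : Host M α) (j : ℕ) (hj : 3 ≤ j)
    (hα : Fintype.card α = 2 * (j + 1)) (R : Sylow 2 M) (J : Subgroup M) (hJ : IsCoatom J)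
    (huniq : ∀ K : Subgroup M, (R : Subgroup M) ≤ K → K ≠ ⊤ → K ≤ J) : False := by
  have hcard : Nat.card α = Fintype.card α := Nat.card_eq_fintype_card
  have hP : IsPGroup 2 ((R : Subgroup M).map (MulAction.toPermHom M α)) := R.isPGroup'.map _
  obtain ⟨τ, hfpf, hinv, hcomm⟩ := exists_fpf_invol_comm j hα _ hP
  have hττ : ∀ a, τ (τ a) = a := fun a => by
    have := congrArg (fun f : Perm α => f a) hinv
    simpa using this
  let Cτ : Subgroup M :=
    { carrier := {m | ∀ x, m • τ x = τ (m • x)}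
      mul_mem' := fun {a b} ha hb x => by
        rw [mul_smul, hb x, ha (b • x), mul_smul]
      one_mem' := fun x => by simp
      inv_mem' := fun {a} ha x => by
        have := ha (a⁻¹ • x)
        rw [smul_inv_smul] at this
        rw [← this, inv_smul_smul] }
  have hRC : (R : Subgroup M) ≤ Cτ := by
    intro r hr x
    have h := hcomm (MulAction.toPermHom M α r) (Subgroup.mem_map_of_mem _ hr)
    have h' : (MulAction.toPermHom M α r) (τ x) = τ ((MulAction.toPermHom M α r) x) :=
      congrArg (fun f : Perm α => f x) h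
    exact h'
  have hmove : ∀ a b : α, a ≠ b → ∃ m ∈ Cτ, m • a = b ∧
      ∃ F : Finset α, F.card ≤ 4 ∧ a ∈ F ∧ b ∈ F ∧ ∀ w, w ∉ F → m • w = w := by
    intro a b hab
    obtain ⟨π, hπ, hπτ, hπa, F, hF, haF, hbF, hFfix⟩ :=
      exists_comm_move τ hfpf hinv (by omega) a b hab
    obtain ⟨m, hm⟩ := H.alt π hπ
    refine ⟨m, ?_, by rw [hm, hπa], F, hF, haF, hbF, fun w hw => by rw [hm, hFfix w hw]⟩
    intro x
    rw [hm, hm]
    have h' : π (τ x) = τ (π x) := congrArg (fun f : Perm α => f x) hπτ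
    exact h'
  have hCtop : Cτ ≠ ⊤ := by
    intro htop
    obtain ⟨x⟩ : Nonempty α := by
      rw [← Fintype.card_pos_iff]; omega
    have : ∃ z, z ≠ x ∧ z ≠ τ x := by
      by_contra hcon
      push Not at hcon
      have hsub : (Finset.univ : Finset α) ⊆ {x, τ x} := by
        intro z _
        by_cases hz : z = x
        · simp [hz]
        · simp [hcon z hz]
      have := Finset.card_le_card hsub
      have h2 : ({x, τ x} : Finset α).card ≤ 2 := Finset.card_le_two
      rw [Finset.card_univ] at this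
      omega
    obtain ⟨z, hzx, hzτ⟩ := this
    obtain ⟨m, hm⟩ := H.alt (swap x z * swap z (τ x)) (by
      rw [mem_alternatingGroup, Perm.sign_mul, sign_swap hzx.symm, sign_swap hzτ]; rfl)
    have hmC : m ∈ Cτ := htop ▸ Subgroup.mem_top m
    have h1 := hmC x
    rw [hm, hm] at h1
    have e1 : (swap x z * swap z (τ x)) (τ x) = x := by
      rw [Perm.mul_apply, swap_apply_right, swap_apply_right]
    have e2 : (swap x z * swap z (τ x)) x = z := by
      rw [Perm.mul_apply, swap_apply_of_ne_of_ne hzx.symm (hfpf x).symm, swap_apply_left]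
    rw [e1, e2] at h1
    apply hzτ
    rw [h1, hττ]
  have hCJ : Cτ ≤ J := huniq Cτ hRC hCtop
  have hhalf : ∀ O : Set α, O.Nonempty → Oᶜ.Nonempty →
      (∀ r ∈ (R : Subgroup M), r • O = O) → 2 * O.ncard = Nat.card α := by
    intro O hO hOc hRO
    by_contra hne
    have hco : IsCoatom (stabilizer M O) := H.coatom O hO hOc (fun h => hne h.symm)
    have hle : stabilizer M O ≤ J := huniq _ (fun r hr => hRO r hr) hco.1
    have heq : J = stabilizer M O := by
      rcases hco.le_iff.mp hle with h | h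
      · exact absurd h hJ.1
      · exact h
    obtain ⟨a, ha⟩ := hO
    obtain ⟨b, hb⟩ := hOc
    have hab : a ≠ b := fun h => hb (h ▸ ha)
    obtain ⟨m, hm, hma, -⟩ := hmove a b hab
    have hmJ : m ∈ stabilizer M O := heq ▸ hCJ hm
    rw [mem_stabilizer_iff] at hmJ
    have h3 : m • a ∈ m • O := Set.smul_mem_smul_set ha
    rw [hmJ, hma] at h3
    exact hb h3
  have hX : ∃ X : Set α, 2 * X.ncard = Nat.card α ∧
      ∀ r ∈ (R : Subgroup M), r • X = X ∨ r • X = Xᶜ := by
    by_cases htr : IsPretransitive (↥(R : Subgroup M)) α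
    · obtain ⟨X, hX1, hX2⟩ := halving_of_trans (G := ↥(R : Subgroup M)) (β := α) R.isPGroup'
        (by rw [hcard]; omega)
      exact ⟨X, hX1, fun r hr => hX2 ⟨r, hr⟩⟩
    · obtain ⟨x⟩ : Nonempty α := by
        rw [← Fintype.card_pos_iff]; omega
      have hinvO : ∀ r ∈ (R : Subgroup M),
          r • orbit (↥(R : Subgroup M)) x = orbit (↥(R : Subgroup M)) x :=
        fun r hr => smul_orbit (⟨r, hr⟩ : (R : Subgroup M)) x
      have hOc : (orbit (↥(R : Subgroup M)) x)ᶜ.Nonempty := by
        by_contra hcon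
        rw [Set.not_nonempty_iff_eq_empty, Set.compl_empty_iff] at hcon
        apply htr
        rw [isPretransitive_iff_base x]
        intro y
        have hy : y ∈ orbit (↥(R : Subgroup M)) x := hcon ▸ Set.mem_univ y
        exact hy
      exact ⟨_, hhalf _ ⟨x, mem_orbit_self x⟩ hOc hinvO, fun r hr => Or.inl (hinvO r hr)⟩
  obtain ⟨X, hX1, hX2⟩ := hX
  have hXc : Xᶜ.ncard = X.ncard := by
    have := Set.ncard_add_ncard_compl X
    omega
  have hX4 : 4 ≤ X.ncard := by rw [hcard, hα] at hX1; omega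
  let K₁ : Subgroup M :=
    { carrier := {m | m • X = X ∨ m • X = Xᶜ}
      mul_mem' := fun {a b} ha hb => by
        show (a * b) • X = X ∨ (a * b) • X = Xᶜ
        rw [mul_smul]
        rcases hb with hb | hb <;> rcases ha with ha | ha
        · left; rw [hb, ha]
        · right; rw [hb, ha]
        · right; rw [hb, Set.smul_set_compl, ha]
        · left; rw [hb, Set.smul_set_compl, ha, compl_compl]
      one_mem' := Or.inl (one_smul _ _)
      inv_mem' := fun {a} ha => by
        show a⁻¹ • X = X ∨ a⁻¹ • X = Xᶜ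
        rcases ha with ha | ha
        · left; rw [inv_smul_eq_iff, ha]
        · right; rw [inv_smul_eq_iff, Set.smul_set_compl, ha, compl_compl] }
  have hRK : (R : Subgroup M) ≤ K₁ := fun r hr => hX2 r hr
  have hSK : stabilizer M X ≤ K₁ := fun m hm => Or.inl hm
  have hXnt : ∃ x₁ ∈ X, ∃ x₂ ∈ X, x₁ ≠ x₂ := by
    have h1 : 1 < X.ncard := by omega
    obtain ⟨a, b, ha, hb, hab⟩ := (Set.one_lt_ncard_iff (Set.toFinite X)).mp h1
    exact ⟨a, ha, b, hb, hab⟩
  have hXne : X.Nonempty := by rw [← Set.ncard_pos]; omega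
  have hXcne : Xᶜ.Nonempty := by rw [← Set.ncard_pos]; omega
  have hKtop : K₁ ≠ ⊤ := by
    intro htop
    obtain ⟨x₁, hx₁, x₂, hx₂, h12⟩ := hXnt
    obtain ⟨y, hy⟩ := hXcne
    have hy2 : y ≠ x₂ := fun h => hy (h ▸ hx₂)
    obtain ⟨g, hg, hgx⟩ := H.moves ({x₂}ᶜ : Set α) x₁ h12 y hy2
    rw [stabilizer_compl, mem_stabilizer_iff, Set.smul_set_singleton,
      Set.singleton_eq_singleton_iff] at hg
    have hgK : g ∈ K₁ := htop ▸ Subgroup.mem_top g
    have h1 : y ∈ g • X := by rw [← hgx]; exact Set.smul_mem_smul_set hx₁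
    have h2 : x₂ ∈ g • X := by
      have h3 : g • x₂ ∈ g • X := Set.smul_mem_smul_set hx₂
      rwa [hg] at h3
    rcases hgK with h | h
    · rw [h] at h1; exact hy h1
    · rw [h] at h2; exact h2 hx₂
  have hKJ : K₁ ≤ J := huniq K₁ hRK hKtop
  have hSJ : stabilizer M X ≤ J := hSK.trans hKJ
  obtain ⟨x, hx⟩ := hXne
  obtain ⟨y, hy⟩ := hXcne
  have hxy : x ≠ y := fun h => hy (h ▸ hx)
  obtain ⟨σ, hσC, hσx, F, hF, hxF, hyF, hFfix⟩ := hmove x y hxy
  have hw : ∃ w ∈ X, σ • w = w := by
    by_contra hcon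
    push Not at hcon
    have hsub : X ⊆ ((F.erase y : Finset α) : Set α) := by
      intro w hwX
      rw [Finset.mem_coe, Finset.mem_erase]
      refine ⟨fun h => hy (h ▸ hwX), ?_⟩
      by_contra hwF
      exact hcon w hwX (hFfix w hwF)
    have h1 := Set.ncard_le_ncard hsub (Finset.finite_toSet _)
    rw [Set.ncard_coe_finset, Finset.card_erase_of_mem hyF] at h1
    omega
  have hw' : ∃ w', w' ∉ X ∧ σ • w' = w' := by
    by_contra hcon
    push Not at hcon
    have hsub : Xᶜ ⊆ ((F.erase x : Finset α) : Set α) := by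
      intro w hwX
      rw [Finset.mem_coe, Finset.mem_erase]
      refine ⟨fun h => hwX (h ▸ hx), ?_⟩
      by_contra hwF
      exact hcon w hwX (hFfix w hwF)
    have h1 := Set.ncard_le_ncard hsub (Finset.finite_toSet _)
    rw [Set.ncard_coe_finset, Finset.card_erase_of_mem hxF] at h1
    omega
  obtain ⟨w, hwX, hσw⟩ := hw
  obtain ⟨w', hw'X, hσw'⟩ := hw'
  have hprim : IsPreprimitive J α :=
    prim_of_halving H J X hX1 (by omega) hSJ σ (hCJ hσC) x hx (by rw [hσx]; exact hy)
      w hwX hσw w' hw'X hσw'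
  have hXnt' : X.Nontrivial := by
    rw [← Set.one_lt_ncard_iff_nontrivial]; omega
  exact hJ.1 (H.primtop J X hXnt' hprim hSJ)

/-- The generic main theorem. -/
theorem main_generic [Finite M] (H : Host M α) (hn5 : 5 ≤ Fintype.card α)
    (hn6 : Fintype.card α ≠ 6) (R : Sylow 2 M)
    (hfin : (∃ k, 2 ≤ k ∧ Fintype.card α = 2 ^ k + 1) → ∀ J : Subgroup M,
      IsPreprimitive J α → (R : Subgroup M) ≤ J → J = ⊤) :
    (∃! J : Subgroup M, IsCoatom J ∧ (R : Subgroup M) ≤ J) ↔
      ∃ k, 2 ≤ k ∧ Fintype.card α = 2 ^ k + 1 := by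
  have hcard : Nat.card α = Fintype.card α := Nat.card_eq_fintype_card
  constructor
  · intro huniq
    by_contra hne
    rcases Nat.even_or_odd (Fintype.card α) with he | ho
    · obtain ⟨J, hJ, hRJ, hall⟩ := le_of_unique (R : Subgroup M) huniq
      obtain ⟨t, ht⟩ := he
      have : ∃ j, t = j + 1 ∧ 3 ≤ j := ⟨t - 1, by omega, by omega⟩
      obtain ⟨j, rfl, hj⟩ := this
      exact false_of_unique_even H j hj (by omega) R J hJ hall
    · exact two_coatoms_odd H R ho hn5 hne huniq
  · rintro ⟨k, hk, hn⟩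
    have hodd : Odd (Nat.card α) := by
      rw [hcard, hn]
      have h2 : 2 ^ k = 2 * 2 ^ (k - 1) := by
        rw [← pow_succ']; congr 1; omega
      exact ⟨2 ^ (k - 1), by omega⟩
    obtain ⟨x₀, hx₀⟩ := exists_fixed_of_odd (R : Subgroup M) R.isPGroup' hodd
    have hJ0 : IsCoatom (stabilizer M ({x₀} : Set α)) := by
      apply H.coatom _ (Set.singleton_nonempty x₀)
      · by_contra hcon
        rw [Set.not_nonempty_iff_eq_empty, Set.compl_empty_iff] at hcon
        have h1 : ({x₀} : Set α).ncard = Nat.card α := by rw [hcon, Set.ncard_univ]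
        rw [Set.ncard_singleton, hcard] at h1
        omega
      · rw [Set.ncard_singleton, hcard]; omega
    have hR0 : (R : Subgroup M) ≤ stabilizer M ({x₀} : Set α) := by
      intro r hr
      rw [mem_stabilizer_iff, Set.smul_set_singleton, hx₀ r hr]
    refine ⟨_, ⟨hJ0, hR0⟩, ?_⟩
    rintro J' ⟨hJ', hRJ'⟩
    by_cases hle : J' ≤ stabilizer M ({x₀} : Set α)
    · rcases hJ'.le_iff.mp hle with h | h
      · exact absurd h hJ0.1
      · exact h.symm
    · exfalso
      obtain ⟨g, hg, hgx⟩ := SetLike.not_le_iff_exists.mp hle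
      have hgx' : g • x₀ ≠ x₀ := by
        intro h
        apply hgx
        rw [mem_stabilizer_iff, Set.smul_set_singleton, h]
      have hmt : IsMultiplyPretransitive M α 2 := H.mt 2 (by omega)
      have hprim : IsPreprimitive J' α :=
        prim_of_trans_off J' (R : Subgroup M) hRJ' x₀
          (fun y z hy hz => trans_off_fixed k hn R x₀ hx₀ y z hy hz) hx₀ g hg hgx'
      exact hJ'.1 (hfin ⟨k, hk, hn⟩ J' hprim hRJ')

end Cfsg.Agent.Lib.helper25.SylMax
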