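import Mathlib
import Cfsg.Agent.Lib.helper25.SylMax4

set_option autoImplicit false

namespace Cfsg.Agent.Lib.helper25.SylMax

open Equiv Equiv.Perm MulAction
open scoped Pointwise

/-- The symmetric group is a host. -/
theorem hostPerm (α : Type*) [Fintype α] [DecidableEq α] : Host (Perm α) α where
  alt := fun π _ => ⟨π, fun _ => rfl⟩
  coatom := fun s hs hsc h => Equiv.Perm.isCoatom_stabilizer hs hsc h
  surj := fun s _ => Equiv.Perm.stabilizer.surjective_toPerm s
  mt := fun k _ => Equiv.Perm.isMultiplyPretransitive α k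
  primtop := fun J s hs hprim hle => by
    obtain ⟨a, ha, b, hb, hab⟩ := hs
    exact subgroup_eq_top_of_isPreprimitive_of_isSwap_mem hprim (swap a b) ⟨a, b, hab, rfl⟩
      (hle (Equiv.Perm.swap_mem_stabilizer ha hb))
  moves := fun s => Equiv.Perm.exists_mem_stabilizer_smul_eq

/-- The alternating group of degree at least 5 is a host. -/
theorem hostAlt (α : Type*) [Fintype α] [DecidableEq α] (h5 : 5 ≤ Fintype.card α) :
    Host (alternatingGroup α) α where
  alt := fun π hπ => ⟨⟨π, hπ⟩, fun _ => rfl⟩
  coatom := fun s hs hsc h => alternatingGroup.isCoatom_stabilizer hs hsc h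
  surj := fun s hs => alternatingGroup.stabilizer.surjective_toPerm hs
  mt := fun k hk => by
    have := alternatingGroup.isMultiplyPretransitive α
    exact isMultiplyPretransitive_of_le (n := Nat.card α - 2) (by omega) (Nat.sub_le _ _)
  primtop := fun J s _ hprim hle => by
    exact alternatingGroup.subgroup_eq_top_of_isPreprimitive
      (by rw [Nat.card_eq_fintype_card]; omega) J hle
  moves := fun s => alternatingGroup.exists_mem_stabilizer_smul_eq
    (by rw [Nat.card_eq_fintype_card]; omega)

/-- A set of pairwise commuting involutions can be conjugated into any Sylow 2-subgroup. -/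
theorem conj_into_sylow {M : Type*} [Group M] [Finite M] (R : Sylow 2 M) (S : Set M)
    (hcomm : ∀ x ∈ S, ∀ y ∈ S, x * y = y * x) (hsq : ∀ x ∈ S, x * x = 1) :
    ∃ g : M, ∀ s ∈ S, g * s * g⁻¹ ∈ (R : Subgroup M) := by
  have hprime : Fact (Nat.Prime 2) := ⟨Nat.prime_two⟩
  have hcomm' : ∀ x ∈ Subgroup.closure S, ∀ y ∈ Subgroup.closure S, x * y = y * x := by
    intro x hx y hy
    have hi : IsMulCommutative (Subgroup.closure S) := Subgroup.isMulCommutative_closure hcomm
    have := mul_comm' (⟨x, hx⟩ : Subgroup.closure S) ⟨y, hy⟩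
    exact congrArg Subtype.val this
  have hsq' : ∀ x ∈ Subgroup.closure S, x * x = 1 := by
    intro x hx
    induction hx using Subgroup.closure_induction with
    | mem x hx => exact hsq x hx
    | one => simp
    | mul x y hx hy ihx ihy =>
      calc x * y * (x * y) = x * (y * x) * y := by group
        _ = x * (x * y) * y := by rw [hcomm' y hy x hx]
        _ = (x * x) * (y * y) := by group
        _ = 1 := by rw [ihx, ihy, one_mul]
    | inv x hx ih =>
      calc x⁻¹ * x⁻¹ = (x * x)⁻¹ := by group
        _ = 1 := by rw [ih, inv_one]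
  have hQ : IsPGroup 2 (Subgroup.closure S) := by
    rintro ⟨x, hx⟩
    refine ⟨1, ?_⟩
    rw [pow_one, pow_two]
    exact Subtype.ext (hsq' x hx)
  obtain ⟨P, hP⟩ := hQ.exists_le_sylow
  obtain ⟨g, rfl⟩ := MulAction.exists_smul_eq M P R
  refine ⟨g, fun s hs => ?_⟩
  have h1 : MulAut.conj g • s ∈ MulAut.conj g • (P : Subgroup M) :=
    Subgroup.smul_mem_pointwise_smul s (MulAut.conj g) (P : Subgroup M)
      (hP (Subgroup.subset_closure hs))
  exact h1

/-- A primitive subgroup of the symmetric group containing a Sylow 2-subgroup is everything. -/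
theorem perm_sylow_prim_top {α : Type*} [Fintype α] [DecidableEq α] (h2 : 2 ≤ Fintype.card α)
    (R : Sylow 2 (Perm α)) (J : Subgroup (Perm α)) (hJ : IsPreprimitive J α)
    (hRJ : (R : Subgroup (Perm α)) ≤ J) : J = ⊤ := by
  obtain ⟨a, b, hab⟩ := Fintype.exists_pair_of_one_lt_card (by omega : 1 < Fintype.card α)
  obtain ⟨g, hg⟩ := conj_into_sylow R {swap a b} (by
      intro x hx y hy
      rw [Set.mem_singleton_iff.mp hx, Set.mem_singleton_iff.mp hy]) (by
      intro x hx
      rw [Set.mem_singleton_iff.mp hx, swap_mul_self])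
  have h := hg (swap a b) rfl
  rw [← swap_apply_apply] at h
  exact subgroup_eq_top_of_isPreprimitive_of_isSwap_mem hJ _
    ⟨g a, g b, fun h' => hab (g.injective h'), rfl⟩ (hRJ h)

/-- A transitive subgroup of `A₅` containing a Sylow 2-subgroup is everything. -/
theorem alt5_trans_top (R : Sylow 2 (alternatingGroup (Fin 5)))
    (J : Subgroup (alternatingGroup (Fin 5))) (hJ : IsPretransitive J (Fin 5))
    (hRJ : (R : Subgroup (alternatingGroup (Fin 5))) ≤ J) : J = ⊤ := by
  have hprime : Fact (Nat.Prime 2) := ⟨Nat.prime_two⟩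
  have hcard : Nat.card (alternatingGroup (Fin 5)) = 60 := by
    rw [nat_card_alternatingGroup, Nat.card_eq_fintype_card, Fintype.card_fin]
    decide
  have h4 : 4 ∣ Nat.card J := by
    have h1 : 2 ^ 2 ∣ Nat.card R := R.pow_dvd_card_of_pow_dvd_card (by rw [hcard]; decide)
    exact h1.trans (Subgroup.card_dvd_of_le hRJ)
  have h5 : 5 ∣ Nat.card J := by
    have h1 := MulAction.index_stabilizer_of_transitive J (0 : Fin 5)
    rw [Nat.card_eq_fintype_card, Fintype.card_fin] at h1
    have h2 : (stabilizer (↥J) (0 : Fin 5)).index ∣ Nat.card J := Subgroup.index_dvd_card _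
    rwa [h1] at h2
  have h20 : 20 ∣ Nat.card J :=
    Nat.Coprime.mul_dvd_of_dvd_of_dvd (by decide : Nat.Coprime 4 5) h4 h5
  have hidx : Nat.card J * J.index = 60 := by rw [Subgroup.card_mul_index, hcard]
  obtain ⟨m, hm⟩ := h20
  have h3 : m * J.index = 3 := by
    rw [hm, mul_assoc] at hidx
    omega
  have hidx13 : J.index = 1 ∨ J.index = 3 :=
    (Nat.dvd_prime Nat.prime_three).mp (Dvd.intro_left _ h3)
  rcases hidx13 with h1 | h3'
  · exact Subgroup.index_eq_one.mp h1
  · exfalso
    have hnc : J.normalCore = ⊥ := by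
      rcases (Subgroup.normalCore_normal J).eq_bot_or_eq_top with h | h
      · exact h
      · exfalso
        have hJtop : J = ⊤ := top_le_iff.mp (h ▸ Subgroup.normalCore_le J)
        rw [hJtop, Subgroup.index_top] at h3'
        omega
    have hinj : Function.Injective
        (MulAction.toPermHom (alternatingGroup (Fin 5)) ((alternatingGroup (Fin 5)) ⧸ J)) := by
      rw [← MonoidHom.ker_eq_bot_iff, ← Subgroup.normalCore_eq_ker, hnc]
    have hdvd := Subgroup.card_dvd_of_injective _ hinj
    rw [hcard, Nat.card_perm, ← Subgroup.index_eq_card, h3'] at hdvd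
    revert hdvd
    decide

end Cfsg.Agent.Lib.helper25.SylMax
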