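import Mathlib
import Cfsg.Agent.Lib.helper25.SylMax5

set_option autoImplicit false

namespace Cfsg.Agent.Lib.helper25.SylMax

open Equiv Equiv.Perm MulAction
open scoped Pointwise

theorem sq_eq_of_comm {G : Type*} [Group G] (a b e h : G) (hab : Commute a b) (hah : Commute a h)
    (hbe : Commute b e) (hbh : Commute b h) (heh : Commute e h) (hbb : b * b = 1)
    (hhh : h * h = 1) :
    (a * b * (e * h)) * (a * b * (e * h)) = (a * e) * (a * e) := by
  have hy : a * b * (e * h) = a * e * (b * h) := by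
    calc a * b * (e * h) = a * (b * e) * h := by group
      _ = a * (e * b) * h := by rw [hbe.eq]
      _ = a * e * (b * h) := by group
  have hPD : Commute (a * e) (b * h) :=
    Commute.mul_left (Commute.mul_right hab hah) (Commute.mul_right hbe.symm heh)
  have hDD : (b * h) * (b * h) = 1 := by
    calc b * h * (b * h) = b * (h * b) * h := by group
      _ = b * (b * h) * h := by rw [hbh.eq]
      _ = (b * b) * (h * h) := by group
      _ = 1 := by rw [hbb, hhh, one_mul]
  rw [hy]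
  calc a * e * (b * h) * (a * e * (b * h)) = a * e * ((b * h) * (a * e)) * (b * h) := by group
    _ = a * e * ((a * e) * (b * h)) * (b * h) := by rw [hPD.eq]
    _ = (a * e) * (a * e) * ((b * h) * (b * h)) := by group
    _ = (a * e) * (a * e) := by rw [hDD, mul_one]

theorem conj_swap_mul_swap {α : Type*} [DecidableEq α] (G : Perm α) (a b c d : α) :
    G * (swap a b * swap c d) * G⁻¹ = swap (G a) (G b) * swap (G c) (G d) := by
  rw [swap_apply_apply, swap_apply_apply]; group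

theorem mul_mul_cancel_mid {G : Type*} [Group G] (x y w : G) (hy : y * y = 1) :
    (x * y) * (y * w) = x * w := by
  rw [mul_assoc, ← mul_assoc y, hy, one_mul]

/-- The core computation producing a 3-cycle. -/
theorem threeCycle_core {α : Type*} [Fintype α] [DecidableEq α] (J₀ : Subgroup (Perm α)) (z : α)
    (f : Fin 8 → α) (hf : Function.Injective f) (hz : ∀ i, f i ≠ z)
    (hC : swap (f 2) (f 3) * swap (f 0) (f 1) ∈ J₀)
    (hD : swap (f 2) (f 3) * swap (f 4) (f 5) ∈ J₀)
    (hE : swap (f 2) (f 3) * swap (f 6) (f 7) ∈ J₀)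
    (c d : α) (_hcd : c ≠ d) (hcz : c ≠ z) (hdz : d ≠ z) (hc2 : c ≠ f 2) (hd2 : d ≠ f 2)
    (hc3 : c ≠ f 3) (hd3 : d ≠ f 3) (hU : swap z (f 2) * swap c d ∈ J₀) :
    ∃ y ∈ J₀, y.IsThreeCycle := by
  have ne : ∀ a b : Fin 8, a ≠ b → f a ≠ f b := fun a b h => hf.ne h
  have hpq : ∃ p q : α, p ≠ q ∧ p ≠ z ∧ q ≠ z ∧ p ≠ f 2 ∧ q ≠ f 2 ∧ p ≠ f 3 ∧ q ≠ f 3 ∧
      p ≠ c ∧ p ≠ d ∧ q ≠ c ∧ q ≠ d ∧ swap (f 2) (f 3) * swap p q ∈ J₀ := by
    have key : ∀ i j : Fin 8, (i ≠ 0 ∧ i ≠ 1 ∧ j ≠ 0 ∧ j ≠ 1) ∨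
        (i ≠ 4 ∧ i ≠ 5 ∧ j ≠ 4 ∧ j ≠ 5) ∨ (i ≠ 6 ∧ i ≠ 7 ∧ j ≠ 6 ∧ j ≠ 7) := by decide
    have hidx : ∀ c : α, ∃ i : Fin 8, ∀ k, i ≠ k → c ≠ f k := by
      intro c
      by_cases h : ∃ i, f i = c
      · obtain ⟨i, rfl⟩ := h
        exact ⟨i, fun k hik h' => hik (hf h')⟩
      · exact ⟨0, fun k _ h' => h ⟨k, h'.symm⟩⟩
    obtain ⟨i, hi⟩ := hidx c
    obtain ⟨j, hj⟩ := hidx d
    rcases key i j with ⟨h1, h2, h3, h4⟩ | ⟨h1, h2, h3, h4⟩ | ⟨h1, h2, h3, h4⟩
    · exact ⟨f 0, f 1, ne _ _ (by decide), hz 0, hz 1, ne _ _ (by decide), ne _ _ (by decide),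
        ne _ _ (by decide), ne _ _ (by decide), (hi 0 h1).symm, (hj 0 h3).symm,
        (hi 1 h2).symm, (hj 1 h4).symm, hC⟩
    · exact ⟨f 4, f 5, ne _ _ (by decide), hz 4, hz 5, ne _ _ (by decide), ne _ _ (by decide),
        ne _ _ (by decide), ne _ _ (by decide), (hi 4 h1).symm, (hj 4 h3).symm,
        (hi 5 h2).symm, (hj 5 h4).symm, hD⟩
    · exact ⟨f 6, f 7, ne _ _ (by decide), hz 6, hz 7, ne _ _ (by decide), ne _ _ (by decide),
        ne _ _ (by decide), ne _ _ (by decide), (hi 6 h1).symm, (hj 6 h3).symm,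
        (hi 7 h2).symm, (hj 7 h4).symm, hE⟩
  obtain ⟨p, q, hpq, hpz, hqz, hp2, hq2, hp3, hq3, hpc, hpd, hqc, hqd, hV⟩ := hpq
  have hbe : Commute (swap c d) (swap (f 2) (f 3)) := swap_mul_swap_comm' hc2 hc3 hd2 hd3
  have hbh : Commute (swap c d) (swap p q) :=
    swap_mul_swap_comm' hpc.symm hqc.symm hpd.symm hqd.symm
  have hah : Commute (swap z (f 2)) (swap p q) :=
    swap_mul_swap_comm' hpz.symm hqz.symm hp2.symm hq2.symm
  have heh : Commute (swap (f 2) (f 3)) (swap p q) :=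
    swap_mul_swap_comm' hp2.symm hq2.symm hp3.symm hq3.symm
  have hab : Commute (swap z (f 2)) (swap c d) :=
    swap_mul_swap_comm' hcz.symm hdz.symm hc2.symm hd2.symm
  have hsq := sq_eq_of_comm (swap z (f 2)) (swap c d) (swap (f 2) (f 3)) (swap p q)
    hab hah hbe hbh heh (swap_mul_self _ _) (swap_mul_self _ _)
  refine ⟨(swap z (f 2) * swap (f 2) (f 3)) * (swap z (f 2) * swap (f 2) (f 3)), ?_, ?_⟩
  · rw [← hsq]; exact J₀.mul_mem (J₀.mul_mem hU hV) (J₀.mul_mem hU hV)
  · apply IsThreeCycle.isThreeCycle_sq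
    rw [swap_comm z (f 2)]
    exact isThreeCycle_swap_mul_swap_same (hz 2) (ne _ _ (by decide)) (hz 3).symm

/-- From a chain of double transpositions and a suitable element, get a 3-cycle. -/
theorem threeCycle_of_config {α : Type*} [Fintype α] [DecidableEq α] (J₀ : Subgroup (Perm α))
    (z : α) (f : Fin 8 → α) (hf : Function.Injective f) (hz : ∀ i, f i ≠ z)
    (hA : swap (f 0) (f 1) * swap (f 2) (f 3) ∈ J₀)
    (hD : swap (f 2) (f 3) * swap (f 4) (f 5) ∈ J₀)
    (hF : swap (f 4) (f 5) * swap (f 6) (f 7) ∈ J₀)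
    (G : Perm α) (hG : G ∈ J₀) (hG0 : G (f 0) = z) (hG1 : G (f 1) = f 2) :
    ∃ y ∈ J₀, y.IsThreeCycle := by
  have hB : swap (f 0) (f 1) * swap (f 4) (f 5) ∈ J₀ := by
    rw [← mul_mul_cancel_mid (swap (f 0) (f 1)) (swap (f 2) (f 3)) (swap (f 4) (f 5))
      (swap_mul_self _ _)]
    exact J₀.mul_mem hA hD
  have hE : swap (f 2) (f 3) * swap (f 6) (f 7) ∈ J₀ := by
    rw [← mul_mul_cancel_mid (swap (f 2) (f 3)) (swap (f 4) (f 5)) (swap (f 6) (f 7))
      (swap_mul_self _ _)]
    exact J₀.mul_mem hD hF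
  have hC : swap (f 2) (f 3) * swap (f 0) (f 1) ∈ J₀ := by
    have h := J₀.inv_mem hA
    rwa [mul_inv_rev, swap_inv, swap_inv] at h
  have ne : ∀ a b : Fin 8, a ≠ b → f a ≠ f b := fun a b h => hf.ne h
  have Gne : ∀ a b : α, a ≠ b → G a ≠ G b := fun a b h => G.injective.ne h
  have hU2 : swap z (f 2) * swap (G (f 2)) (G (f 3)) ∈ J₀ := by
    have h := J₀.mul_mem (J₀.mul_mem hG hA) (J₀.inv_mem hG)
    rwa [conj_swap_mul_swap, hG0, hG1] at h
  have hU3 : swap z (f 2) * swap (G (f 4)) (G (f 5)) ∈ J₀ := by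
    have h := J₀.mul_mem (J₀.mul_mem hG hB) (J₀.inv_mem hG)
    rwa [conj_swap_mul_swap, hG0, hG1] at h
  by_cases hcase : f 3 ≠ G (f 2) ∧ f 3 ≠ G (f 3)
  · exact threeCycle_core J₀ z f hf hz hC hD hE (G (f 2)) (G (f 3))
      (Gne _ _ (ne _ _ (by decide)))
      (fun h => ne 2 0 (by decide) (G.injective (h.trans hG0.symm)))
      (fun h => ne 3 0 (by decide) (G.injective (h.trans hG0.symm)))
      (fun h => ne 2 1 (by decide) (G.injective (h.trans hG1.symm)))
      (fun h => ne 3 1 (by decide) (G.injective (h.trans hG1.symm)))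
      hcase.1.symm hcase.2.symm hU2
  · have hor : f 3 = G (f 2) ∨ f 3 = G (f 3) := by
      by_contra hcon
      push Not at hcon
      exact hcase hcon
    have hc3 : G (f 4) ≠ f 3 := by
      intro h
      rcases hor with h' | h'
      · exact ne 4 2 (by decide) (G.injective (h.trans h'))
      · exact ne 4 3 (by decide) (G.injective (h.trans h'))
    have hd3 : G (f 5) ≠ f 3 := by
      intro h
      rcases hor with h' | h'
      · exact ne 5 2 (by decide) (G.injective (h.trans h'))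
      · exact ne 5 3 (by decide) (G.injective (h.trans h'))
    exact threeCycle_core J₀ z f hf hz hC hD hE (G (f 4)) (G (f 5))
      (Gne _ _ (ne _ _ (by decide)))
      (fun h => ne 4 0 (by decide) (G.injective (h.trans hG0.symm)))
      (fun h => ne 5 0 (by decide) (G.injective (h.trans hG0.symm)))
      (fun h => ne 4 1 (by decide) (G.injective (h.trans hG1.symm)))
      (fun h => ne 5 1 (by decide) (G.injective (h.trans hG1.symm)))
      hc3 hd3 hU3

/-- A primitive subgroup of the alternating group whose image contains a 3-cycle is everything. -/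
theorem alt_top_of_threeCycle {α : Type*} [Fintype α] [DecidableEq α]
    (J : Subgroup (alternatingGroup α)) (hJ : IsPreprimitive J α)
    (y : Perm α) (hy : y ∈ J.map (alternatingGroup α).subtype) (h3 : y.IsThreeCycle) :
    J = ⊤ := by
  rw [eq_top_iff, ← Subgroup.map_subtype_le_map_subtype, ← MonoidHom.range_eq_map,
    Subgroup.range_subtype]
  apply alternatingGroup_le_of_isPreprimitive_of_isThreeCycle_mem _ h3 hy
  let φ := (alternatingGroup α).subtype.subgroupMap J
  let f : α →ₑ[φ] α := { toFun := id, map_smul' := fun _ _ => rfl }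
  rwa [← isPreprimitive_congr (f := f) ((alternatingGroup α).subtype.subgroupMap_surjective J)
    Function.bijective_id]

/-- A primitive subgroup of `A_n`, `n = 2^k+1 ≥ 9`, containing a Sylow 2-subgroup is everything. -/
theorem alt_sylow_prim_top_nine {α : Type*} [Fintype α] [DecidableEq α] (k : ℕ)
    (hn : Fintype.card α = 2 ^ k + 1) (h9 : 9 ≤ Fintype.card α)
    (R : Sylow 2 (alternatingGroup α)) (J : Subgroup (alternatingGroup α))
    (hJ : IsPreprimitive J α) (hRJ : (R : Subgroup (alternatingGroup α)) ≤ J) : J = ⊤ := by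
  have H := hostAlt α (by omega)
  have hcard : Nat.card α = Fintype.card α := Nat.card_eq_fintype_card
  obtain ⟨p⟩ : Nonempty (Fin 8 ↪ α) :=
    Function.Embedding.nonempty_of_card_le (by rw [Fintype.card_fin]; omega)
  have hpne : ∀ a b : Fin 8, a.val ≠ b.val → p a ≠ p b :=
    fun a b h h' => h (congrArg Fin.val (p.injective h'))
  let t : Fin 4 → Perm α := fun i =>
    swap (p ⟨2 * i.val, by omega⟩) (p ⟨2 * i.val + 1, by omega⟩)
  have htsq : ∀ i, t i * t i = 1 := fun i => swap_mul_self _ _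
  have htc : ∀ i j, Commute (t i) (t j) := by
    intro i j
    by_cases hij : i = j
    · rw [hij]
    · have hij' : i.val ≠ j.val := fun h => hij (Fin.ext h)
      exact swap_mul_swap_comm' (hpne _ _ (by show 2 * i.val ≠ 2 * j.val; omega))
        (hpne _ _ (by show 2 * i.val ≠ 2 * j.val + 1; omega))
        (hpne _ _ (by show 2 * i.val + 1 ≠ 2 * j.val; omega))
        (hpne _ _ (by show 2 * i.val + 1 ≠ 2 * j.val + 1; omega))
  have htsign : ∀ i, Perm.sign (t i) = -1 := fun i =>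
    sign_swap (hpne _ _ (by show 2 * i.val ≠ 2 * i.val + 1; omega))
  have hdmem : ∀ i j, t i * t j ∈ alternatingGroup α := by
    intro i j
    rw [mem_alternatingGroup, Perm.sign_mul, htsign, htsign]; rfl
  let d : Fin 3 → alternatingGroup α := fun i => ⟨t i.castSucc * t i.succ, hdmem _ _⟩
  obtain ⟨γ, hγ⟩ := conj_into_sylow R (Set.range d) (by
      rintro _ ⟨i, rfl⟩ _ ⟨j, rfl⟩
      apply Subtype.ext
      show t i.castSucc * t i.succ * (t j.castSucc * t j.succ) =
        t j.castSucc * t j.succ * (t i.castSucc * t i.succ)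
      exact (Commute.mul_right (Commute.mul_left (htc _ _) (htc _ _))
        (Commute.mul_left (htc _ _) (htc _ _))).eq) (by
      rintro _ ⟨i, rfl⟩
      apply Subtype.ext
      show t i.castSucc * t i.succ * (t i.castSucc * t i.succ) = 1
      calc t i.castSucc * t i.succ * (t i.castSucc * t i.succ)
          = t i.castSucc * (t i.succ * t i.castSucc) * t i.succ := by group
        _ = t i.castSucc * (t i.castSucc * t i.succ) * t i.succ := by
            rw [(htc i.succ i.castSucc).eq]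
        _ = (t i.castSucc * t i.castSucc) * (t i.succ * t i.succ) := by group
        _ = 1 := by rw [htsq, htsq, one_mul])
  obtain ⟨f, hfdef⟩ : ∃ f : Fin 8 → α, ∀ i, f i = (γ : Perm α) (p i) := ⟨_, fun _ => rfl⟩
  have hf : Function.Injective f := by
    intro a b hab
    rw [hfdef, hfdef] at hab
    exact p.injective ((γ : Perm α).injective hab)
  have hmemJ₀ : ∀ i : Fin 3, (γ : Perm α) * (t i.castSucc * t i.succ) * (γ : Perm α)⁻¹ ∈
      J.map (alternatingGroup α).subtype := by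
    intro i
    have h := hRJ (hγ (d i) ⟨i, rfl⟩)
    exact Subgroup.mem_map_of_mem (alternatingGroup α).subtype h
  have hA : swap (f 0) (f 1) * swap (f 2) (f 3) ∈ J.map (alternatingGroup α).subtype := by
    rw [hfdef, hfdef, hfdef, hfdef, ← conj_swap_mul_swap]
    exact hmemJ₀ 0
  have hD : swap (f 2) (f 3) * swap (f 4) (f 5) ∈ J.map (alternatingGroup α).subtype := by
    rw [hfdef, hfdef, hfdef, hfdef, ← conj_swap_mul_swap]
    exact hmemJ₀ 1
  have hF : swap (f 4) (f 5) * swap (f 6) (f 7) ∈ J.map (alternatingGroup α).subtype := by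
    rw [hfdef, hfdef, hfdef, hfdef, ← conj_swap_mul_swap]
    exact hmemJ₀ 2
  have hzex : ∃ z, ∀ i, f i ≠ z := by
    by_contra hcon
    push Not at hcon
    have hsurj : Function.Surjective f := hcon
    have := Fintype.card_le_of_surjective f hsurj
    rw [Fintype.card_fin] at this
    omega
  obtain ⟨z, hz⟩ := hzex
  have hodd : Odd (Nat.card α) := by
    rw [hcard, hn]
    have hk : 1 ≤ k := by
      by_contra hk0
      have hk0' : k = 0 := by omega
      rw [hk0'] at hn
      omega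
    have h2 : 2 ^ k = 2 * 2 ^ (k - 1) := by
      rw [← pow_succ']; congr 1; omega
    exact ⟨2 ^ (k - 1), by omega⟩
  obtain ⟨x₀, hx₀⟩ := exists_fixed_of_odd (R : Subgroup (alternatingGroup α)) R.isPGroup' hodd
  have hmt : IsMultiplyPretransitive (alternatingGroup α) α 2 := H.mt 2 (by omega)
  obtain ⟨⟨h₁, hh₁⟩, e₁⟩ := MulAction.exists_smul_eq J (f 0) x₀
  obtain ⟨⟨h₂, hh₂⟩, e₂⟩ := MulAction.exists_smul_eq J z x₀
  have e₁' : h₁ • f 0 = x₀ := e₁
  have e₂' : h₂ • z = x₀ := e₂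
  have hne1 : h₁ • f 1 ≠ x₀ := by
    intro h
    rw [← e₁'] at h
    exact hf.ne (by decide : (1 : Fin 8) ≠ 0) (MulAction.injective h₁ h)
  have hne2 : h₂ • f 2 ≠ x₀ := by
    intro h
    rw [← e₂'] at h
    exact hz 2 (MulAction.injective h₂ h)
  obtain ⟨r, hr, er⟩ := trans_off_fixed k hn R x₀ hx₀ (h₁ • f 1) (h₂ • f 2) hne1 hne2
  have hGJ : h₂⁻¹ * r * h₁ ∈ J := J.mul_mem (J.mul_mem (J.inv_mem hh₂) (hRJ hr)) hh₁
  have hG0 : ((h₂⁻¹ * r * h₁ : alternatingGroup α) : Perm α) (f 0) = z := by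
    have h : (h₂⁻¹ * r * h₁) • f 0 = z := by
      rw [mul_smul, mul_smul, e₁', hx₀ r hr, inv_smul_eq_iff, e₂']
    exact h
  have hG1 : ((h₂⁻¹ * r * h₁ : alternatingGroup α) : Perm α) (f 1) = f 2 := by
    have h : (h₂⁻¹ * r * h₁) • f 1 = f 2 := by
      rw [mul_smul, mul_smul, er, inv_smul_smul]
    exact h
  obtain ⟨y, hy, hy3⟩ := threeCycle_of_config (J.map (alternatingGroup α).subtype) z f hf hz
    hA hD hF _ (Subgroup.mem_map_of_mem (alternatingGroup α).subtype hGJ) hG0 hG1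
  exact alt_top_of_threeCycle J hJ y hy hy3

end Cfsg.Agent.Lib.helper25.SylMax
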