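import Mathlib
import Cfsg.Agent.Lib.helper91.WidthOne
import Cfsg.Agent.Lib.helper91.TT59Defs

/-!
# S5559, piece GENM: a width-one class satisfying (I1) and (Z) is generated by two of its members,
or by three and the group has order 54
-/

set_option autoImplicit false

namespace Cfsg.Agent.Lib.helper25.TT59

open Cfsg.Agent.Lib.helper91 Cfsg.Agent.Lib.helper91.TT59 Subgroup

universe u

/-- An element of a `3`-group inverted by the involution `t`: `t * p` is conjugate to `t`. -/
theorem genm_sqrt {Γ : Type*} [Group Γ] (P : Subgroup Γ) (hP : IsPGroup 3 P) (t p : Γ)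
    (ht : t * t = 1) (hp : p ∈ P) (htp : t * p * t = p⁻¹) : ∃ r : Γ, t * p = r⁻¹ * t * r := by
  obtain ⟨k, hk⟩ := hP ⟨p, hp⟩
  have hk' : p ^ (3 ^ k) = 1 := by
    have := congrArg Subtype.val hk
    simpa using this
  have hodd : Odd (3 ^ k) := Odd.pow (by decide)
  obtain ⟨m, hm⟩ := hodd
  refine ⟨p ^ (m + 1), ?_⟩
  have hti : t⁻¹ = t := inv_eq_of_mul_eq_one_right ht
  have htr : t * p ^ (m + 1) * t = (p ^ (m + 1))⁻¹ := by
    have h1 : (t * p * t⁻¹) ^ (m + 1) = t * p ^ (m + 1) * t⁻¹ := conj_pow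
    rw [hti] at h1
    rw [← h1, htp, inv_pow]
  have hrr : p ^ (m + 1) * p ^ (m + 1) = p := by
    rw [← pow_add]
    have h2 : m + 1 + (m + 1) = 3 ^ k + 1 := by omega
    rw [h2, pow_succ, hk', one_mul]
  rw [← htr]
  calc t * p = t * (p ^ (m + 1) * p ^ (m + 1)) := by rw [hrr]
    _ = t * p ^ (m + 1) * 1 * p ^ (m + 1) := by group
    _ = t * p ^ (m + 1) * (t * t) * p ^ (m + 1) := by rw [ht]
    _ = t * p ^ (m + 1) * t * t * p ^ (m + 1) := by group

/-- A non-abelian `3`-group has order divisible by `27`. -/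
theorem genm_card27 {Γ : Type*} [Group Γ] [Finite Γ] (P : Subgroup Γ) (hP : IsPGroup 3 P)
    (hna : ∃ u ∈ P, ∃ v ∈ P, ¬ Commute u v) : 27 ∣ Nat.card P := by
  obtain ⟨u0, hu0, v0, hv0, huv⟩ := hna
  have hfact : Fact (Nat.Prime 3) := ⟨Nat.prime_three⟩
  obtain ⟨n, hn⟩ := hP.exists_card_eq
  have hn3 : 3 ≤ n := by
    by_contra hlt
    have hcomm : ∀ a b : P, a * b = b * a := by
      have hn' : n = 0 ∨ n = 1 ∨ n = 2 := by omega
      rcases hn' with h | h | h
      · subst h
        have h1 : Nat.card P = 1 := by simpa using hn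
        have hsub : Subsingleton P := (Nat.card_eq_one_iff_unique.mp h1).1
        intro a b
        rw [Subsingleton.elim a b]
      · subst h
        have h1 : Nat.card P = 3 := by simpa using hn
        have hcyc : IsCyclic P := isCyclic_of_prime_card h1
        exact (IsCyclic.isMulCommutative (α := P)).is_comm.comm
      · subst h
        exact (IsPGroup.isMulCommutative_of_card_eq_prime_sq hn).is_comm.comm
    exact huv (show u0 * v0 = v0 * u0 from congrArg Subtype.val (hcomm ⟨u0, hu0⟩ ⟨v0, hv0⟩))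
  rw [hn]
  exact pow_dvd_pow 3 hn3

/-- PIECE GENM.  Main group-theoretic theorem, against GENB as the hypothesis `hcore`. -/
theorem gen_two_or_three_of {Γ : Type u} [Group Γ] [Finite Γ] (hcore : GenCoreStmt Γ)
    {D : Set Γ} (hD : IsW1 D)
    (hconj : ∀ g : Γ, ∀ x ∈ D, g * x * g⁻¹ ∈ D) (hgen : Subgroup.closure D = ⊤)
    (hne : D.Nonempty) (h1 : (1 : Γ) ∉ D)
    (hI1 : ∀ t ∈ D, ∀ p q : Γ, t * p ∈ D → t * q ∈ D → Commute p q →
      p = 1 ∨ q = 1 ∨ q = p ∨ q = p⁻¹)
    (hZ : ∀ z₁ ∈ Subgroup.center Γ, ∀ z₂ ∈ Subgroup.center Γ, z₁ ^ 3 = 1 → z₂ ^ 3 = 1 →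
      z₁ = 1 ∨ z₂ = 1 ∨ z₂ = z₁ ∨ z₂ = z₁⁻¹) :
    (∃ a ∈ D, ∃ b ∈ D, Subgroup.closure ({a, b} : Set Γ) = ⊤) ∨
    (∃ a ∈ D, ∃ b ∈ D, ∃ c ∈ D, Subgroup.closure ({a, b, c} : Set Γ) = ⊤ ∧ Nat.card Γ = 54) := by
  classical
  obtain ⟨t, ht⟩ := hne
  have htt : t * t = 1 := hD.sq t ht
  have hti : t⁻¹ = t := inv_eq_of_mul_eq_one_right htt
  have ht1 : t ≠ 1 := fun h => h1 (h ▸ ht)
  have hcancel : ∀ g : Γ, t * (t * g) = g := fun g => by rw [← mul_assoc, htt, one_mul]
  obtain ⟨P, hPdef⟩ : ∃ P : Subgroup Γ, P = closure {g : Γ | ∃ x ∈ D, ∃ y ∈ D, g = x * y} :=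
    ⟨_, rfl⟩
  have hP3 : IsPGroup 3 P := by rw [hPdef]; exact isPGroup_three_of_isW1 hD
  have hPn : P.Normal := by
    rw [hPdef]
    apply closure_normal_of_conj
    rintro g _ ⟨x, hx, y, hy, rfl⟩
    exact ⟨g * x * g⁻¹, hconj g x hx, g * y * g⁻¹, hconj g y hy, by group⟩
  have hmulP : ∀ x ∈ D, ∀ y ∈ D, x * y ∈ P := by
    intro x hx y hy
    rw [hPdef]
    exact subset_closure ⟨x, hx, y, hy, rfl⟩
  obtain ⟨I, hIdef⟩ : ∃ I : Set Γ, I = {p : Γ | t * p ∈ D} := ⟨_, rfl⟩
  have hI : ∀ p, p ∈ I ↔ t * p ∈ D := by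
    intro p
    rw [hIdef]
    rfl
  have hIP : ∀ p ∈ I, p ∈ P := by
    intro p hp
    rw [← hcancel p]
    exact hmulP t ht _ ((hI p).mp hp)
  have hIinv : ∀ p ∈ I, t * p * t = p⁻¹ := by
    intro p hp
    have h := hD.sq _ ((hI p).mp hp)
    exact eq_inv_of_mul_eq_one_left (by rw [← h]; group)
  have hIcube : ∀ p ∈ I, p ^ 3 = 1 := by
    intro p hp
    have h := hD.cube t ht _ ((hI p).mp hp)
    rwa [hcancel] at h
  have hIconv : ∀ p ∈ P, t * p * t = p⁻¹ → p ∈ I := by
    intro p hp h
    obtain ⟨r, hr⟩ := genm_sqrt P hP3 t p htt hp h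
    rw [hI, hr]
    have h2 := hconj r⁻¹ t ht
    rwa [inv_inv] at h2
  have hDI : ∀ d ∈ D, t * d ∈ I := by
    intro d hd
    rw [hI, hcancel]
    exact hd
  have hclI : closure I = P := by
    apply le_antisymm
    · rw [closure_le]
      exact hIP
    · rw [hPdef, closure_le]
      rintro _ ⟨x, hx, y, hy, rfl⟩
      have hx' : x⁻¹ = x := inv_eq_of_mul_eq_one_right (hD.sq x hx)
      have h2 : (t * x)⁻¹ * (t * y) = x⁻¹ * y := by group
      have h3 : x * y = (t * x)⁻¹ * (t * y) := by rw [h2, hx']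
      rw [SetLike.mem_coe, h3]
      exact (closure I).mul_mem ((closure I).inv_mem (subset_closure (hDI x hx)))
        (subset_closure (hDI y hy))
  have htP : ∀ c ∈ P, t * c * t ∈ P := by
    intro c hc
    have h := hPn.conj_mem c hc t
    rwa [hti] at h
  have htcent : ∀ c ∈ P, (∀ u ∈ P, Commute c u) → ∀ u ∈ P, Commute (t * c * t) u := by
    intro c hc hcc u hu
    have h2 : c * (t * u * t) = (t * u * t) * c := (hcc _ (htP u hu)).eq
    show t * c * t * u = u * (t * c * t)
    have e1 : t * u * t * t = t * u := by rw [mul_assoc (t * u), htt, mul_one]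
    calc t * c * t * u = t * c * (t * u) := by group
      _ = t * c * (t * u * t * t) := by rw [e1]
      _ = t * (c * (t * u * t)) * t := by group
      _ = t * ((t * u * t) * c) * t := by rw [h2]
      _ = (t * t) * u * (t * c * t) := by group
      _ = u * (t * c * t) := by rw [htt, one_mul]
  by_cases hA : ∃ c ∈ P, (∀ u ∈ P, Commute c u) ∧ t * c * t ≠ c
  · -- Case A
    obtain ⟨c, hcP, hcc, hct⟩ := hA
    obtain ⟨w, hw⟩ : ∃ w : Γ, w = c⁻¹ * (t * c * t) := ⟨_, rfl⟩
    have hwP : w ∈ P := by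
      rw [hw]
      exact P.mul_mem (P.inv_mem hcP) (htP c hcP)
    have hwc : ∀ u ∈ P, Commute w u := by
      intro u hu
      rw [hw]
      exact ((hcc u hu).inv_left).mul_left (htcent c hcP hcc u hu)
    have hwinv : t * w * t = w⁻¹ := by
      rw [hw]
      have e1 : t * (c⁻¹ * (t * c * t)) * t = t * c⁻¹ * t * c * (t * t) := by group
      have e2 : (c⁻¹ * (t * c * t))⁻¹ = t⁻¹ * c⁻¹ * t⁻¹ * c := by group
      rw [e1, e2, htt, hti, mul_one]
    have hwI : w ∈ I := hIconv w hwP hwinv
    have hw1 : w ≠ 1 := by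
      intro h
      apply hct
      rw [hw] at h
      exact (inv_mul_eq_one.mp h).symm
    have hIsub : ∀ q ∈ I, q = 1 ∨ q = w ∨ q = w⁻¹ := by
      intro q hq
      rcases hI1 t ht w q ((hI w).mp hwI) ((hI q).mp hq) (hwc q (hIP q hq)) with h | h | h | h
      · exact absurd h hw1
      · exact Or.inl h
      · exact Or.inr (Or.inl h)
      · exact Or.inr (Or.inr h)
    left
    refine ⟨t, ht, t * w, (hI w).mp hwI, ?_⟩
    rw [eq_top_iff, ← hgen, closure_le]
    intro d hd
    have hdI := hDI d hd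
    have htm : t ∈ closure ({t, t * w} : Set Γ) := subset_closure (by simp)
    have htwm : t * w ∈ closure ({t, t * w} : Set Γ) := subset_closure (by simp)
    have hwm : w ∈ closure ({t, t * w} : Set Γ) := by
      have h3 : t * (t * w) ∈ closure ({t, t * w} : Set Γ) := mul_mem htm htwm
      rwa [hcancel] at h3
    rw [SetLike.mem_coe, ← hcancel d]
    rcases hIsub _ hdI with h | h | h
    · rw [h]
      exact mul_mem htm (one_mem _)
    · rw [h]
      exact htwm
    · rw [h]
      exact mul_mem htm (inv_mem hwm)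
  · -- Case B
    have hB : ∀ c ∈ P, (∀ u ∈ P, Commute c u) → t * c * t = c := by
      intro c hc hcc
      by_contra hne'
      exact hA ⟨c, hc, hcc, hne'⟩
    by_cases hab : ∀ u ∈ P, ∀ v ∈ P, Commute u v
    · have hIone : ∀ p ∈ I, p = 1 := by
        intro p hp
        have e1 := hB p (hIP p hp) (fun u hu => hab p (hIP p hp) u hu)
        have e2 := hIinv p hp
        have e3 : p = p⁻¹ := e1.symm.trans e2
        have e4 : p * p = 1 := by
          nth_rewrite 2 [e3]
          exact mul_inv_cancel p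
        have e5 := hIcube p hp
        calc p = p ^ 3 * (p * p)⁻¹ := by group
          _ = 1 := by rw [e5, e4, inv_one, one_mul]
      left
      refine ⟨t, ht, t, ht, ?_⟩
      rw [eq_top_iff, ← hgen, closure_le]
      intro d hd
      have h := hIone _ (hDI d hd)
      have hd' : d = t := by
        have h2 : d = t⁻¹ := eq_inv_of_mul_eq_one_right h
        rw [h2, hti]
      rw [hd']
      exact subset_closure (by simp)
    · have hna : ∃ u ∈ P, ∃ v ∈ P, ¬ Commute u v := by
        by_contra hcon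
        apply hab
        intro u hu v hv
        by_contra huv
        exact hcon ⟨u, hu, v, hv, huv⟩
      have hcentΓ : ∀ c ∈ P, (∀ u ∈ P, Commute c u) → c ∈ center Γ := by
        intro c hc hcc
        have htc : t * c * t = c := hB c hc hcc
        have hct : Commute c t := by
          show c * t = t * c
          have h2 : t * c = c * t⁻¹ := eq_mul_inv_of_mul_eq htc
          rw [hti] at h2
          exact h2.symm
        have hle : closure D ≤ centralizer {c} := by
          rw [closure_le]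
          intro d hd
          rw [SetLike.mem_coe, mem_centralizer_iff]
          intro x hx
          rw [Set.mem_singleton_iff] at hx
          subst hx
          have hc2 : Commute x (t * d) := hcc _ (hIP _ (hDI d hd))
          have hc3 : Commute x (t * (t * d)) := hct.mul_right hc2
          rw [hcancel] at hc3
          exact hc3.eq
        rw [hgen] at hle
        rw [mem_center_iff]
        intro g
        have h2 := hle (mem_top g)
        rw [mem_centralizer_iff] at h2
        exact (h2 c rfl).symm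
      obtain ⟨x, hx, y, hy, hxy, hIxy⟩ := hcore P t I hPn hP3 htt hIP hIinv hIconv hclI hIcube
        (fun p hp q hq hpq => hI1 t ht p q ((hI p).mp hp) ((hI q).mp hq) hpq)
        (fun z₁ hz₁ z₂ hz₂ hc₁ hc₂ h₁ h₂ =>
          hZ z₁ (hcentΓ z₁ hz₁ hc₁) z₂ (hcentΓ z₂ hz₂ hc₂) h₁ h₂)
        hB hna
      right
      have hgen3 : closure ({t, t * x, t * y} : Set Γ) = ⊤ := by
        rw [eq_top_iff, ← hgen, closure_le]
        intro d hd
        have htm : t ∈ closure ({t, t * x, t * y} : Set Γ) := subset_closure (by simp)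
        have hxm : x ∈ closure ({t, t * x, t * y} : Set Γ) := by
          have h3 : t * (t * x) ∈ closure ({t, t * x, t * y} : Set Γ) :=
            mul_mem htm (subset_closure (by simp))
          rwa [hcancel] at h3
        have hym : y ∈ closure ({t, t * x, t * y} : Set Γ) := by
          have h3 : t * (t * y) ∈ closure ({t, t * x, t * y} : Set Γ) :=
            mul_mem htm (subset_closure (by simp))
          rwa [hcancel] at h3
        have hle : closure ({x, y} : Set Γ) ≤ closure ({t, t * x, t * y} : Set Γ) := by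
          rw [closure_le]
          intro z hz
          rcases hz with rfl | rfl
          · exact hxm
          · exact hym
        rw [SetLike.mem_coe, ← hcancel d]
        exact mul_mem htm (hle (hIxy _ (hDI d hd)))
      refine ⟨t, ht, t * x, (hI x).mp hx, t * y, (hI y).mp hy, hgen3, ?_⟩
      have hdvd : Nat.card Γ ∣ 54 :=
        card_dvd_of_three hD t (t * x) (t * y) ht ((hI x).mp hx) ((hI y).mp hy) hgen3
      have h27 : 27 ∣ Nat.card Γ :=
        (genm_card27 P hP3 hna).trans (Subgroup.card_subgroup_dvd_card P)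
      have h2 : 2 ∣ Nat.card Γ := by
        have h3 : orderOf t = 2 := orderOf_eq_prime (by rw [pow_two]; exact htt) ht1
        rw [← h3]
        exact orderOf_dvd_natCard t
      have h54 : 54 ∣ Nat.card Γ := by
        have h3 : 2 * 27 ∣ Nat.card Γ :=
          Nat.Coprime.mul_dvd_of_dvd_of_dvd (by norm_num) h2 h27
        exact h3
      exact Nat.dvd_antisymm hdvd h54

end Cfsg.Agent.Lib.helper25.TT59
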