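import Mathlib
import Cfsg.Prelude.Def_CaseTheorems
import Cfsg.Prelude.Def_Transfer
import Cfsg.Prelude.Def_TwoFusion
import Cfsg.Agent.Lib.helper25.WrG8
import Cfsg.Agent.Lib.helper25.Isolated

/-!
# Wreathed Sylow 2-subgroups: isolated involutions and fusion of central elements (helper25)
-/

set_option autoImplicit false
set_option linter.unusedSimpArgs false

namespace Cfsg.Agent.Lib.helper25

/-- If `c ≠ 1` commutes with `u` and `c * u` is conjugate to `u`, then `u` is not isolated. -/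
theorem not_isolated_of_conj_mul {G : Type*} [Group G] {u c : G} (hc : c ≠ 1)
    (hcu : Commute c u) (hconj : IsConj u (c * u)) : ¬ Cfsg.IsIsolatedInvolution u := by
  intro hu
  obtain ⟨g, hg⟩ := isConj_iff.mp hconj
  have h1 : Commute u (g * u * g⁻¹) := by
    rw [hg]; exact hcu.symm.mul_right (Commute.refl u)
  have h2 := hu.2 g h1
  rw [hg] at h2
  exact hc (mul_right_cancel (h2.trans (one_mul u).symm))

namespace WRSetup

variable {G : Type*} [Group G] [Finite G] {S : Sylow 2 G} {n : ℕ} {x y z : ↥(S : Subgroup G)}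

/-- In the case of three classes of involutions, the normal subgroup of index two given by
Thompson transfer contains `A`. -/
theorem exists_K1_AG (h : WRSetup ↥(S : Subgroup G) n x y z)
    (hnFU : ¬ IsConj (h.E (hh n) (hh n)) (h.E (hh n) 0))
    (hnFV : ¬ IsConj (h.E (hh n) 0) (z : G)) (hnζz : ¬ IsConj (h.E (hh n) (hh n)) (z : G)) :
    ∃ K : Subgroup G, K.Normal ∧ K.index = 2 ∧ (z : G) ∉ K ∧ h.AG ≤ K := by
  obtain ⟨K, hKn, hK2, hzK, hev2⟩ := h.exists_K1 hnFV hnζz
  have hxK : h.E 1 0 ∈ K := by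
    apply hev2
    intro g k hgS
    rw [h.E_nat_zero] at hgS ⊢
    obtain ⟨α, β, e | e⟩ := (h.mem_S_iff _).mp hgS
    · rw [e]; exact h.E_mem_AG α β
    · exfalso
      have hsq : g⁻¹ * h.E (2 * (k : ZMod (2 ^ n))) 0 * g⁻¹⁻¹ = h.E (α + β) (α + β) := by
        have e2 : h.E (2 * (k : ZMod (2 ^ n))) 0 = h.E k 0 * h.E k 0 := by
          rw [h.E_mul_E]; apply h.E_congr <;> ring
        have : g⁻¹ * h.E (2 * (k : ZMod (2 ^ n))) 0 * g⁻¹⁻¹ =
            (g⁻¹ * h.E k 0 * g) * (g⁻¹ * h.E k 0 * g) := by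
          rw [e2]; group
        rw [this, e, h.sq_E_z]
      obtain ⟨m, hm, hme⟩ := h.AG_control (h.E_mem_AG (2 * (k : ZMod (2 ^ n))) 0) g⁻¹
        (by rw [hsq]; exact h.E_mem_AG _ _)
      rw [hsq] at hme
      have hαβ : α + β = 0 := by
        rcases h.normalizer_AG_cases' hnFU hm with hc | hc
        · rw [hc] at hme
          exact (h.E_inj.mp hme).2.symm
        · rw [hc] at hme
          exact (h.E_inj.mp hme).1.symm
      have hβ : β = -α := by linear_combination hαβ
      rw [hβ] at e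
      have hcz : IsConj (h.E (k : ZMod (2 ^ n)) 0) (z : G) := by
        have h1 : IsConj (h.E (k : ZMod (2 ^ n)) 0) (h.E α (-α) * (z : G)) :=
          isConj_of_conj_eq g⁻¹ (by rw [inv_inv]; exact e)
        exact h1.trans (h.isConj_zG α).symm
      have ho : orderOf (h.E (k : ZMod (2 ^ n)) 0) = 2 := by
        rw [orderOf_eq_of_isConj hcz, h.orderOf_zG]
      rcases h.AG_inv_cases (h.E_mem_AG _ _) ho with e1 | e1 | e1
      · rw [e1] at hcz; exact hnFV hcz
      · rw [e1] at hcz; exact hnFV ((h.isConj_swap_G _ _).trans hcz)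
      · rw [e1] at hcz; exact hnζz hcz
  have hyK : h.E 0 1 ∈ K := by
    have := hKn.conj_mem _ hxK (z : G)
    rwa [h.zG_conj_E] at this
  have hAK : ∀ a b, h.E a b ∈ K := h.E_mem_of_gens K hxK hyK
  refine ⟨K, hKn, hK2, hzK, ?_⟩
  intro g hg
  obtain ⟨a, b, rfl⟩ := h.mem_AG.mp hg
  exact hAK a b

/-- If `ζ` is fused neither to `a₁` nor to `z`, then no central element of `S` is fused to a
different element of `S`. -/
theorem conj_cc_eq' (h : WRSetup ↥(S : Subgroup G) n x y z)
    (hnFU : ¬ IsConj (h.E (hh n) (hh n)) (h.E (hh n) 0))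
    (hnζz : ¬ IsConj (h.E (hh n) (hh n)) (z : G)) (g : G) (c : ZMod (2 ^ n))
    (hS : g * h.E c c * g⁻¹ ∈ (S : Subgroup G)) : g * h.E c c * g⁻¹ = h.E c c := by
  by_cases hFV : IsConj (h.E (hh n) 0) (z : G)
  · obtain ⟨K, hKn, hKi, hcomm, hE, hEz, hgen⟩ := h.exists_KQ hnFU hFV
    exact h.conj_cc_eq hnFU K hcomm hEz g c hS
  · obtain ⟨K, hKn, hK2, hzK, hAK⟩ := h.exists_K1_AG hnFU hFV hnζz
    have hbK : g * h.E c c * g⁻¹ ∈ K := hKn.conj_mem _ (hAK (h.E_mem_AG c c)) g
    obtain ⟨α, β, e | e⟩ := (h.mem_S_iff _).mp hS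
    · obtain ⟨m, hm, hme⟩ := h.AG_control (h.E_mem_AG c c) g (by rw [e]; exact h.E_mem_AG α β)
      rw [← hme]
      rcases h.normalizer_AG_cases' hnFU hm with hc | hc <;> exact hc c c
    · exfalso
      rw [e] at hbK
      exact hzK ((Subgroup.mul_mem_cancel_left K (hAK (h.E_mem_AG α β))).mp hbK)

omit [Finite G] in
/-- An isolated involution of `G` lying in `S` is the central involution `ζ`. -/
theorem isolated_eq_zeta (h : WRSetup ↥(S : Subgroup G) n x y z) {u : G}
    (huS : u ∈ (S : Subgroup G)) (hu : Cfsg.IsIsolatedInvolution u) :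
    u = h.E (hh n) (hh n) := by
  have h2h := two_hh h.hn1
  have hζ1 : h.E (hh n) (hh n) ≠ 1 := h.zeta_ne_one
  rcases h.involution_G huS hu.1 with e | e | e | ⟨a, e⟩
  · exfalso
    apply not_isolated_of_conj_mul hζ1 _ _ hu
    · exact (h.E_cc_comm huS (hh n)).symm
    · rw [e, h.E_mul_E]
      have : h.E (hh n + hh n) (hh n + 0) = h.E 0 (hh n) := by
        apply h.E_congr
        · linear_combination h2h
        · ring
      rw [this]
      exact h.isConj_swap_G _ _
  · exfalso
    apply not_isolated_of_conj_mul hζ1 _ _ hu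
    · exact (h.E_cc_comm huS (hh n)).symm
    · rw [e, h.E_mul_E]
      have : h.E (hh n + 0) (hh n + hh n) = h.E (hh n) 0 := by
        apply h.E_congr
        · ring
        · linear_combination h2h
      rw [this]
      exact h.isConj_swap_G _ _
  · exact e
  · exfalso
    have hprod : h.E (hh n) (hh n) * (h.E a (-a) * (z : G)) =
        h.E (a + hh n) (-(a + hh n)) * (z : G) := by
      rw [← mul_assoc, h.E_mul_E]
      congr 1
      apply h.E_congr
      · ring
      · linear_combination h2h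
    apply not_isolated_of_conj_mul hζ1 _ _ hu
    · exact (h.E_cc_comm huS (hh n)).symm
    · rw [e, hprod]
      exact (h.isConj_zG a).symm.trans (h.isConj_zG (a + hh n))

/-- If `ζ` is isolated in `G`, no central element of `S` is fused to a different element of `S`. -/
theorem conj_cc_eq_of_isolated (h : WRSetup ↥(S : Subgroup G) n x y z) {u : G}
    (huS : u ∈ (S : Subgroup G)) (hu : Cfsg.IsIsolatedInvolution u) (g : G) (c : ZMod (2 ^ n))
    (hS : g * h.E c c * g⁻¹ ∈ (S : Subgroup G)) : g * h.E c c * g⁻¹ = h.E c c := by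
  have hζ := h.isolated_eq_zeta huS hu
  rw [hζ] at hu
  have hcomm : ∀ t : G, t ∈ (S : Subgroup G) → Commute (h.E (hh n) (hh n)) t :=
    fun t ht => (h.E_cc_comm ht (hh n)).symm
  have hfix : ∀ t : G, t ∈ (S : Subgroup G) → IsConj (h.E (hh n) (hh n)) t →
      t = h.E (hh n) (hh n) := by
    intro t ht hc
    obtain ⟨g', hg'⟩ := isConj_iff.mp hc
    rw [← hg']
    apply hu.2
    rw [hg']
    exact hcomm t ht
  apply h.conj_cc_eq' _ _ g c hS
  · intro hc
    exact h.a1_ne_zeta (hfix _ (h.E_mem _ _) hc)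
  · intro hc
    have := hfix _ z.2 hc
    have h1 := h.E_mul_z_ne 0 0 (hh n) (hh n)
    rw [h.E_zero, one_mul] at h1
    exact h1 this

end WRSetup

end Cfsg.Agent.Lib.helper25
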