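import Mathlib
import Cfsg.Agent.Lib.helper25.ZStar
import Cfsg.Agent.Lib.helper25.Fus3
import Cfsg.Agent.Lib.helper1.Coprime

/-!
# Consequences of Glauberman's Z*-theorem, II (helper25)

`isolated_max_invariant_sylow`: for an isolated involution `z`, a maximal `z`-invariant
`p`-subgroup is a Sylow `p`-subgroup (statement S1187), assuming `ZStarHyp`.
-/

set_option autoImplicit false

namespace Cfsg.Agent.Lib.helper25

universe u

variable {G : Type u} [Group G] [Finite G]

/-- For an isolated involution `z`, a maximal `z`-invariant `p`-subgroup is a Sylow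
`p`-subgroup. -/
theorem isolated_max_invariant_sylow (hZ : ZStarHyp.{u}) (z : G)
    (hz : Cfsg.IsIsolatedInvolution z) {p : ℕ} [Fact p.Prime] (Q : Subgroup G)
    (hQ : IsPGroup p Q) (hzQ : z ∈ Subgroup.normalizer (Q : Set G))
    (hmax : ∀ R : Subgroup G, IsPGroup p R → z ∈ Subgroup.normalizer (R : Set G) → Q ≤ R → R = Q) :
    ∃ P : Sylow p G, (P : Subgroup G) = Q := by
  obtain ⟨P₁, hP₁⟩ := hQ.exists_le_sylow
  have hzz := isolated_mul_self hz
  have hAQ : Subgroup.zpowers z ≤ Subgroup.normalizer (Q : Set G) := Subgroup.zpowers_le.mpr hzQ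
  by_cases hp : p = 2
  · subst hp
    have hA2 : IsPGroup 2 (Subgroup.zpowers z) :=
      Cfsg.Agent.Lib.helper26.isPGroup_zpowers_of_pow z ⟨1, by rw [pow_one, pow_two]; exact hzz⟩
    have h1 : IsPGroup 2 (Subgroup.zpowers z ⊔ Q : Subgroup G) :=
      IsPGroup.to_sup_of_normal_right' hA2 hQ hAQ
    have h2 := hmax _ h1
      (Subgroup.le_normalizer (Subgroup.mem_sup_left (Subgroup.mem_zpowers z))) le_sup_right
    have hzQ' : z ∈ Q := by rw [← h2]; exact Subgroup.mem_sup_left (Subgroup.mem_zpowers z)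
    have h3 := hmax P₁ P₁.isPGroup' (Subgroup.le_normalizer (hP₁ hzQ')) hP₁
    exact ⟨P₁, h3⟩
  · have hpodd : Odd p := (Fact.out : p.Prime).odd_of_ne_two hp
    have hNodd : Odd (Nat.card (Cfsg.oddCore G)) :=
      Nat.coprime_two_right.mp (Cfsg.Agent.Lib.helper40.pPrimeCore_card_coprime 2 G)
    have hP₁odd : Odd (Nat.card (P₁ : Subgroup G)) := by
      obtain ⟨k, hk⟩ := IsPGroup.iff_card.mp P₁.isPGroup'
      rw [hk]; exact hpodd.pow
    obtain ⟨H, hHdef⟩ : ∃ H : Subgroup G, H = (P₁ : Subgroup G) ⊔ Cfsg.oddCore G := ⟨_, rfl⟩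
    have hP₁H : (P₁ : Subgroup G) ≤ H := by rw [hHdef]; exact le_sup_left
    have hNH : Cfsg.oddCore G ≤ H := by rw [hHdef]; exact le_sup_right
    have hHodd : Odd (Nat.card H) := by
      rw [hHdef]
      exact Odd.of_dvd_nat (hP₁odd.mul hNodd) (Cfsg.Agent.Lib.helper40.card_sup_dvd_mul _ _)
    have hAH : Subgroup.zpowers z ≤ Subgroup.normalizer (H : Set G) := by
      rw [Subgroup.zpowers_le]
      apply mem_normalizer_of_forall_conj
      intro h hh
      have h1 : z * h * z⁻¹ = (z * h * z⁻¹ * h⁻¹) * h := by group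
      rw [h1]
      exact mul_mem (hNH (zstar_isolated hZ z hz h)) hh
    have hcop : (Nat.card (Subgroup.zpowers z)).Coprime (Nat.card H) := by
      rw [Nat.card_zpowers, hz.1]
      exact Nat.coprime_two_left.mpr hHodd
    have hsolv : Group.IsSolvable (Subgroup.zpowers z) := by
      apply Group.isSolvable_of_comm
      intro a b
      obtain ⟨i, hi⟩ := Subgroup.mem_zpowers_iff.mp a.2
      obtain ⟨j, hj⟩ := Subgroup.mem_zpowers_iff.mp b.2
      apply Subtype.ext
      rw [Subgroup.coe_mul, Subgroup.coe_mul, ← hi, ← hj]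
      exact ((Commute.refl z).zpow_zpow i j).eq
    obtain ⟨P, hQP, hAP⟩ := Cfsg.Agent.Lib.helper1.exists_invariant_sylow_ge (p := p)
      (Subgroup.zpowers z) H hAH hcop (Or.inl hsolv) Q (hP₁.trans hP₁H) hQ hAQ
    have hR := hmax ((P : Subgroup ↥H).map H.subtype) (P.2.map _)
      (hAP (Subgroup.mem_zpowers z)) hQP
    have hcard : Nat.card Q = Nat.card (P₁ : Subgroup G) := by
      rw [← hR, Subgroup.card_map_of_injective H.subtype_injective]
      have h1 : Nat.card (P : Subgroup ↥H) = Nat.card ((P₁.subtype hP₁H : Sylow p ↥H) : Subgroup ↥H) :=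
        Nat.card_congr (Sylow.equiv P (P₁.subtype hP₁H)).toEquiv
      have h2 : Nat.card ((P₁.subtype hP₁H : Sylow p ↥H) : Subgroup ↥H) =
          Nat.card (P₁ : Subgroup G) := by
        rw [Sylow.coe_subtype]
        exact Nat.card_congr (Subgroup.subgroupOfEquivOfLe hP₁H).toEquiv
      exact h1.trans h2
    exact ⟨P₁, (Subgroup.eq_of_le_of_card_ge hP₁ hcard.ge).symm⟩

end Cfsg.Agent.Lib.helper25
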