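import Mathlib
import Cfsg.Prelude.Def_CaseTheorems
import Cfsg.Prelude.Def_Transfer
import Cfsg.Prelude.Def_TwoFusion
import Cfsg.Agent.Lib.helper25.ZStar4
import Cfsg.Agent.Lib.helper25.WrG9
import Cfsg.Agent.Lib.helper25.QDG

/-!
# Consequences of Glauberman's Z*-theorem, V (helper25)

Quasi-dihedral and wreathed Sylow 2-subgroups with an isolated involution: `O(X) Z(S)` is normal
(statement S1239), assuming `ZStarHyp`.
-/

set_option autoImplicit false

namespace Cfsg.Agent.Lib.helper25

universe u

/-- With an isolated involution in a quasi-dihedral or wreathed Sylow 2-subgroup `S`, no element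
of `Z(S)` is fused to a different element of `S`. -/
theorem center_isolated_of_isolated {X : Type u} [Group X] [Finite X] (S : Sylow 2 X)
    (hS : Cfsg.IsQuasiDihedral (S : Subgroup X) ∨ Cfsg.IsWreathed (S : Subgroup X)) (z : X)
    (hzS : z ∈ S) (hz : Cfsg.IsIsolatedInvolution z) (y' : X)
    (hy' : y' ∈ (Subgroup.center (S : Subgroup X)).map (S : Subgroup X).subtype) (g : X)
    (hg : g * y' * g⁻¹ ∈ S) : g * y' * g⁻¹ = y' := by
  rcases hS with hS | hS
  · obtain ⟨n, x, y, h⟩ := exists_qdSetup hS
    obtain ⟨s, hs, rfl⟩ := hy'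
    rcases (h.mem_center_iff s).mp hs with rfl | rfl
    · simp
    · have hzeq : z = ((h.xp (4 * tt n) : ↥(S : Subgroup X)) : X) := by
        have ho : orderOf (⟨z, hzS⟩ : ↥(S : Subgroup X)) = 2 := by
          rw [Subgroup.orderOf_mk]; exact hz.1
        rcases (h.involution_iff _).mp ho with e | ⟨b, e⟩
        · exact congrArg Subtype.val e
        · exfalso
          have hc1 : ((h.xp (4 * tt n) : ↥(S : Subgroup X)) : X) ≠ 1 := by
            intro h1
            have h2 : h.xp (4 * tt n) = 1 := Subtype.ext h1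
            rw [h.xp_eq_one_iff] at h2
            exact four_tt_ne_zero h.hn h2
          have hcomm : Commute ((h.xp (4 * tt n) : ↥(S : Subgroup X)) : X) z := by
            have h1 := Subgroup.mem_center_iff.mp
              ((h.mem_center_iff (h.xp (4 * tt n))).mpr (Or.inr rfl)) ⟨z, hzS⟩
            exact (congrArg Subtype.val h1).symm
          have hconj : IsConj z (((h.xp (4 * tt n) : ↥(S : Subgroup X)) : X) * z) := by
            have h1 : IsConj (h.xp (2 * b) * y) (h.xp (4 * tt n) * (h.xp (2 * b) * y)) := by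
              have h2 : h.xp (4 * tt n) * (h.xp (2 * b) * y) = h.xp (2 * (b + 2 * tt n)) * y := by
                rw [← mul_assoc, h.xp_mul_xp]
                congr 2
                ring
              rw [h2]
              exact (h.isConj_y b).symm.trans (h.isConj_y (b + 2 * tt n))
            have h3 := isConj_coe h1
            rw [← e] at h3
            exact h3
          exact not_isolated_of_conj_mul hc1 hcomm hconj hz
      have h4 : (S : Subgroup X).subtype (h.xp (4 * tt n)) = z := hzeq.symm
      rw [h4] at hg ⊢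
      exact isolated_sylow_unique hz S S.isPGroup' hzS g hg
  · obtain ⟨n, x, y, w, h⟩ := exists_wrSetup hS
    obtain ⟨c, rfl⟩ := h.mem_ZG.mp hy'
    exact h.conj_cc_eq_of_isolated hzS hz g c hg

/-- Statement S1239, modulo the Z*-theorem. -/
theorem oddCore_sup_center_normal (hZ : ZStarHyp.{u}) {X : Type u} [Group X] [Finite X]
    (S : Sylow 2 X)
    (hS : Cfsg.IsQuasiDihedral (S : Subgroup X) ∨ Cfsg.IsWreathed (S : Subgroup X)) (z : X)
    (hzS : z ∈ S) (hz : Cfsg.IsIsolatedInvolution z) :
    (Cfsg.oddCore X ⊔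
      (Subgroup.center (S : Subgroup X)).map (S : Subgroup X).subtype).Normal := by
  obtain ⟨t, htS, htc, hZeq⟩ :=
    exists_center_generator (S : Subgroup X) (isCyclic_center_of_qd_or_wr hS)
  have hiso : ∀ (j : ℕ) (g : X), g * t ^ j * g⁻¹ ∈ S → g * t ^ j * g⁻¹ = t ^ j := by
    intro j g hg
    apply center_isolated_of_isolated S hS z hzS hz (t ^ j) _ g hg
    rw [hZeq]
    exact Subgroup.pow_mem _ (Subgroup.mem_zpowers t) j
  have hcomm := commutator_mem_oddCore_of_isolated_powers hZ S t htS hiso
  rw [hZeq]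
  constructor
  intro a ha g
  have hle : (Cfsg.oddCore X ⊔ Subgroup.zpowers t).map (MulAut.conj g).toMonoidHom ≤
      Cfsg.oddCore X ⊔ Subgroup.zpowers t := by
    rw [Subgroup.map_sup]
    apply sup_le
    · rintro _ ⟨o, ho, rfl⟩
      apply Subgroup.mem_sup_left
      show g * o * g⁻¹ ∈ Cfsg.oddCore X
      exact (inferInstance : (Cfsg.oddCore X).Normal).conj_mem o ho g
    · rw [MonoidHom.map_zpowers, Subgroup.zpowers_le]
      show g * t * g⁻¹ ∈ Cfsg.oddCore X ⊔ Subgroup.zpowers t
      have h1 : g * t * g⁻¹ = (t * g * t⁻¹ * g⁻¹)⁻¹ * t := by group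
      rw [h1]
      exact mul_mem (Subgroup.mem_sup_left (inv_mem (hcomm g)))
        (Subgroup.mem_sup_right (Subgroup.mem_zpowers t))
  exact hle ⟨a, ha, rfl⟩

end Cfsg.Agent.Lib.helper25
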