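import Mathlib
import Cfsg.Agent.Lib.helper25.ZStar2

/-!
# Consequences of Glauberman's Z*-theorem, VI (helper25)

For an isolated involution `z` and a `z`-invariant Sylow `p`-subgroup `P`:
`C_P(z)` is a Sylow `p`-subgroup of `C_G(z)` (assuming `ZStarHyp`), and, for `P` of odd order,
`|P : C_P(z)|` is the number of elements of `P` inverted by `z` (statement S1253).
-/

set_option autoImplicit false

namespace Cfsg.Agent.Lib.helper25

universe u

variable {G : Type u} [Group G] [Finite G]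

omit [Finite G] in
/-- Coprime action of an involution: the index of `C_P(z)` in `P` is the number of elements of `P`
inverted by `z`. -/
theorem relIndex_centralizer_eq_card_inverted (z : G) (hzz : z * z = 1) (P : Subgroup G)
    (hodd : Odd (Nat.card P)) (hzP : z ∈ Subgroup.normalizer (P : Set G)) :
    (P ⊓ Subgroup.centralizer ({z} : Set G)).relIndex P =
      Nat.card {x : G // x ∈ P ∧ z * x * z⁻¹ = x⁻¹} := by
  have hzinv : z⁻¹ = z := inv_eq_self_of_mul_self hzz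
  have hmemK : ∀ x : ↥P, x ∈ (P ⊓ Subgroup.centralizer ({z} : Set G)).subgroupOf P ↔
      (x : G) * z = z * (x : G) := by
    intro x
    rw [Subgroup.mem_subgroupOf, Subgroup.mem_inf, Subgroup.mem_centralizer_iff]
    constructor
    · rintro ⟨_, h⟩
      exact (h z (Set.mem_singleton z)).symm
    · intro h
      exact ⟨x.2, fun y hy => by rw [Set.mem_singleton_iff.mp hy]; exact h.symm⟩
  have hfmem : ∀ x : ↥P, (x : G) * z * (x : G)⁻¹ * z⁻¹ ∈ P ∧
      z * ((x : G) * z * (x : G)⁻¹ * z⁻¹) * z⁻¹ = ((x : G) * z * (x : G)⁻¹ * z⁻¹)⁻¹ := by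
    intro x
    constructor
    · have h1 : z * (x : G)⁻¹ * z⁻¹ ∈ P :=
        (Subgroup.mem_normalizer_iff.mp hzP _).mp (inv_mem x.2)
      have h2 : (x : G) * z * (x : G)⁻¹ * z⁻¹ = (x : G) * (z * (x : G)⁻¹ * z⁻¹) := by group
      rw [h2]
      exact mul_mem x.2 h1
    · calc z * ((x : G) * z * (x : G)⁻¹ * z⁻¹) * z⁻¹
          = z * (x : G) * z * (x : G)⁻¹ * (z⁻¹ * z⁻¹) := by group
        _ = z * (x : G) * z * (x : G)⁻¹ := by rw [hzinv, hzz, mul_one]
        _ = z * (x : G) * z⁻¹ * (x : G)⁻¹ := by rw [hzinv]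
        _ = ((x : G) * z * (x : G)⁻¹ * z⁻¹)⁻¹ := by group
  let f : ↥P → {x : G // x ∈ P ∧ z * x * z⁻¹ = x⁻¹} := fun x =>
    ⟨(x : G) * z * (x : G)⁻¹ * z⁻¹, hfmem x⟩
  have hfeq : ∀ a b : ↥P, f a = f b ↔
      a⁻¹ * b ∈ (P ⊓ Subgroup.centralizer ({z} : Set G)).subgroupOf P := by
    intro a b
    rw [hmemK]
    constructor
    · intro h
      have h1 : (a : G) * z * (a : G)⁻¹ * z⁻¹ = (b : G) * z * (b : G)⁻¹ * z⁻¹ :=
        congrArg Subtype.val h
      have h2 : (a : G) * z * (a : G)⁻¹ = (b : G) * z * (b : G)⁻¹ := mul_right_cancel h1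
      rw [Subgroup.coe_mul, Subgroup.coe_inv]
      calc (a : G)⁻¹ * (b : G) * z = (a : G)⁻¹ * ((b : G) * z * (b : G)⁻¹) * (b : G) := by group
        _ = (a : G)⁻¹ * ((a : G) * z * (a : G)⁻¹) * (b : G) := by rw [h2]
        _ = z * ((a : G)⁻¹ * (b : G)) := by group
    · intro h
      rw [Subgroup.coe_mul, Subgroup.coe_inv] at h
      apply Subtype.ext
      show (a : G) * z * (a : G)⁻¹ * z⁻¹ = (b : G) * z * (b : G)⁻¹ * z⁻¹
      have h2 : (b : G) * z * (b : G)⁻¹ = (a : G) * z * (a : G)⁻¹ := by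
        calc (b : G) * z * (b : G)⁻¹ = (a : G) * ((a : G)⁻¹ * (b : G) * z) * (b : G)⁻¹ := by group
          _ = (a : G) * (z * ((a : G)⁻¹ * (b : G))) * (b : G)⁻¹ := by rw [h]
          _ = (a : G) * z * (a : G)⁻¹ := by group
      rw [h2]
  have hfsurj : Function.Surjective f := by
    rintro ⟨i, hiP, hi⟩
    have hio : Odd (orderOf i) := by
      have h1 : orderOf i ∣ Nat.card P := by
        have := orderOf_dvd_natCard (⟨i, hiP⟩ : ↥P)
        rwa [Subgroup.orderOf_mk] at this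
      exact Odd.of_dvd_nat hodd h1
    obtain ⟨m, hm⟩ := hio
    have hjj : i ^ (m + 1) * i ^ (m + 1) = i := by
      rw [← pow_add]
      have : m + 1 + (m + 1) = orderOf i + 1 := by omega
      rw [this, pow_succ, pow_orderOf_eq_one, one_mul]
    have hjinv : z * i ^ (m + 1) * z⁻¹ = (i ^ (m + 1))⁻¹ := by
      rw [← conj_pow, hi, inv_pow]
    refine ⟨⟨i ^ (m + 1), Subgroup.pow_mem _ hiP _⟩, ?_⟩
    apply Subtype.ext
    show i ^ (m + 1) * z * (i ^ (m + 1))⁻¹ * z⁻¹ = i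
    calc i ^ (m + 1) * z * (i ^ (m + 1))⁻¹ * z⁻¹
        = i ^ (m + 1) * (z * i ^ (m + 1) * z⁻¹)⁻¹ := by group
      _ = i ^ (m + 1) * i ^ (m + 1) := by rw [hjinv, inv_inv]
      _ = i := hjj
  let φ : ↥P ⧸ (P ⊓ Subgroup.centralizer ({z} : Set G)).subgroupOf P →
      {x : G // x ∈ P ∧ z * x * z⁻¹ = x⁻¹} := fun q =>
    Quotient.liftOn' q f (fun a b hab => (hfeq a b).mpr (QuotientGroup.leftRel_apply.mp hab))
  have hφ : Function.Bijective φ := by
    constructor
    · intro q₁ q₂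
      refine Quotient.inductionOn₂' q₁ q₂ ?_
      intro a b hab
      exact Quotient.sound' (QuotientGroup.leftRel_apply.mpr ((hfeq a b).mp hab))
    · intro y
      obtain ⟨x, hx⟩ := hfsurj y
      exact ⟨Quotient.mk'' x, hx⟩
  exact Nat.card_congr (Equiv.ofBijective φ hφ)

/-- For an isolated involution `z` and a `z`-invariant Sylow `p`-subgroup `P`, `C_P(z)` is a
Sylow `p`-subgroup of `C_G(z)`. -/
theorem isolated_centralizer_sylow (hZ : ZStarHyp.{u}) (z : G)
    (hz : Cfsg.IsIsolatedInvolution z) {p : ℕ} [Fact p.Prime] (P : Sylow p G)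
    (hzP : z ∈ Subgroup.normalizer ((P : Subgroup G) : Set G)) :
    ¬ p ∣ ((P : Subgroup G) ⊓ Subgroup.centralizer ({z} : Set G)).relIndex
      (Subgroup.centralizer ({z} : Set G)) := by
  have hzz := isolated_mul_self hz
  have hzinv := isolated_inv hz
  obtain ⟨C, hC⟩ : ∃ C : Subgroup G, C = Subgroup.centralizer ({z} : Set G) := ⟨_, rfl⟩
  rw [← hC]
  have hmemC : ∀ x : G, x ∈ C ↔ x * z = z * x := by
    intro x
    rw [hC, Subgroup.mem_centralizer_iff]
    constructor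
    · intro h
      exact (h z (Set.mem_singleton z)).symm
    · intro h y hy
      rw [Set.mem_singleton_iff.mp hy]; exact h.symm
  have hKp : IsPGroup p (((P : Subgroup G) ⊓ C).subgroupOf C) :=
    (P.isPGroup'.to_le inf_le_left).comap_of_injective C.subtype (Subgroup.subtype_injective C)
  obtain ⟨S', hS'⟩ := hKp.exists_le_sylow
  obtain ⟨Q, hQ⟩ : ∃ Q : Subgroup G, Q = (S' : Subgroup ↥C).map C.subtype := ⟨_, rfl⟩
  have hQp : IsPGroup p Q := by rw [hQ]; exact S'.isPGroup'.map _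
  have hQC : Q ≤ C := by
    rw [hQ]; rintro _ ⟨x, _, rfl⟩; exact x.2
  have hzQ : z ∈ Subgroup.normalizer (Q : Set G) := by
    apply mem_normalizer_of_forall_conj
    intro q hq
    have h1 := (hmemC q).mp (hQC hq)
    have h2 : z * q * z⁻¹ = q := by rw [← h1, mul_inv_cancel_right]
    rw [h2]; exact hq
  obtain ⟨Q₁, hQQ₁, hQ₁max⟩ :=
    (Set.toFinite {R : Subgroup G | IsPGroup p R ∧ z ∈ Subgroup.normalizer (R : Set G)}).exists_le_maximal
      (show Q ∈ {R : Subgroup G | IsPGroup p R ∧ z ∈ Subgroup.normalizer (R : Set G)} from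
        ⟨hQp, hzQ⟩)
  obtain ⟨P₁, hP₁⟩ := isolated_max_invariant_sylow hZ z hz Q₁ hQ₁max.prop.1 hQ₁max.prop.2
    (fun R hR hzR hle => le_antisymm (hQ₁max.le_of_ge ⟨hR, hzR⟩ hle) hle)
  obtain ⟨g, hg⟩ := Cfsg.Agent.Lib.helper26.sylow_conj' P P₁
  have hzP₁ : z ∈ Subgroup.normalizer ((P₁ : Subgroup G) : Set G) := by
    rw [hP₁]; exact hQ₁max.prop.2
  have hgz : g⁻¹ * z * g⁻¹⁻¹ ∈ Subgroup.normalizer ((P : Subgroup G) : Set G) := by
    apply mem_normalizer_of_forall_conj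
    intro x hx
    rw [hg]
    have h1 : g * (g⁻¹ * z * g⁻¹⁻¹ * x * (g⁻¹ * z * g⁻¹⁻¹)⁻¹) * g⁻¹ = z * (g * x * g⁻¹) * z⁻¹ := by
      group
    rw [h1]
    exact (Subgroup.mem_normalizer_iff.mp hzP₁ _).mp ((hg x).mp hx)
  obtain ⟨h, hhN, hh⟩ := isolated_conj_in_subgroup hz _ hzP g⁻¹ hgz
  have hcz : (g * h) * z = z * (g * h) := by
    calc (g * h) * z = g * (h * z * h⁻¹) * h := by group
      _ = g * (g⁻¹ * z * g⁻¹⁻¹) * h := by rw [hh]
      _ = z * (g * h) := by group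
  have hcC : g * h ∈ C := (hmemC _).mpr hcz
  have hle : Q.map (MulAut.conj (g * h)⁻¹).toMonoidHom ≤ (P : Subgroup G) ⊓ C := by
    rintro _ ⟨q, hq, rfl⟩
    show (g * h)⁻¹ * q * (g * h)⁻¹⁻¹ ∈ (P : Subgroup G) ⊓ C
    refine Subgroup.mem_inf.mpr ⟨?_, ?_⟩
    · have hq₁ : q ∈ (P₁ : Subgroup G) := by rw [hP₁]; exact hQQ₁ hq
      have h1 : g⁻¹ * q * g ∈ (P : Subgroup G) := by
        rw [hg]
        have : g * (g⁻¹ * q * g) * g⁻¹ = q := by group
        rw [this]; exact hq₁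
      have h2 := (Subgroup.mem_normalizer_iff.mp (inv_mem hhN) _).mp h1
      have h3 : (g * h)⁻¹ * q * (g * h)⁻¹⁻¹ = h⁻¹ * (g⁻¹ * q * g) * h⁻¹⁻¹ := by group
      rw [h3]; exact h2
    · exact mul_mem (mul_mem (inv_mem hcC) (hQC hq)) (inv_mem (inv_mem hcC))
  have hcard1 : Nat.card Q ≤ Nat.card ((P : Subgroup G) ⊓ C : Subgroup G) := by
    have h1 : Nat.card (Q.map (MulAut.conj (g * h)⁻¹).toMonoidHom) = Nat.card Q :=
      Subgroup.card_map_of_injective (MulAut.conj (g * h)⁻¹).injective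
    rw [← h1]
    exact Subgroup.card_le_of_le hle
  have hcard2 : Nat.card (S' : Subgroup ↥C) = Nat.card Q := by
    rw [hQ, Subgroup.card_map_of_injective C.subtype_injective]
  have hcard3 : Nat.card (((P : Subgroup G) ⊓ C).subgroupOf C) =
      Nat.card ((P : Subgroup G) ⊓ C : Subgroup G) :=
    Nat.card_congr (Subgroup.subgroupOfEquivOfLe inf_le_right).toEquiv
  have heq : ((P : Subgroup G) ⊓ C).subgroupOf C = (S' : Subgroup ↥C) :=
    Subgroup.eq_of_le_of_card_ge hS' (by rw [hcard2, hcard3]; exact hcard1)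
  show ¬ p ∣ (((P : Subgroup G) ⊓ C).subgroupOf C).index
  rw [heq]
  exact S'.not_dvd_index

end Cfsg.Agent.Lib.helper25
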