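import Mathlib
import Cfsg.Agent.Lib.helper25.ZStar3

/-!
# Consequences of Glauberman's Z*-theorem, VII (helper25)

`stronglyClosed_disjoint_centralizes`: a strongly closed 2-subgroup `A` normalizing a subgroup
`H` with `O(H) = 1` and `A ∩ H = 1` centralizes `H` (statement S1251), assuming `ZStarHyp`.
-/

set_option autoImplicit false

namespace Cfsg.Agent.Lib.helper25

universe u

variable {G : Type u} [Group G]

/-- The subgroup of the elements `g` normalizing `H` with `[g, b] ∈ H`. -/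
def commModSub (H : Subgroup G) (b : G) : Subgroup G where
  carrier := {g | g ∈ Subgroup.normalizer (H : Set G) ∧ g * b * g⁻¹ * b⁻¹ ∈ H}
  one_mem' := ⟨one_mem _, by simp⟩
  mul_mem' := by
    rintro g₁ g₂ ⟨h1, h1'⟩ ⟨h2, h2'⟩
    refine ⟨mul_mem h1 h2, ?_⟩
    have e : g₁ * g₂ * b * (g₁ * g₂)⁻¹ * b⁻¹ =
        g₁ * (g₂ * b * g₂⁻¹ * b⁻¹) * g₁⁻¹ * (g₁ * b * g₁⁻¹ * b⁻¹) := by group
    rw [e]
    exact mul_mem ((Subgroup.mem_normalizer_iff.mp h1 _).mp h2') h1'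
  inv_mem' := by
    rintro g ⟨h1, h1'⟩
    refine ⟨inv_mem h1, ?_⟩
    have e : g⁻¹ * b * g⁻¹⁻¹ * b⁻¹ = g⁻¹ * (g * b * g⁻¹ * b⁻¹)⁻¹ * g⁻¹⁻¹ := by group
    rw [e]
    exact (Subgroup.mem_normalizer_iff.mp (inv_mem h1) _).mp (inv_mem h1')

theorem le_commModSub (H : Subgroup G) (a : G) (ha : a ∈ Subgroup.normalizer (H : Set G))
    (j : ℕ) : H ⊔ Subgroup.zpowers a ≤ commModSub H (a ^ j) := by
  refine sup_le ?_ ?_
  · intro h hh
    refine ⟨Subgroup.le_normalizer hh, ?_⟩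
    have e : h * a ^ j * h⁻¹ * (a ^ j)⁻¹ = h * (a ^ j * h⁻¹ * (a ^ j)⁻¹) := by group
    rw [e]
    exact mul_mem hh ((Subgroup.mem_normalizer_iff.mp (Subgroup.pow_mem _ ha j) _).mp (inv_mem hh))
  · rw [Subgroup.zpowers_le]
    refine ⟨ha, ?_⟩
    have e : a * a ^ j * a⁻¹ * (a ^ j)⁻¹ = 1 := by
      rw [(Commute.self_pow a j).eq]; group
    rw [e]; exact one_mem _

/-- A strongly closed 2-subgroup `A` normalizing a subgroup `H` with trivial odd core and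
`A ∩ H = 1` centralizes `H`. -/
theorem stronglyClosed_disjoint_centralizes [Finite G] (hZ : ZStarHyp.{u}) (S : Sylow 2 G)
    (A : Subgroup G) (hA : Cfsg.IsStronglyClosed A (S : Subgroup G)) (H : Subgroup G)
    (hAH : A ≤ Subgroup.normalizer (H : Set G)) (hO : Cfsg.oddCore ↥H = ⊥) (hdisj : A ⊓ H = ⊥) :
    A ≤ Subgroup.centralizer (H : Set G) := by
  have : Fact (Nat.Prime 2) := ⟨Nat.prime_two⟩
  -- Step 1: no nontrivial element of `A` is fused into `H`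
  have hfus : ∀ w ∈ A, ∀ x : G, x * w * x⁻¹ ∈ H → w = 1 := by
    obtain ⟨X, hX⟩ : ∃ X : Subgroup G, X = H ⊔ A := ⟨_, rfl⟩
    have hHX : H ≤ X := by rw [hX]; exact le_sup_left
    have hAX : A ≤ X := by rw [hX]; exact le_sup_right
    have hXN : X ≤ Subgroup.normalizer (H : Set G) := by
      rw [hX]; exact sup_le Subgroup.le_normalizer hAH
    have hA2 : IsPGroup 2 (A.subgroupOf X) :=
      (S.isPGroup'.to_le hA.1).comap_of_injective X.subtype (Subgroup.subtype_injective X)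
    obtain ⟨S₁, hS₁⟩ := hA2.exists_le_sylow
    obtain ⟨g, hg⟩ := Cfsg.Agent.Lib.helper26.exists_conj_le_sylow S
      ((S₁ : Subgroup ↥X).map X.subtype) (S₁.isPGroup'.map _)
    have hgA : ∀ a' ∈ A, g * a' * g⁻¹ ∈ A := by
      intro a' ha'
      apply hA.2 a' ha' g
      apply hg
      exact ⟨⟨a', hAX ha'⟩, hS₁ (Subgroup.mem_subgroupOf.mpr ha'), rfl⟩
    have hgA' : A.map (MulAut.conj g).toMonoidHom = A := by
      apply Subgroup.eq_of_le_of_card_ge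
      · rintro _ ⟨a', ha', rfl⟩; exact hgA a' ha'
      · rw [Subgroup.card_map_of_injective (MulAut.conj g).injective]
    intro w hw x hx
    obtain ⟨k, hk⟩ := Cfsg.Agent.Lib.helper26.pow_eq_one_of_mem_sylow S (hA.1 hw)
    have hk' : (⟨x * w * x⁻¹, hHX hx⟩ : ↥X) ^ 2 ^ k = 1 := by
      apply Subtype.ext
      show (x * w * x⁻¹) ^ 2 ^ k = 1
      rw [conj_pow, hk]; group
    obtain ⟨y, hy⟩ := Cfsg.Agent.Lib.helper26.exists_conj_mem_sylow S₁ _ ⟨k, hk'⟩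
    have h1 : g * ((y : G) * (x * w * x⁻¹) * (y : G)⁻¹) * g⁻¹ ∈ (S : Subgroup G) :=
      hg _ ⟨_, hy, rfl⟩
    have h2 : g * ((y : G) * (x * w * x⁻¹) * (y : G)⁻¹) * g⁻¹ =
        (g * y * x) * w * (g * y * x)⁻¹ := by group
    have h3 : g * ((y : G) * (x * w * x⁻¹) * (y : G)⁻¹) * g⁻¹ ∈ A := by
      rw [h2] at h1 ⊢; exact hA.2 w hw _ h1
    have h4 : (y : G) * (x * w * x⁻¹) * (y : G)⁻¹ ∈ A := by
      rw [← hgA'] at h3
      obtain ⟨a', ha', hae⟩ := h3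
      have hae' : g * a' * g⁻¹ = g * ((y : G) * (x * w * x⁻¹) * (y : G)⁻¹) * g⁻¹ := hae
      have : a' = (y : G) * (x * w * x⁻¹) * (y : G)⁻¹ :=
        mul_left_cancel (mul_right_cancel hae')
      rw [← this]; exact ha'
    have h5 : (y : G) * (x * w * x⁻¹) * (y : G)⁻¹ ∈ H :=
      (Subgroup.mem_normalizer_iff.mp (hXN y.2) _).mp hx
    have h6 : (y : G) * (x * w * x⁻¹) * (y : G)⁻¹ = 1 := by
      have : (y : G) * (x * w * x⁻¹) * (y : G)⁻¹ ∈ A ⊓ H := Subgroup.mem_inf.mpr ⟨h4, h5⟩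
      rw [hdisj] at this
      exact Subgroup.mem_bot.mp this
    have h7 : w = ((y : G) * x)⁻¹ * ((y : G) * (x * w * x⁻¹) * (y : G)⁻¹) * ((y : G) * x) := by
      group
    rw [h7, h6]; group
  -- Step 2: the cyclic Z*-theorem in `H⟨a⟩`
  intro a ha
  rw [Subgroup.mem_centralizer_iff]
  intro h hh
  obtain ⟨G₁, hG₁⟩ : ∃ G₁ : Subgroup G, G₁ = H ⊔ Subgroup.zpowers a := ⟨_, rfl⟩
  have hHG₁ : H ≤ G₁ := by rw [hG₁]; exact le_sup_left
  have haG₁ : a ∈ G₁ := by rw [hG₁]; exact Subgroup.mem_sup_right (Subgroup.mem_zpowers a)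
  have haN : a ∈ Subgroup.normalizer (H : Set G) := hAH ha
  obtain ⟨k, hk⟩ := Cfsg.Agent.Lib.helper26.pow_eq_one_of_mem_sylow S (hA.1 ha)
  have ht2 : IsPGroup 2 (Subgroup.zpowers (⟨a, haG₁⟩ : ↥G₁)) :=
    Cfsg.Agent.Lib.helper26.isPGroup_zpowers_of_pow _ ⟨k, Subtype.ext hk⟩
  obtain ⟨P₁, hP₁⟩ := ht2.exists_le_sylow
  have htP₁ : (⟨a, haG₁⟩ : ↥G₁) ∈ P₁ := hP₁ (Subgroup.mem_zpowers _)
  obtain ⟨x, hx⟩ := Cfsg.Agent.Lib.helper26.exists_conj_le_sylow S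
    ((P₁ : Subgroup ↥G₁).map G₁.subtype) (P₁.isPGroup'.map _)
  have hiso : ∀ (j : ℕ) (g : ↥G₁), g * (⟨a, haG₁⟩ : ↥G₁) ^ j * g⁻¹ ∈ P₁ →
      g * (⟨a, haG₁⟩ : ↥G₁) ^ j * g⁻¹ = (⟨a, haG₁⟩ : ↥G₁) ^ j := by
    intro j g hgj
    have hajA : a ^ j ∈ A := Subgroup.pow_mem _ ha j
    have hu : x * a ^ j * x⁻¹ ∈ A := by
      apply hA.2 _ hajA x
      apply hx
      exact ⟨⟨a, haG₁⟩ ^ j, Subgroup.pow_mem _ htP₁ j, rfl⟩
    have hv : x * ((g : G) * a ^ j * (g : G)⁻¹) * x⁻¹ ∈ A := by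
      have h1 : x * ((g : G) * a ^ j * (g : G)⁻¹) * x⁻¹ ∈ (S : Subgroup G) :=
        hx _ ⟨_, hgj, rfl⟩
      have h2 : x * ((g : G) * a ^ j * (g : G)⁻¹) * x⁻¹ = (x * g) * a ^ j * (x * g)⁻¹ := by
        group
      rw [h2] at h1 ⊢
      exact hA.2 _ hajA _ h1
    have hd : (g : G) * a ^ j * (g : G)⁻¹ * (a ^ j)⁻¹ ∈ H :=
      (le_commModSub H a haN j (by rw [← hG₁]; exact g.2)).2
    have hw : x * ((g : G) * a ^ j * (g : G)⁻¹) * x⁻¹ * (x * a ^ j * x⁻¹)⁻¹ = 1 := by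
      apply hfus _ (mul_mem hv (inv_mem hu)) x⁻¹
      have e : x⁻¹ * (x * ((g : G) * a ^ j * (g : G)⁻¹) * x⁻¹ * (x * a ^ j * x⁻¹)⁻¹) * x⁻¹⁻¹ =
          (g : G) * a ^ j * (g : G)⁻¹ * (a ^ j)⁻¹ := by group
      rw [e]; exact hd
    apply Subtype.ext
    show (g : G) * a ^ j * (g : G)⁻¹ = a ^ j
    have h3 : x * ((g : G) * a ^ j * (g : G)⁻¹) * x⁻¹ = x * a ^ j * x⁻¹ := by
      rw [← mul_inv_eq_one]; exact hw
    exact mul_left_cancel (mul_right_cancel h3)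
  have hcomm := commutator_mem_oddCore_of_isolated_powers hZ P₁ ⟨a, haG₁⟩ htP₁ hiso
    ⟨h, hHG₁ hh⟩
  -- the odd core of `H⟨a⟩` meets `H` trivially
  obtain ⟨N, hN⟩ : ∃ N : Subgroup ↥H,
      N = ((Cfsg.oddCore ↥G₁).map G₁.subtype).subgroupOf H := ⟨_, rfl⟩
  have hNn : N.Normal := by
    refine ⟨fun n hn y => ?_⟩
    rw [hN, Subgroup.mem_subgroupOf] at hn ⊢
    obtain ⟨o, ho, hoe⟩ := hn
    have hOn : (Cfsg.oddCore ↥G₁).Normal := inferInstance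
    refine ⟨⟨y, hHG₁ y.2⟩ * o * ⟨y, hHG₁ y.2⟩⁻¹, hOn.conj_mem o ho _, ?_⟩
    show (y : G) * (o : G) * (y : G)⁻¹ = (y : G) * (n : G) * (y : G)⁻¹
    have hoe' : (o : G) = (n : G) := hoe
    rw [hoe']
  have hOodd : Odd (Nat.card (Cfsg.oddCore ↥G₁)) :=
    Nat.coprime_two_right.mp (Cfsg.Agent.Lib.helper40.pPrimeCore_card_coprime 2 ↥G₁)
  have hNodd : Odd (Nat.card N) := by
    have h1 : N.map H.subtype ≤ (Cfsg.oddCore ↥G₁).map G₁.subtype := by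
      rintro _ ⟨n, hn, rfl⟩
      rw [hN] at hn
      exact Subgroup.mem_subgroupOf.mp hn
    have h2 := Subgroup.card_dvd_of_le h1
    rw [Subgroup.card_map_of_injective H.subtype_injective,
      Subgroup.card_map_of_injective G₁.subtype_injective] at h2
    exact Odd.of_dvd_nat hOodd h2
  have hNbot : N = ⊥ := by
    have := le_oddCore_of_odd N hNn hNodd
    rw [hO] at this
    exact le_bot_iff.mp this
  have hcH : a * h * a⁻¹ * h⁻¹ ∈ H :=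
    mul_mem ((Subgroup.mem_normalizer_iff.mp haN _).mp hh) (inv_mem hh)
  have hcN : (⟨a * h * a⁻¹ * h⁻¹, hcH⟩ : ↥H) ∈ N := by
    rw [hN, Subgroup.mem_subgroupOf]
    exact ⟨_, hcomm, rfl⟩
  rw [hNbot, Subgroup.mem_bot] at hcN
  have hc1 : a * h * a⁻¹ * h⁻¹ = 1 := congrArg Subtype.val hcN
  calc h * a = (a * h * a⁻¹ * h⁻¹)⁻¹ * (a * h) := by group
    _ = a * h := by rw [hc1, inv_one, one_mul]

end Cfsg.Agent.Lib.helper25
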